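import Mathlib
import Cfsg.Prelude.Def_GeometricClasses
import Cfsg.Agent.Classical.SL

/-! Rank-one elements `1 + x φ` in a group of matrices. -/

set_option autoImplicit false
set_option linter.unusedSimpArgs false
set_option linter.unusedSectionVars false
set_option linter.flexible false

namespace Cfsg.Lib.Classical.LinOne

open Matrix
open scoped MatrixGroups

universe u v

variable {ι : Type v} [Fintype ι] [DecidableEq ι] {F : Type u} [Field F] {G : Subgroup (GL ι F)}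

/-- `1 + x φ` lies in the group. -/
def One (G : Subgroup (GL ι F)) (x φ : ι → F) : Prop :=
  ∃ g ∈ G, (g : Matrix ι ι F) = 1 + vecMulVec x φ

theorem one_mul_one (x φ y ψ : ι → F) :
    (1 + vecMulVec x φ) * (1 + vecMulVec y ψ) =
      1 + vecMulVec x φ + vecMulVec y ψ + vecMulVec ((φ ⬝ᵥ y) • x) ψ := by
  rw [add_mul, one_mul, mul_add, mul_one, vecMulVec_mul_vecMulVec, vecMulVec_smul, smul_vecMulVec]
  abel

theorem one_mulVec' (x φ v : ι → F) : (1 + vecMulVec x φ) *ᵥ v = v + (φ ⬝ᵥ v) • x := by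
  rw [add_mulVec, one_mulVec, vecMulVec_mulVec, op_smul_eq_smul]

theorem vecMul_one' (x φ v : ι → F) : v ᵥ* (1 + vecMulVec x φ) = v + (v ⬝ᵥ x) • φ := by
  rw [vecMul_add, vecMul_one, vecMul_vecMulVec]

theorem One.zero (x : ι → F) : One G x 0 := ⟨1, G.one_mem, by simp⟩

theorem One.congr {x φ y ψ : ι → F} (h : One G x φ) (e : vecMulVec x φ = vecMulVec y ψ) : One G y ψ := by
  obtain ⟨g, hg, hgv⟩ := h
  exact ⟨g, hg, hgv.trans (by rw [e])⟩

theorem One.scale {x φ : ι → F} (h : One G x φ) {a b : F} (hab : a * b = 1) : One G (a • x) (b • φ) :=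
  h.congr (by rw [smul_vecMulVec, vecMulVec_smul, smul_smul, hab, one_smul])

theorem One.smul_left {x φ : ι → F} {a : F} (h : One G (a • x) φ) : One G x (a • φ) :=
  h.congr (by rw [smul_vecMulVec, vecMulVec_smul])

theorem One.smul_right {x φ : ι → F} {a : F} (h : One G x (a • φ)) : One G (a • x) φ :=
  h.congr (by rw [smul_vecMulVec, vecMulVec_smul])

theorem One.mulR {x φ ψ : ι → F} (h : One G x φ) (h' : One G x ψ) :
    One G x (φ + ψ + (φ ⬝ᵥ x) • ψ) := by
  obtain ⟨g, hg, hgv⟩ := h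
  obtain ⟨g', hg', hgv'⟩ := h'
  refine ⟨g * g', G.mul_mem hg hg', ?_⟩
  rw [Units.val_mul, hgv, hgv', one_mul_one, vecMulVec_add, vecMulVec_add, smul_vecMulVec, vecMulVec_smul]
  abel

theorem One.mulL {x φ y : ι → F} (h : One G x φ) (h' : One G y φ) :
    One G (x + y + (φ ⬝ᵥ y) • x) φ := by
  obtain ⟨g, hg, hgv⟩ := h
  obtain ⟨g', hg', hgv'⟩ := h'
  refine ⟨g * g', G.mul_mem hg hg', ?_⟩
  rw [Units.val_mul, hgv, hgv', one_mul_one, add_vecMulVec, add_vecMulVec]
  abel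

theorem One.addR {x φ ψ : ι → F} (h : One G x φ) (h' : One G x ψ) (h0 : φ ⬝ᵥ x = 0) : One G x (φ + ψ) := by
  have := h.mulR h'
  rwa [h0, zero_smul, add_zero] at this

theorem One.addL {x φ y : ι → F} (h : One G x φ) (h' : One G y φ) (h0 : φ ⬝ᵥ y = 0) : One G (x + y) φ := by
  have := h.mulL h'
  rwa [h0, zero_smul, add_zero] at this

theorem One.inv {x φ : ι → F} (h : One G x φ) {c : F} (hc : 1 + c + (φ ⬝ᵥ x) * c = 0) :
    One G x (c • φ) := by
  obtain ⟨g, hg, hgv⟩ := h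
  refine ⟨g⁻¹, G.inv_mem hg, ?_⟩
  rw [Matrix.coe_units_inv, hgv]
  refine Matrix.inv_eq_right_inv ?_
  rw [one_mul_one, vecMulVec_smul, smul_vecMulVec, vecMulVec_smul, smul_smul]
  rw [show vecMulVec x φ = (1 : F) • vecMulVec x φ from (one_smul F _).symm, smul_smul, smul_smul, add_assoc,
    add_assoc, ← add_smul, ← add_smul,
    show (1 : F) + (c * 1 + (φ ⬝ᵥ x) * c * 1) = 0 by linear_combination hc, zero_smul, add_zero]

theorem One.neg {x φ : ι → F} (h : One G x φ) (h0 : φ ⬝ᵥ x = 0) : One G x (-φ) := by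
  have := h.inv (c := -1) (by rw [h0]; ring)
  rwa [neg_one_smul] at this

theorem One.negL {x φ : ι → F} (h : One G x φ) (h0 : φ ⬝ᵥ x = 0) : One G (-x) φ :=
  (h.neg h0).congr (by rw [vecMulVec_neg, neg_vecMulVec])

theorem One.conj {x φ : ι → F} (h : One G x φ) {k : GL ι F} (hk : k ∈ G) :
    One G ((k : Matrix ι ι F) *ᵥ x) (φ ᵥ* ((k⁻¹ : GL ι F) : Matrix ι ι F)) := by
  obtain ⟨g, hg, hgv⟩ := h
  refine ⟨k * g * k⁻¹, G.mul_mem (G.mul_mem hk hg) (G.inv_mem hk), ?_⟩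
  rw [Units.val_mul, Units.val_mul, hgv, mul_add, mul_one, add_mul, mul_vecMulVec, vecMulVec_mul, ← Units.val_mul,
    mul_inv_cancel, Units.val_one]

theorem dot_conj (k : GL ι F) (x φ : ι → F) :
    (φ ᵥ* ((k⁻¹ : GL ι F) : Matrix ι ι F)) ⬝ᵥ ((k : Matrix ι ι F) *ᵥ x) = φ ⬝ᵥ x := by
  rw [← dotProduct_mulVec, mulVec_mulVec, ← Units.val_mul, inv_mul_cancel, Units.val_one, one_mulVec]

theorem vecMul_inv_eq {k : GL ι F} {φ : ι → F} (h : φ ᵥ* (k : Matrix ι ι F) = φ) :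
    φ ᵥ* ((k⁻¹ : GL ι F) : Matrix ι ι F) = φ := by
  conv_lhs => rw [← h]
  rw [vecMul_vecMul, ← Units.val_mul, mul_inv_cancel, Units.val_one, vecMul_one]

/-- Commutator of two transvections, keeping the second functional. -/
theorem One.comm_left {u ψ w χ : ι → F} (hA : One G u ψ) (hB : One G w χ) (hu : ψ ⬝ᵥ u = 0)
    (hw : χ ⬝ᵥ w = 0) (hχu : χ ⬝ᵥ u = 0) : One G ((ψ ⬝ᵥ w) • u) χ := by
  obtain ⟨k, hk, hkv⟩ := hA
  have h := hB.conj hk
  have hfix : χ ᵥ* ((k⁻¹ : GL ι F) : Matrix ι ι F) = χ :=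
    vecMul_inv_eq (by rw [hkv, vecMul_one', hχu, zero_smul, add_zero])
  rw [hfix, hkv, one_mulVec'] at h
  have h2 := h.addL (hB.negL hw) (by rw [dotProduct_neg, hw, neg_zero])
  rwa [add_neg_cancel_comm] at h2

/-- Commutator of two transvections, keeping the second centre. -/
theorem One.comm_right {u ψ w χ : ι → F} (hA : One G u ψ) (hB : One G w χ) (hu : ψ ⬝ᵥ u = 0)
    (hw : χ ⬝ᵥ w = 0) (hψw : ψ ⬝ᵥ w = 0) : One G w ((-(χ ⬝ᵥ u)) • ψ) := by
  obtain ⟨k, hk, hkv⟩ := hA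
  have h := hB.conj hk
  have hk' : ((k⁻¹ : GL ι F) : Matrix ι ι F) = 1 + vecMulVec u (-ψ) := by
    rw [Matrix.coe_units_inv, hkv]
    refine Matrix.inv_eq_right_inv ?_
    rw [one_mul_one, hu, zero_smul, zero_vecMulVec, add_zero, vecMulVec_neg]
    abel
  rw [hkv, one_mulVec', hψw, zero_smul, add_zero, hk', vecMul_one'] at h
  have h2 := (hB.neg hw).addR h (by rw [neg_dotProduct, hw, neg_zero])
  rwa [neg_add_cancel_left, smul_neg, ← neg_smul] at h2

/-- A subgroup containing all elementary transvections contains the special linear group. -/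
theorem specialLinear_le {κ : Type} [Fintype κ] [DecidableEq κ] {G : Subgroup (GL κ F)}
    (h : ∀ i j : κ, i ≠ j → ∀ c : F, One G (Pi.single i c) (Pi.single j 1)) :
    Cfsg.Geo.specialLinear κ F ≤ G := by
  intro g hg
  have hd : (g : Matrix κ κ F).det = 1 := by
    rw [← Matrix.GeneralLinearGroup.val_det_apply, MonoidHom.mem_ker.mp hg, Units.val_one]
  have htop : G.comap (SpecialLinearGroup.toGL : SpecialLinearGroup κ F →* GL κ F) = ⊤ := by
    refine Cfsg.Lib.Classical.eq_top_of_transvection_mem _ fun i j hij c => ?_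
    obtain ⟨a, ha, hav⟩ := h i j hij c
    have e : (SpecialLinearGroup.toGL (SpecialLinearGroup.transvection hij c) : GL κ F) = a := by
      refine Units.ext (Eq.trans ?_ hav.symm)
      show Matrix.transvection i j c = _
      rw [Matrix.transvection]
      congr 1
      ext x y
      rcases eq_or_ne i x with rfl | h1 <;> rcases eq_or_ne j y with rfl | h2 <;>
        simp [vecMulVec_apply, single_apply, *]
    rw [Subgroup.mem_comap, e]
    exact ha
  have hm : SpecialLinearGroup.toGL (⟨(g : Matrix κ κ F), hd⟩ : SpecialLinearGroup κ F) ∈ G :=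
    Subgroup.mem_comap.mp (htop ▸ Subgroup.mem_top _)
  convert hm using 1
  exact Units.ext rfl

theorem det_one' (x φ : ι → F) : (1 + vecMulVec x φ).det = 1 + φ ⬝ᵥ x := by
  rw [vecMulVec_eq Unit, det_one_add_replicateCol_mul_replicateRow]

/-- `1 + x φ` as an invertible matrix. -/
noncomputable def mkGL (x φ : ι → F) (h : 1 + φ ⬝ᵥ x ≠ 0) : GL ι F :=
  Matrix.GeneralLinearGroup.mkOfDetNeZero (1 + vecMulVec x φ) (by rwa [det_one'])

theorem mkGL_val (x φ : ι → F) (h : 1 + φ ⬝ᵥ x ≠ 0) : (mkGL x φ h : Matrix ι ι F) = 1 + vecMulVec x φ := rfl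

theorem GL_ne_zero_mulVec (k : GL ι F) {x : ι → F} (hx : x ≠ 0) : (k : Matrix ι ι F) *ᵥ x ≠ 0 := fun h => hx <| by
  simpa [mulVec_mulVec, ← Units.val_mul] using congrArg (((k⁻¹ : GL ι F) : Matrix ι ι F) *ᵥ ·) h

theorem GL_ne_zero_vecMul (k : GL ι F) {x : ι → F} (hx : x ≠ 0) : x ᵥ* (k : Matrix ι ι F) ≠ 0 := fun h => hx <| by
  simpa [vecMul_vecMul, ← Units.val_mul] using congrArg (· ᵥ* ((k⁻¹ : GL ι F) : Matrix ι ι F)) h

end Cfsg.Lib.Classical.LinOne
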