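import Mathlib
import Cfsg.Agent.Classical.Linear.RankOne

/-! Overgroups of the stabiliser of a decomposition into blocks of size at least two. -/

set_option autoImplicit false
set_option linter.unusedSimpArgs false
set_option linter.unusedSectionVars false
set_option linter.flexible false

namespace Cfsg.Lib.Classical.BlockOver

open Matrix LinOne
open scoped MatrixGroups

universe u

variable {F : Type u} [Field F] {t m : ℕ}

/-- Index type. -/
abbrev I (t m : ℕ) := Fin t × Fin m

/-- Supported inside a block. -/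
def In (i : Fin t) (x : I t m → F) : Prop := ∀ a : I t m, a.1 ≠ i → x a = 0

/-- The part of a vector in a block. -/
def pr (i : Fin t) (x : I t m → F) : I t m → F := fun a => if a.1 = i then x a else 0

/-- Matrices fixing every block. -/
def Fix (g : Matrix (I t m) (I t m) F) : Prop := ∀ a b : I t m, a.1 ≠ b.1 → g a b = 0

/-- Matrices permuting the blocks. -/
def Blocky (g : Matrix (I t m) (I t m) F) : Prop :=
  ∃ σ : Equiv.Perm (Fin t), ∀ a b : I t m, a.1 ≠ σ b.1 → g a b = 0

theorem pr_in (i : Fin t) (x : I t m → F) : In i (pr i x) := fun a ha => if_neg ha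

theorem in_single (a : I t m) (c : F) : In a.1 (Pi.single a c : I t m → F) := fun b hb =>
  Pi.single_eq_of_ne (fun e => hb (by rw [e])) _

theorem dot_in {i : Fin t} {u : I t m → F} (hu : In i u) (φ : I t m → F) : φ ⬝ᵥ u = pr i φ ⬝ᵥ u := by
  refine Finset.sum_congr rfl fun a _ => ?_
  by_cases ha : a.1 = i
  · simp [pr, ha]
  · simp [hu a ha]

theorem dot_ne {i j : Fin t} {u φ : I t m → F} (hu : In i u) (hφ : In j φ) (h : i ≠ j) : φ ⬝ᵥ u = 0 :=
  Finset.sum_eq_zero fun a _ => by
    by_cases ha : a.1 = i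
    · rw [hφ a (ha ▸ h), zero_mul]
    · rw [hu a ha, mul_zero]

theorem In.ne_zero {i : Fin t} {x : I t m → F} (h : In i x) (hx : x ≠ 0) : ∃ l, x (i, l) ≠ 0 := by
  by_contra hc
  push Not at hc
  refine hx (funext fun a => ?_)
  by_cases ha : a.1 = i
  · subst ha; exact hc a.2
  · exact h a ha

theorem exists_dual {i : Fin t} {u w : I t m → F} (hu : In i u) (hw : In i w)
    (h : w ∉ Submodule.span F {u}) : ∃ ψ : I t m → F, In i ψ ∧ ψ ⬝ᵥ u = 0 ∧ ψ ⬝ᵥ w = 1 := by
  obtain ⟨φ, hφx, hφW⟩ := Submodule.exists_dual_map_eq_bot_of_notMem h inferInstance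
  have hu0 : φ u = 0 := by
    have : φ u ∈ (Submodule.span F {u}).map φ := Submodule.mem_map_of_mem (Submodule.mem_span_singleton_self u)
    rwa [hφW, Submodule.mem_bot] at this
  let r : I t m → F := fun a => φ (Pi.single a 1)
  have hr : ∀ v : I t m → F, r ⬝ᵥ v = φ v := fun v => by
    conv_rhs => rw [pi_eq_sum_univ' v, map_sum]
    exact Finset.sum_congr rfl fun a _ => by simp [r, mul_comm]
  refine ⟨(φ w)⁻¹ • pr i r, fun a ha => by simp [pr, ha], ?_, ?_⟩
  · rw [smul_dotProduct, ← dot_in hu, hr, hu0, smul_zero]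
  · rw [smul_dotProduct, ← dot_in hw, hr, smul_eq_mul, inv_mul_cancel₀ hφx]

/-- A non-zero vector of a block annihilated by a functional. -/
theorem exists_kernel (hm : 2 ≤ m) (i : Fin t) (χ : I t m → F) :
    ∃ u : I t m → F, In i u ∧ u ≠ 0 ∧ χ ⬝ᵥ u = 0 := by
  let a : I t m := (i, ⟨0, by omega⟩)
  let b : I t m := (i, ⟨1, by omega⟩)
  by_cases ha : χ a = 0
  · exact ⟨Pi.single a 1, in_single a 1, by simp, by simp [ha]⟩
  refine ⟨χ b • (Pi.single a 1 : I t m → F) - χ a • Pi.single b 1, fun c hc => ?_, fun h => ?_, ?_⟩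
  · simp [in_single a (1 : F) c hc, in_single b (1 : F) c hc]
  · have hab : b ≠ a := by simp [a, b, Fin.ext_iff]
    have := congrFun h b
    simp [hab] at this
    exact ha this
  · simp [dotProduct_sub, dotProduct_smul, mul_comm]

theorem exists_ne' (hm : 2 ≤ m) (l : Fin m) : ∃ l', l' ≠ l := by
  haveI := Fin.nontrivial_iff_two_le.mpr hm
  exact exists_ne l

theorem three_others : ∀ x : Fin 3, ∃ y z : Fin 3, x ≠ y ∧ x ≠ z ∧ y ≠ z := by decide

theorem exists_kernel_notMem (hm : 3 ≤ m) {i : Fin t} (χ w : I t m → F) :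
    ∃ u : I t m → F, In i u ∧ χ ⬝ᵥ u = 0 ∧ u ∉ Submodule.span F {w} := by
  by_contra hc
  push Not at hc
  let e : Fin 3 → I t m := fun l => (i, ⟨l, by omega⟩)
  have he : Function.Injective e := fun x y h => by simpa [e, Fin.ext_iff] using h
  have key : ∀ x y : Fin 3, x ≠ y → χ (e x) • (Pi.single (e y) 1 : I t m → F) - χ (e y) • Pi.single (e x) 1 ∈
      Submodule.span F {w} := fun x y _ => by
    refine hc _ (fun c hcc => ?_) (by simp [dotProduct_sub, dotProduct_smul, mul_comm])
    simp [in_single (e x) (1 : F) c hcc, in_single (e y) (1 : F) c hcc]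
  by_cases hall : ∀ x, χ (e x) = 0
  · have h0 := hc (Pi.single (e 0) 1) (in_single (e 0) 1) (by simp [hall])
    have h1 := hc (Pi.single (e 1) 1) (in_single (e 1) 1) (by simp [hall])
    obtain ⟨r, hr⟩ := Submodule.mem_span_singleton.mp h0
    obtain ⟨s, hs⟩ := Submodule.mem_span_singleton.mp h1
    have a0 := congrFun hr (e 0)
    have a1 := congrFun hr (e 1)
    have b1 := congrFun hs (e 1)
    simp [he.eq_iff] at a0 a1 b1
    rcases a1 with rfl | h
    · simp at a0
    · simp [h] at b1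
  push Not at hall
  obtain ⟨x, hx⟩ := hall
  obtain ⟨y, z, hxy, hxz, hyz⟩ := three_others x
  obtain ⟨r, hr⟩ := Submodule.mem_span_singleton.mp (key x y hxy)
  obtain ⟨s, hs⟩ := Submodule.mem_span_singleton.mp (key x z hxz)
  have a0 := congrFun hr (e y)
  have a1 := congrFun hr (e z)
  have b1 := congrFun hs (e z)
  simp [he.eq_iff, hxy.symm, hxz.symm, hyz, hyz.symm] at a0 a1 b1
  rcases a1 with rfl | h
  · exact hx (by simpa using a0.symm)
  · exact hx (by simpa [h] using b1.symm)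

variable (K : Subgroup (GL (I t m) F))

/-- Off-diagonal transvection with centre in a block. -/
def Bad : Prop := ∃ (i j : Fin t) (u χ : I t m → F) (l : Fin m),
  i ≠ j ∧ In i u ∧ u ≠ 0 ∧ χ (j, l) ≠ 0 ∧ χ ⬝ᵥ u = 0 ∧ One K u χ

/-- All root elements from one block to another. -/
def Roots (i j : Fin t) : Prop := ∀ (l l' : Fin m) (c : F), One K (Pi.single (i, l) c) (Pi.single (j, l') 1)

variable {K}

theorem fix_one {i : Fin t} {x φ : I t m → F} (hx : In i x) (hφ : In i φ) : Fix (1 + vecMulVec x φ) := fun a b h => by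
  have hne : a ≠ b := fun e => h (by rw [e])
  by_cases ha : a.1 = i
  · simp [vecMulVec_apply, hne, hφ b (fun e => h (ha.trans e.symm))]
  · simp [vecMulVec_apply, hne, hx a ha]

theorem fix_mul {A B : Matrix (I t m) (I t m) F} (hA : Fix A) (hB : Fix B) : Fix (A * B) := fun a b h =>
  Finset.sum_eq_zero fun c _ => by
    by_cases hac : a.1 = c.1
    · show A a c * B c b = 0
      rw [hB c b (hac ▸ h), mul_zero]
    · show A a c * B c b = 0
      rw [hA a c hac, zero_mul]

/-- All transvections between two blocks. -/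
theorem roots_all {i j : Fin t} (hR : Roots K i j) (hij : i ≠ j) {x φ : I t m → F} (hx : In i x) (hφ : In j φ) :
    One K x φ := by
  classical
  have h1 : ∀ (y : I t m → F) (l' : Fin m), In i y → One K y (Pi.single (j, l') 1) := by
    intro y l' hy
    have key : ∀ S : Finset (Fin m), One K (∑ l ∈ S, (Pi.single (i, l) (y (i, l)) : I t m → F)) (Pi.single (j, l') 1) := by
      intro S
      induction S using Finset.induction_on with
      | empty => simpa using (One.zero (G := K) (Pi.single (j, l') (1 : F))).congr (by simp)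
      | insert l S hl ih =>
        rw [Finset.sum_insert hl]
        refine (hR l l' _).addL ih ?_
        simp [Pi.single_apply, Finset.sum_apply, Ne.symm hij]
    have e : (∑ l, (Pi.single (i, l) (y (i, l)) : I t m → F)) = y := funext fun a => by
      obtain ⟨p, k⟩ := a
      by_cases hp : p = i
      · subst hp; simp [Finset.sum_apply, Pi.single_apply]
      · simp [Finset.sum_apply, Pi.single_apply, hp, hy (p, k) hp]
    exact e ▸ key Finset.univ
  have key : ∀ S : Finset (Fin m), One K x (∑ l ∈ S, (Pi.single (j, l) (φ (j, l)) : I t m → F)) := by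
    intro S
    induction S using Finset.induction_on with
    | empty => simpa using One.zero x
    | insert l S hl ih =>
      rw [Finset.sum_insert hl]
      refine One.addR ?_ ih (dot_ne hx (in_single (j, l) _) hij)
      have := (h1 (φ (j, l) • x) l (fun a ha => by simp [hx a ha])).smul_left
      rwa [← Pi.single_smul, smul_eq_mul, mul_one] at this
  have e : (∑ l, (Pi.single (j, l) (φ (j, l)) : I t m → F)) = φ := funext fun a => by
    obtain ⟨p, k⟩ := a
    by_cases hp : p = j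
    · subst hp; simp [Finset.sum_apply, Pi.single_apply]
    · simp [Finset.sum_apply, Pi.single_apply, hp, hφ (p, k) hp]
  exact e ▸ key Finset.univ

section Main

variable (hfix : ∀ g : GL (I t m) F, (g : Matrix (I t m) (I t m) F).det = 1 →
  Fix (g : Matrix (I t m) (I t m) F) → g ∈ K)
include hfix

theorem same {i : Fin t} {x φ : I t m → F} (hx : In i x) (hφ : In i φ) (h : φ ⬝ᵥ x = 0) : One K x φ :=
  ⟨mkGL x φ (by rw [h, add_zero]; exact one_ne_zero),
    hfix _ (by rw [mkGL_val, det_one', h, add_zero]) (by rw [mkGL_val]; exact fix_one hx hφ), rfl⟩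

theorem bad_of_dual (hm : 2 ≤ m) {i j : Fin t} {w ψ : I t m → F} {l : Fin m} (hij : i ≠ j) (hψ : In i ψ)
    (hψ0 : ψ ≠ 0) (hw : w (j, l) ≠ 0) (hψw : ψ ⬝ᵥ w = 0) (h : One K w ψ) : Bad K := by
  obtain ⟨l', hl'⟩ : ∃ l', l' ≠ l := exists_ne' hm l
  have hd : (Pi.single (j, l) (w (j, l))⁻¹ : I t m → F) ⬝ᵥ Pi.single (j, l') 1 = 0 := by
    simp [Pi.single_apply, hl', Ne.symm hl']
  have hA := same hfix (in_single (j, l') (1 : F)) (in_single (j, l) (w (j, l))⁻¹) hd
  have hψs : ψ ⬝ᵥ (Pi.single (j, l') 1 : I t m → F) = 0 := dot_ne (in_single (j, l') 1) hψ (Ne.symm hij)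
  have h2 := hA.comm_left h hd hψw hψs
  rw [single_dotProduct, inv_mul_cancel₀ hw, one_smul] at h2
  obtain ⟨k, hk⟩ := hψ.ne_zero hψ0
  exact ⟨j, i, _, ψ, k, Ne.symm hij, in_single (j, l') 1, by simp, hk, hψs, h2⟩

theorem roots_of_bad (hm : 2 ≤ m) {i j : Fin t} {u χ : I t m → F} {l₀ : Fin m} (hij : i ≠ j) (hu : In i u)
    (hu0 : u ≠ 0) (hχ : χ (j, l₀) ≠ 0) (hχu : χ ⬝ᵥ u = 0) (h : One K u χ) : Roots K i j := by
  -- all functionals on the second block
  have step : ∀ (s ψ : I t m → F), In j s → In j ψ → ψ ⬝ᵥ s = 0 → χ ⬝ᵥ s ≠ 0 → ∀ c : F, One K u (c • ψ) := by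
    intro s ψ hs hψ hψs hχs c
    have hA : One K s ((-c / (χ ⬝ᵥ s)) • ψ) := same hfix hs (fun a ha => by simp [hψ a ha]) (by simp [hψs])
    have h2 := hA.comm_right h (by simp [hψs]) hχu (by simp [dot_ne hu hψ hij])
    rw [smul_smul] at h2
    convert h2 using 2
    field_simp
  have hsingle : ∀ (l : Fin m) (c : F), One K u (Pi.single (j, l) c) := by
    intro l c
    have hgen : ∀ k : Fin m, ∀ c : F, (∃ l', l' ≠ k ∧ χ (j, l') ≠ 0) → One K u (Pi.single (j, k) c) := by
      rintro k c ⟨l', hl', hχl⟩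
      have := step (Pi.single (j, l') 1) (Pi.single (j, k) 1) (in_single (j, l') 1) (in_single (j, k) 1)
        (by simp [Pi.single_apply, hl', Ne.symm hl']) (by simpa using hχl) c
      rwa [← Pi.single_smul, smul_eq_mul, mul_one] at this
    by_cases hex : ∃ l', l' ≠ l ∧ χ (j, l') ≠ 0
    · exact hgen l c hex
    push Not at hex
    have hl₀ : l₀ = l := by_contra fun hne => hχ (hex l₀ hne)
    subst hl₀
    obtain ⟨l', hl'⟩ : ∃ l', l' ≠ l₀ := exists_ne' hm l₀
    have h1 := step (Pi.single (j, l₀) 1 - Pi.single (j, l') 1) (Pi.single (j, l₀) 1 + Pi.single (j, l') 1)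
      (fun a ha => by simp [in_single (j, l₀) (1 : F) a ha, in_single (j, l') (1 : F) a ha])
      (fun a ha => by simp [in_single (j, l₀) (1 : F) a ha, in_single (j, l') (1 : F) a ha])
      (by simp [dotProduct_sub, hl', Ne.symm hl']) (by simp [dotProduct_sub, hex l' hl', hχ]) c
    have h2 := hgen l' (-c) ⟨l₀, Ne.symm hl', hχ⟩
    have h3 := h1.addR h2 (by
      rw [smul_dotProduct, add_dotProduct, dot_ne hu (in_single (j, l₀) 1) hij, dot_ne hu (in_single (j, l') 1) hij,
        add_zero, smul_zero])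
    rw [smul_add, ← Pi.single_smul, ← Pi.single_smul, smul_eq_mul, mul_one, Pi.single_neg, add_assoc,
      add_neg_cancel, add_zero] at h3
    exact h3
  intro l l' c
  by_cases hex : ∃ k, k ≠ l ∧ u (i, k) ≠ 0
  · obtain ⟨k, hk, huk⟩ := hex
    have hd : (Pi.single (i, k) (c / u (i, k)) : I t m → F) ⬝ᵥ Pi.single (i, l) 1 = 0 := by
      simp [Pi.single_apply, hk, Ne.symm hk]
    have hA := same hfix (in_single (i, l) (1 : F)) (in_single (i, k) (c / u (i, k))) hd
    have h2 := hA.comm_left (hsingle l' 1) hd (dot_ne hu (in_single (j, l') 1) hij)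
      (dot_ne (in_single (i, l) 1) (in_single (j, l') 1) hij)
    rw [single_dotProduct, div_mul_cancel₀ _ huk, ← Pi.single_smul, smul_eq_mul, mul_one] at h2
    exact h2
  · push Not at hex
    have hue : u = Pi.single (i, l) (u (i, l)) := funext fun a => by
      by_cases ha : a = (i, l)
      · rw [ha, Pi.single_eq_same]
      · rw [Pi.single_eq_of_ne ha]
        by_cases h1 : a.1 = i
        · have : a = (i, a.2) := by rw [← h1]
          rw [this]
          exact hex a.2 fun e => ha (by rw [this, e])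
        · exact hu a h1
    have hul : u (i, l) ≠ 0 := fun e => hu0 (by rw [hue, e, Pi.single_zero])
    refine (hsingle l' (c / u (i, l))).congr ?_
    conv_lhs => rw [hue]
    ext a b
    simp [vecMulVec_apply, Pi.single_apply]
    split_ifs <;> field_simp

/-- A transvection with centre in two blocks whose functional sees the part in one block gives a bad one. -/
theorem bad_of_unbalanced (hm : 2 ≤ m) {w χ : I t m → F} (h : One K w χ) (hw : χ ⬝ᵥ w = 0) (hχ0 : χ ≠ 0)
    {a c : Fin t} (hac : a ≠ c) {lc : Fin m} (hc : w (c, lc) ≠ 0) (hne : χ ⬝ᵥ pr a w ≠ 0) : Bad K := by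
  by_cases hcz : ∃ l, χ (c, l) ≠ 0
  · obtain ⟨lχ, hχc⟩ := hcz
    obtain ⟨u, hu, hu0, hχu⟩ := exists_kernel hm a χ
    obtain ⟨ψ, hψ, hψu, hψw⟩ := exists_dual hu (pr_in a w) fun hs => hne (by
      obtain ⟨r, hr⟩ := Submodule.mem_span_singleton.mp hs
      rw [← hr, dotProduct_smul, hχu, smul_zero])
    have h2 := (same hfix hu hψ hψu).comm_left h hψu hw hχu
    rw [show ψ ⬝ᵥ w = 1 by
      rw [dotProduct_comm, dot_in hψ, ← hψw, dotProduct_comm], one_smul] at h2
    exact ⟨a, c, u, χ, lχ, hac, hu, hu0, hχc, hχu, h2⟩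
  · push Not at hcz
    obtain ⟨l', hl'⟩ : ∃ l', l' ≠ lc := exists_ne' hm lc
    have hd : (Pi.single (c, lc) (w (c, lc))⁻¹ : I t m → F) ⬝ᵥ Pi.single (c, l') 1 = 0 := by
      simp [Pi.single_apply, hl', Ne.symm hl']
    have hu : χ ⬝ᵥ (Pi.single (c, l') 1 : I t m → F) = 0 := by simp [hcz]
    have h2 := (same hfix (in_single (c, l') (1 : F)) (in_single (c, lc) (w (c, lc))⁻¹) hd).comm_left h hd hw hu
    rw [single_dotProduct, inv_mul_cancel₀ hc, one_smul] at h2
    obtain ⟨⟨j, lj⟩, hj⟩ := Function.ne_iff.mp hχ0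
    exact ⟨c, j, _, χ, lj, fun e => hj (by subst e; exact hcz lj), in_single (c, l') 1, by simp, hj, hu, h2⟩

/-- A multiply supported transvection gives a bad one. -/
theorem bad_of_multi (hm : 2 ≤ m) (hsmall : 3 ≤ m ∨ (3 ≤ t ∧ ∃ lam : F, lam ≠ 0 ∧ lam ≠ 1) ∨ ∃ lam : F, lam ≠ 0 ∧ lam * lam ≠ 1) {w χ : I t m → F}
    (h : One K w χ) (hw : χ ⬝ᵥ w = 0) (hχ0 : χ ≠ 0) {a c : Fin t} (hac : a ≠ c) {la lc : Fin m}
    (ha : w (a, la) ≠ 0) (hc : w (c, lc) ≠ 0) : Bad K := by
  by_contra hb
  have ii : ∀ (u : I t m → F) (k p : Fin t) (lk lp : Fin m), One K u χ → χ ⬝ᵥ u = 0 → (∀ l, u (k, l) = 0) →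
      χ (k, lk) ≠ 0 → k ≠ p → u (p, lp) ≠ 0 → Bad K := by
    intro u k p lk lp hu hχu huk hχk hkp hup
    obtain ⟨l', hl'⟩ : ∃ l', l' ≠ lk := exists_ne' hm lk
    have hd : (Pi.single (k, l') 1 : I t m → F) ⬝ᵥ Pi.single (k, lk) 1 = 0 := by
      simp [Pi.single_apply, hl', Ne.symm hl']
    have hA := same hfix (in_single (k, lk) (1 : F)) (in_single (k, l') 1) hd
    have h2 := hA.comm_right hu hd hχu (by rw [single_dotProduct, huk, mul_zero])
    rw [dotProduct_single, mul_one] at h2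
    refine bad_of_dual hfix hm (w := u) hkp (fun b hbk => ?_) (fun e => ?_) hup ?_ h2
    · simp [in_single (k, l') (1 : F) b hbk]
    · have := congrFun e (k, l')
      simp [hχk] at this
    · rw [smul_dotProduct, single_dotProduct, huk, mul_zero, smul_zero]
  -- a block where the centre is non-zero and the functional vanishes
  have hi : ∀ k, (∃ l, w (k, l) ≠ 0) → ∃ l, χ (k, l) ≠ 0 := by
    rintro k ⟨l, hl⟩
    by_contra hc0
    push Not at hc0
    obtain ⟨l', hl'⟩ : ∃ l', l' ≠ l := exists_ne' hm l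
    have hd : (Pi.single (k, l) (w (k, l))⁻¹ : I t m → F) ⬝ᵥ Pi.single (k, l') 1 = 0 := by
      simp [Pi.single_apply, hl', Ne.symm hl']
    have hu : χ ⬝ᵥ (Pi.single (k, l') 1 : I t m → F) = 0 := by simp [hc0]
    have h2 := (same hfix (in_single (k, l') (1 : F)) (in_single (k, l) (w (k, l))⁻¹) hd).comm_left h hd hw hu
    rw [single_dotProduct, inv_mul_cancel₀ hl, one_smul] at h2
    obtain ⟨⟨j, lj⟩, hj⟩ := Function.ne_iff.mp hχ0
    exact hb ⟨k, j, _, χ, lj, fun e => hj (by subst e; exact hc0 lj), in_single (k, l') 1, by simp, hj, hu, h2⟩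
  have hii : ∀ k, (∃ l, χ (k, l) ≠ 0) → ∃ l, w (k, l) ≠ 0 := by
    rintro k ⟨l, hl⟩
    by_contra hc0
    push Not at hc0
    by_cases hka : k = a
    · exact ha (hka ▸ hc0 la)
    · exact hb (ii w k a l la h hw hc0 hl hka ha)
  obtain ⟨lχ, hχc⟩ := hi c ⟨lc, hc⟩
  have hpa : pr a w ≠ 0 := fun e => ha (by simpa [pr] using congrFun e (a, la))
  have iii : ∀ u : I t m → F, In a u → χ ⬝ᵥ u = 0 → u ≠ 0 → pr a w ∉ Submodule.span F {u} → False := by
    intro u hu hχu hu0 hspan
    obtain ⟨ψ, hψ, hψu, hψw⟩ := exists_dual hu (pr_in a w) hspan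
    have h2 := (same hfix hu hψ hψu).comm_left h hψu hw hχu
    rw [show ψ ⬝ᵥ w = 1 by
      rw [dotProduct_comm, dot_in hψ, ← hψw, dotProduct_comm], one_smul] at h2
    exact hb ⟨a, c, u, χ, lχ, hac, hu, hu0, hχc, hχu, h2⟩
  have hχwa : χ ⬝ᵥ pr a w = 0 := by
    by_contra hne
    obtain ⟨u, hu, hu0, hχu⟩ := exists_kernel hm a χ
    refine iii u hu hχu hu0 fun hs => hne ?_
    obtain ⟨r, hr⟩ := Submodule.mem_span_singleton.mp hs
    rw [← hr, dotProduct_smul, hχu, smul_zero]
  rcases hsmall with h3 | ⟨ht, lam, hlam0, hlam1⟩ | ⟨lam, hlam0, hlam2⟩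
  rotate_left 2
  · -- a block element moving the transvection against itself
    obtain ⟨lχa, hχa⟩ := hi a ⟨la, ha⟩
    have hpc : pr c w ≠ 0 := fun e => hc (by simpa [pr] using congrFun e (c, lc))
    have hχwc : χ ⬝ᵥ pr c w = 0 := by
      by_contra hne
      exact hb (bad_of_unbalanced hfix hm h hw hχ0 (Ne.symm hac) ha hne)
    set ua : I t m → F := Pi.single (a, lχa) (χ (a, lχa))⁻¹ with hua
    set uc : I t m → F := -Pi.single (c, lχ) (χ (c, lχ))⁻¹ with huc
    have huaI : In a ua := by rw [hua]; exact in_single (a, lχa) _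
    have hucI : In c uc := fun b hb' => by simp [huc, in_single (c, lχ) ((χ (c, lχ))⁻¹) b hb']
    have hχua : χ ⬝ᵥ ua = 1 := by simp [hua, hχa]
    have hχuc : χ ⬝ᵥ uc = -1 := by simp [huc, hχc]
    obtain ⟨α, hα, hαu, hαw⟩ := exists_dual huaI (pr_in a w) fun hs => hpa (by
      obtain ⟨r, hr⟩ := Submodule.mem_span_singleton.mp hs
      rw [← hr, dotProduct_smul, hχua, smul_eq_mul, mul_one] at hχwa
      rw [← hr, hχwa, zero_smul])
    obtain ⟨β, hβ, hβu, hβw⟩ := exists_dual hucI (pr_in c w) fun hs => hpc (by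
      obtain ⟨r, hr⟩ := Submodule.mem_span_singleton.mp hs
      rw [← hr, dotProduct_smul, hχuc, smul_eq_mul, mul_neg, mul_one, neg_eq_zero] at hχwc
      rw [← hr, hχwc, zero_smul])
    have hαw' : α ⬝ᵥ w = 1 := by rw [dotProduct_comm, dot_in hα, ← hαw, dotProduct_comm]
    have hβw' : β ⬝ᵥ w = 1 := by rw [dotProduct_comm, dot_in hβ, ← hβw, dotProduct_comm]
    have hαc : α ⬝ᵥ pr c w = 0 := dot_ne (pr_in c w) hα (Ne.symm hac)
    have hαuc : α ⬝ᵥ uc = 0 := dot_ne hucI hα (Ne.symm hac)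
    set Ta := (1 : Matrix (I t m) (I t m) F) + vecMulVec ua α with hTa
    set Tc := (1 : Matrix (I t m) (I t m) F) + vecMulVec uc β with hTc
    set Da := (1 : Matrix (I t m) (I t m) F) + vecMulVec ((lam - 1) • pr a w) α with hDa
    set Dc := (1 : Matrix (I t m) (I t m) F) + vecMulVec ((lam⁻¹ - 1) • pr c w) β with hDc
    clear_value Ta Tc Da Dc
    have hdet : (Ta * Tc * (Da * Dc)).det = 1 := by
      rw [det_mul, det_mul, det_mul, hTa, hTc, hDa, hDc, det_one', det_one', det_one', det_one', hαu, hβu,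
        dotProduct_smul, dotProduct_smul, hαw, hβw]
      simp [hlam0]
    let g := Matrix.GeneralLinearGroup.mkOfDetNeZero (Ta * Tc * (Da * Dc)) (by rw [hdet]; exact one_ne_zero)
    have hg : g ∈ K := hfix g hdet (fix_mul (fix_mul (by rw [hTa]; exact fix_one huaI hα)
      (by rw [hTc]; exact fix_one hucI hβ))
      (fix_mul (by rw [hDa]; exact fix_one (fun b hb' => by simp [pr_in a w b hb']) hα)
        (by rw [hDc]; exact fix_one (fun b hb' => by simp [pr_in c w b hb']) hβ)))
    have hgw : (g : Matrix (I t m) (I t m) F) *ᵥ w =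
        w + ((lam - 1) • pr a w + (lam⁻¹ - 1) • pr c w) + (lam • ua + lam⁻¹ • uc) := by
      show (Ta * Tc * (Da * Dc)) *ᵥ w = _
      have hβa : β ⬝ᵥ pr a w = 0 := dot_ne (pr_in a w) hβ hac
      rw [← mulVec_mulVec, ← mulVec_mulVec w Da Dc, hDc, one_mulVec', hβw', one_smul, hDa, one_mulVec']
      simp only [dotProduct_add, dotProduct_smul, hαw', hαc, smul_eq_mul, mul_zero, add_zero, one_smul]
      rw [← mulVec_mulVec, hTc, one_mulVec']
      simp only [dotProduct_add, dotProduct_smul, hβw', hβa, hβw, smul_eq_mul, mul_zero, add_zero, mul_one]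
      rw [hTa, one_mulVec']
      simp only [dotProduct_add, dotProduct_smul, hαw', hαc, hαw, hαuc, smul_eq_mul, mul_zero, add_zero, mul_one]
      module
    set χ' := χ ᵥ* ((g⁻¹ : GL (I t m) F) : Matrix (I t m) (I t m) F) with hχ'
    -- the functional of the conjugate
    have hχ'e : χ' = χ + (-1 : F) • α + β := by
      have hcβ : β ⬝ᵥ pr a w = 0 := dot_ne (pr_in a w) hβ hac
      have hαβ : β ⬝ᵥ ua = 0 := dot_ne huaI hβ hac
      have e : (χ + (-1 : F) • α + β) ᵥ* (g : Matrix (I t m) (I t m) F) = χ := by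
        show (χ + (-1 : F) • α + β) ᵥ* (Ta * Tc * (Da * Dc)) = χ
        rw [mul_assoc Ta, ← vecMul_vecMul, ← vecMul_vecMul, ← vecMul_vecMul, hTa, vecMul_one']
        simp only [add_dotProduct, smul_dotProduct, hχua, hαu, hαβ, smul_eq_mul, mul_zero, add_zero, one_smul]
        rw [hTc, vecMul_one']
        simp only [add_dotProduct, smul_dotProduct, hχuc, hαuc, hβu, smul_eq_mul, mul_zero, add_zero]
        rw [show χ + (-1 : F) • α + β + α + (-1 : F) • β = χ by module, hDa, vecMul_one',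
          dotProduct_smul, hχwa, smul_zero, zero_smul, add_zero, hDc, vecMul_one', dotProduct_smul, hχwc, smul_zero,
          zero_smul, add_zero]
      rw [hχ']
      conv_lhs => rw [← e]
      rw [vecMul_vecMul, ← Units.val_mul, mul_inv_cancel, Units.val_one, vecMul_one]
    have h2 := h.conj hg
    rw [← hχ'] at h2
    have hχ'w : χ' ⬝ᵥ w = 0 := by
      rw [hχ'e, add_dotProduct, add_dotProduct, smul_dotProduct, hw, hαw', hβw', smul_eq_mul]; ring
    have hw2 : χ' ⬝ᵥ ((g : Matrix (I t m) (I t m) F) *ᵥ w) = 0 := by rw [hχ', dot_conj, hw]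
    have hχgw : χ ⬝ᵥ ((g : Matrix (I t m) (I t m) F) *ᵥ w) = lam - lam⁻¹ := by
      rw [hgw]
      simp only [dotProduct_add, dotProduct_smul, hw, hχwa, hχwc, hχua, hχuc, smul_eq_mul]
      ring
    have h3 := (h.comm_left h2 hw hw2 hχ'w).smul_left
    rw [hχgw] at h3
    have hl : lam - lam⁻¹ ≠ 0 := fun e => hlam2 (by
      have := congrArg (· * lam) e
      simp only [sub_mul, inv_mul_cancel₀ hlam0, zero_mul] at this
      linear_combination this)
    have hχ'a : χ' ⬝ᵥ pr a w = -1 := by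
      rw [hχ'e, add_dotProduct, add_dotProduct, smul_dotProduct, hχwa, hαw,
        dot_ne (pr_in a w) hβ hac, smul_eq_mul]
      ring
    refine hb (bad_of_unbalanced hfix hm h3 ?_ ?_ hac hc ?_)
    · rw [smul_dotProduct, hχ'w, smul_zero]
    · exact smul_ne_zero hl fun e => by rw [e, zero_dotProduct] at hχ'a; exact one_ne_zero (α := F) (by linear_combination hχ'a)
    · rw [smul_dotProduct, hχ'a, smul_eq_mul]
      exact mul_ne_zero hl (neg_ne_zero.mpr one_ne_zero)
  · obtain ⟨u, hu, hχu, hus⟩ := exists_kernel_notMem h3 χ (pr a w)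
    refine iii u hu hχu (fun e => hus (by rw [e]; exact zero_mem _)) fun hs => hus ?_
    obtain ⟨r, hr⟩ := Submodule.mem_span_singleton.mp hs
    have hr0 : r ≠ 0 := fun e => hpa (by rw [← hr, e, zero_smul])
    exact Submodule.mem_span_singleton.mpr ⟨r⁻¹, by rw [← hr, smul_smul, inv_mul_cancel₀ hr0, one_smul]⟩
  obtain ⟨k, hka, hkc⟩ := Fin.exists_ne_and_ne_of_two_lt a c ht
  obtain ⟨z, lz, hz, hzl, hχz⟩ : ∃ z lz, In k z ∧ z (k, lz) ≠ 0 ∧ χ ⬝ᵥ z = 0 := by
    by_cases hwk : ∃ l, w (k, l) ≠ 0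
    · obtain ⟨l, hl⟩ := hwk
      refine ⟨pr k w, l, pr_in k w, by simpa [pr] using hl, ?_⟩
      by_contra hne
      obtain ⟨u, hu, hu0, hχu⟩ := exists_kernel hm k χ
      have hspan : pr k w ∉ Submodule.span F {u} := fun hs => hne (by
        obtain ⟨r, hr⟩ := Submodule.mem_span_singleton.mp hs
        rw [← hr, dotProduct_smul, hχu, smul_zero])
      obtain ⟨ψ, hψ, hψu, hψw⟩ := exists_dual hu (pr_in k w) hspan
      have h2 := (same hfix hu hψ hψu).comm_left h hψu hw hχu
      rw [show ψ ⬝ᵥ w = 1 by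
        rw [dotProduct_comm, dot_in hψ, ← hψw, dotProduct_comm], one_smul] at h2
      exact hb ⟨k, c, u, χ, lχ, hkc, hu, hu0, hχc, hχu, h2⟩
    · refine ⟨Pi.single (k, ⟨0, by omega⟩) 1, ⟨0, by omega⟩, in_single (k, (⟨0, by omega⟩ : Fin m)) (1 : F), by simp, ?_⟩
      have : ∀ l, χ (k, l) = 0 := fun l => by_contra fun hl => hwk (hii k ⟨l, hl⟩)
      simp [this]
  set α : I t m → F := Pi.single (a, la) (w (a, la))⁻¹ with hα
  set β : I t m → F := Pi.single (k, lz) (z (k, lz))⁻¹ with hβ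
  have hαwa : α ⬝ᵥ pr a w = 1 := by simp [hα, pr, ha]
  have hαw : α ⬝ᵥ w = 1 := by simp [hα, ha]
  have hβz : β ⬝ᵥ z = 1 := by simp [hβ, hzl]
  have hαz : α ⬝ᵥ z = 0 := dot_ne hz (in_single (a, la) _) hka
  set A := (1 : Matrix (I t m) (I t m) F) + vecMulVec ((lam - 1) • pr a w) α with hA
  set B := (1 : Matrix (I t m) (I t m) F) + vecMulVec ((lam⁻¹ - 1) • z) β with hB
  clear_value A B
  have hdet : (A * B).det = 1 := by
    rw [det_mul, hA, hB, det_one', det_one', dotProduct_smul, dotProduct_smul, hαwa, hβz]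
    simp [hlam0]
  let g := Matrix.GeneralLinearGroup.mkOfDetNeZero (A * B) (by rw [hdet]; exact one_ne_zero)
  have hg : g ∈ K := hfix g hdet (fix_mul (by rw [hA, hα]; exact fix_one (fun b hb' => by simp [pr_in a w b hb']) (in_single (a, la) _))
    (by rw [hB, hβ]; exact fix_one (fun b hb' => by simp [hz b hb']) (in_single (k, lz) _)))
  have hgw : (g : Matrix (I t m) (I t m) F) *ᵥ w =
      w + ((lam - 1) • pr a w + ((β ⬝ᵥ w) * (lam⁻¹ - 1)) • z) := by
    show (A * B) *ᵥ w = _
    rw [← mulVec_mulVec, hB, one_mulVec', hA, one_mulVec', dotProduct_add, dotProduct_smul, dotProduct_smul, hαz,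
      hαw, smul_zero, smul_zero, add_zero, one_smul, smul_smul]
    abel
  have hgχ : χ ᵥ* ((g⁻¹ : GL (I t m) F) : Matrix (I t m) (I t m) F) = χ := vecMul_inv_eq (by
    show χ ᵥ* (A * B) = χ
    rw [← vecMul_vecMul, hA, vecMul_one', dotProduct_smul, hχwa, smul_zero, zero_smul, add_zero, hB, vecMul_one',
      dotProduct_smul, hχz, smul_zero, zero_smul, add_zero])
  have h2 := h.conj hg
  rw [hgw, hgχ] at h2
  have h3 := h2.addL (h.negL hw) (by rw [dotProduct_neg, hw, neg_zero])
  rw [add_neg_cancel_comm] at h3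
  refine hb (ii _ c a lχ la h3 ?_ (fun l => ?_) hχc (Ne.symm hac) ?_)
  · simp [dotProduct_add, dotProduct_smul, hχwa, hχz]
  · simp [pr, Ne.symm hac, hz (c, l) (Ne.symm hkc)]
  · simp [pr, hz (a, la) (Ne.symm hka), ha, sub_eq_zero, hlam1]

/-- An overgroup of the block stabiliser is the special linear group or permutes the blocks. -/
theorem dichotomy (hm : 2 ≤ m) (hsmall : 3 ≤ m ∨ (3 ≤ t ∧ ∃ lam : F, lam ≠ 0 ∧ lam ≠ 1) ∨ ∃ lam : F, lam ≠ 0 ∧ lam * lam ≠ 1)
    (hperm : ∀ π : Equiv.Perm (Fin t), ∃ h ∈ K, ∀ a b : I t m, a.1 ≠ π b.1 → (h : Matrix (I t m) (I t m) F) a b = 0)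
    {g : GL (I t m) F} (hg : g ∈ K) (hgb : ¬ Blocky (g : Matrix (I t m) (I t m) F)) :
    Cfsg.Geo.specialLinear (I t m) F ≤ K := by
  classical
  set gm := (g : Matrix (I t m) (I t m) F) with hgm
  have hbad : Bad K := by
    by_contra hb
    have key : ∀ i (v : I t m → F), In i v → v ≠ 0 → ∀ a c la lc, (gm *ᵥ v) (a, la) ≠ 0 → (gm *ᵥ v) (c, lc) ≠ 0 → a = c := by
      intro i v hv hv0 a c la lc ha hc
      by_contra hac
      obtain ⟨φ, hφ, hφ0, hφv⟩ := exists_kernel hm i v
      rw [dotProduct_comm] at hφv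
      have h := (same hfix hv hφ hφv).conj hg
      exact hb (bad_of_multi hfix hm hsmall h (by rw [dot_conj, hφv]) (GL_ne_zero_vecMul _ hφ0) hac ha hc)
    have hcol : ∀ b : I t m, ∃ a : I t m, gm a b ≠ 0 := fun b => by
      by_contra hc
      push Not at hc
      exact GL_ne_zero_mulVec g (x := Pi.single b 1) (by simp) (funext fun a => by simpa using hc a)
    have hblock : ∀ (b b' a a' : I t m), b.1 = b'.1 → gm a b ≠ 0 → gm a' b' ≠ 0 → a.1 = a'.1 := by
      intro b b' a a' hbb ha ha'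
      by_contra hne
      have e1 : (gm *ᵥ Pi.single b (1 : F)) (a.1, a.2) ≠ 0 := by simpa using ha
      have e2 : (gm *ᵥ Pi.single b' (1 : F)) (a'.1, a'.2) ≠ 0 := by simpa using ha'
      by_cases hbe : b = b'
      · subst hbe
        exact hne (key b.1 _ (in_single b 1) (by simp) _ _ _ _ e1 e2)
      have z1 : gm a' b = 0 := by_contra fun h0 =>
        hne (key b.1 _ (in_single b (1 : F)) (by simp) _ _ _ a'.2 e1 (by simpa using h0))
      have z2 : gm a b' = 0 := by_contra fun h0 =>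
        hne (key b'.1 _ (in_single b' (1 : F)) (by simp) a.1 _ a.2 _ (by simpa using h0) e2)
      refine hne (key b.1 (Pi.single b 1 + Pi.single b' 1) (fun c hc => ?_) (fun e => ?_) a.1 a'.1 a.2 a'.2 ?_ ?_)
      · simp [in_single b (1 : F) c hc, in_single b' (1 : F) c (by rwa [← hbb])]
      · simpa [hbe] using congrFun e b
      · simpa [mulVec_add, z2] using ha
      · simpa [mulVec_add, z1] using ha'
    choose r hr using hcol
    let σ : Fin t → Fin t := fun i => (r (i, ⟨0, by omega⟩)).1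
    have hσ : ∀ a b : I t m, a.1 ≠ σ b.1 → gm a b = 0 := fun a b h => by_contra fun h0 =>
      h (hblock b (b.1, ⟨0, by omega⟩) a _ rfl h0 (hr _))
    have hsurj : Function.Surjective σ := fun j => by
      by_contra hc
      push Not at hc
      refine GL_ne_zero_vecMul g (x := Pi.single (j, ⟨0, by omega⟩) 1) (by simp) (funext fun b => ?_)
      simpa using hσ (j, ⟨0, by omega⟩) b (fun e => hc b.1 e.symm)
    exact hgb ⟨Equiv.ofBijective σ (Finite.surjective_iff_bijective.mp hsurj), fun a b h => hσ a b h⟩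
  obtain ⟨i, j, u, χ, l₀, hij, hu, hu0, hχ, hχu, h⟩ := hbad
  have hR := roots_of_bad hfix hm hij hu hu0 hχ hχu h
  refine specialLinear_le fun a b hab c => ?_
  by_cases hab1 : a.1 = b.1
  · exact same hfix (in_single a c) (hab1 ▸ in_single b 1) (by simp [Pi.single_apply, hab, Ne.symm hab])
  obtain ⟨π, hπi, hπj⟩ : ∃ π : Equiv.Perm (Fin t), π i = a.1 ∧ π j = b.1 := by
    refine ⟨Equiv.swap (Equiv.swap i a.1 j) b.1 * Equiv.swap i a.1, ?_, by rw [Equiv.Perm.mul_apply, Equiv.swap_apply_left]⟩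
    rw [Equiv.Perm.mul_apply, Equiv.swap_apply_left, Equiv.swap_apply_of_ne_of_ne _ hab1]
    intro e
    exact hij ((Equiv.swap i a.1).injective (by rw [Equiv.swap_apply_left]; exact e))
  obtain ⟨q, hq, hqs⟩ := hperm π⁻¹
  have hx : In i ((q : Matrix (I t m) (I t m) F) *ᵥ (Pi.single a c : I t m → F)) := fun y hy => by
    rw [mulVec_single, Pi.smul_apply, col_apply, hqs y a (by rw [← hπi]; simpa using hy), smul_zero]
  set r : I t m → F := (Pi.single b 1 : I t m → F) ᵥ* ((q⁻¹ : GL (I t m) F) : Matrix (I t m) (I t m) F) with hr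
  have hrq : r ᵥ* (q : Matrix (I t m) (I t m) F) = Pi.single b 1 := by
    rw [hr, vecMul_vecMul, ← Units.val_mul, inv_mul_cancel, Units.val_one, vecMul_one]
  have hrj : In j r := by
    have h0 : r - pr j r = 0 := by_contra fun hne => GL_ne_zero_vecMul q hne (funext fun y => by
      rw [sub_vecMul, hrq, Pi.sub_apply, Pi.zero_apply]
      by_cases hy : y.1 = b.1
      · -- the remaining rows do not reach this column
        have e := congrFun hrq y
        rw [← e]
        simp only [vecMul, dotProduct, ← Finset.sum_sub_distrib]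
        refine Finset.sum_eq_zero fun z _ => ?_
        by_cases hz : z.1 = j
        · simp [pr, hz]
        · rw [hqs z y (by rw [hy, ← hπj]; simpa using hz)]
          simp
      · rw [Pi.single_eq_of_ne (fun e => hy (by rw [e]))]
        simp only [vecMul, dotProduct, zero_sub, neg_eq_zero]
        refine Finset.sum_eq_zero fun z _ => ?_
        by_cases hz : z.1 = j
        · rw [hqs z y (fun e => hy (by rw [← hπj, ← hz, e]; simp)), mul_zero]
        · simp [pr, hz])
    rw [sub_eq_zero] at h0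
    rw [h0]
    exact pr_in j r
  have h2 := (roots_all hR hij hx hrj).conj (K.inv_mem hq)
  rw [mulVec_mulVec, ← Units.val_mul, inv_mul_cancel, Units.val_one, one_mulVec, inv_inv, hrq] at h2
  exact h2

end Main

end Cfsg.Lib.Classical.BlockOver
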