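import Cfsg.Agent.Classical.Linear.CommTables

/-! The end of the factorisation: matrices of degree two, three and four. -/

set_option autoImplicit false
set_option linter.unusedSectionVars false
set_option linter.unusedSimpArgs false

namespace Cfsg.Lib.Classical.SLComm

open Matrix Module

universe u

variable {F : Type u} [Field F]

/-- A vector that is not an eigenvector. -/
theorem exists_moved' {n : ℕ} {M : Matrix (Fin n) (Fin n) F} (hM : ∀ z : F, M ≠ z • 1) :
    ∃ v, LinearIndependent F ![v, M *ᵥ v] := by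
  by_contra hcon
  push Not at hcon
  have hv : ∀ v, ∃ z : F, M *ᵥ v = z • v := fun v => by
    by_cases h0 : v = 0
    · exact ⟨0, by simp [h0]⟩
    have := hcon v
    rw [LinearIndependent.pair_iff' h0] at this
    push Not at this
    obtain ⟨z, hz⟩ := this
    exact ⟨z, hz.symm⟩
  rcases Nat.eq_zero_or_pos n with rfl | hn
  · exact hM 0 (Subsingleton.elim _ _)
  obtain ⟨z, hz⟩ := hv (Pi.single ⟨0, hn⟩ 1)
  refine hM z (Matrix.ext_of_mulVec_single fun i => ?_)
  rw [Matrix.smul_mulVec, Matrix.one_mulVec]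
  rcases eq_or_ne i ⟨0, hn⟩ with rfl | hi
  · exact hz
  obtain ⟨a, ha⟩ := hv (Pi.single i 1)
  obtain ⟨b, hb⟩ := hv (Pi.single i 1 + Pi.single ⟨0, hn⟩ 1)
  rw [Matrix.mulVec_add, hz, ha] at hb
  have h1 := congrFun hb i
  have h2 := congrFun hb ⟨0, hn⟩
  simp [Pi.single_apply, hi, hi.symm] at h1 h2
  rw [ha, h1, ← h2]

/-- Degree two, over a field with at least four elements. -/
theorem fact_two {b : F} (hb : b ≠ 0) (hb2 : b * b ≠ 1) {M : Matrix (Fin 2) (Fin 2) F} (hdet : M.det = 1)
    (hM : ∀ z : F, M ≠ z • 1) (c d : Fin 2 → F) : Fact M c d := by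
  obtain ⟨v, hli⟩ := exists_moved' hM
  let w := M *ᵥ v - v
  let P : Matrix (Fin 2) (Fin 2) F := Matrix.of fun i l => ![v, w] l i
  have hli' : LinearIndependent F ![v, w] := by
    rw [LinearIndependent.pair_iff] at hli ⊢
    intro s t hst
    have := hli (s - t) t (by rw [← hst]; simp only [w]; module)
    exact ⟨by linear_combination this.1 + this.2, this.2⟩
  have hP : IsUnit P.det :=
    (Matrix.isUnit_iff_isUnit_det P).mp (Matrix.linearIndependent_cols_iff_isUnit.mp hli')
  set N := P⁻¹ * M * P with hN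
  have hMP : M * P = P * N := by
    rw [hN, Matrix.mul_assoc P⁻¹, Matrix.mul_nonsing_inv_cancel_left _ _ hP]
  have hcol : N 0 0 = 1 ∧ N 1 0 = 1 := by
    have h1 : P *ᵥ ![1, 1] = P *ᵥ (N *ᵥ ![1, 0]) := by
      rw [Matrix.mulVec_mulVec, ← hMP, ← Matrix.mulVec_mulVec]
      have e1 : P *ᵥ ![1, 0] = v := by
        ext i; simp [P, Matrix.mulVec, dotProduct, Fin.sum_univ_two]
      have e2 : P *ᵥ ![1, 1] = v + w := by
        ext i; simp [P, Matrix.mulVec, dotProduct, Fin.sum_univ_two]
      rw [e1, e2]; simp [w]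
    have h2 := congrArg (P⁻¹ *ᵥ ·) h1
    simp only [Matrix.mulVec_mulVec, Matrix.nonsing_inv_mul_cancel_left _ _ hP, Matrix.nonsing_inv_mul _ hP,
      Matrix.one_mulVec] at h2
    have a0 := congrFun h2 0
    have a1 := congrFun h2 1
    simp [Matrix.mulVec, dotProduct, Fin.sum_univ_two] at a0 a1
    exact ⟨a0.symm, a1.symm⟩
  have hdN : N.det = 1 := by rw [← Sim.det_eq ⟨P, hP, hMP⟩, hdet]
  rw [Matrix.det_fin_two, hcol.1, hcol.2] at hdN
  have hbi : b - b⁻¹ ≠ 0 := fun e => hb2 (by
    have := sub_eq_zero.mp e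
    calc b * b = b * b⁻¹ := by rw [← this]
      _ = 1 := mul_inv_cancel₀ hb)
  refine Fact.sim hP hMP (d₀ := P⁻¹ *ᵥ d)
    (by rw [Matrix.mulVec_mulVec, Matrix.mul_nonsing_inv P hP, Matrix.one_mulVec])
    (Fact.of_end (A := !![b, 0; 0, b⁻¹]) (B := !![b⁻¹, 0; 0, b]) (L := !![b, 0; b, b⁻¹])
      (U := !![b⁻¹, N 0 1 / b; 0, b]) ?_ ?_ ?_ ?_ _ _)
  · refine ⟨by simp [Matrix.det_fin_two, hb], ?_, ?_, ⟨!![b⁻¹, 0; 0, b], ?_, Sim.rfl' _⟩, fun δ hδ =>
      ⟨!![δ, 0; 0, 1], ?_, by simp [Matrix.det_fin_two]⟩⟩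
    · rw [Matrix.one_fin_two]
      simp [Matrix.det_fin_two, sub_eq_zero]
      exact fun e => hb2 (by rw [e]; simp)
    · rw [Matrix.one_fin_two]
      simp [Matrix.det_fin_two, sub_eq_zero]
      exact fun e => hb2 (by rw [e]; simp)
    · rw [Matrix.one_fin_two]; simp [hb]
    · simp [mul_comm]
  · ext i l
    fin_cases i <;> fin_cases l <;> simp [hcol.1, hcol.2, hb]
    · field_simp
    · field_simp
      linear_combination hdN
  · refine ⟨!![1, 0; b / (b - b⁻¹), 1], by simp [Matrix.det_fin_two], ?_⟩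
    ext i l
    fin_cases i <;> fin_cases l <;> simp [Matrix.mul_apply, Fin.sum_univ_two]
    have hb2' : b * b - 1 ≠ 0 := sub_ne_zero.mpr hb2
    have hb2'' : b ^ 2 - 1 ≠ 0 := by rwa [sq]
    field_simp
    ring
  · refine ⟨!![1, N 0 1 / b / (b - b⁻¹); 0, 1], by simp [Matrix.det_fin_two], ?_⟩
    ext i l
    fin_cases i <;> fin_cases l <;> simp [Matrix.mul_apply, Fin.sum_univ_two]
    have hb2' : b * b - 1 ≠ 0 := sub_ne_zero.mpr hb2
    have hb2'' : b ^ 2 - 1 ≠ 0 := by rwa [sq]
    field_simp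
    ring

variable {q k : ℕ}

/-- An end from a table row. -/
theorem fact_of_row (φ : ZMod q →+* F) {C Ci M₀ S Si T Ti : Matrix (Fin k) (Fin k) (ZMod q)}
    (hC : C * Ci = 1) (hd : C.det = 1) (h1 : φ (C - 1).det ≠ 0) (h2 : φ (Ci - 1).det ≠ 0)
    (hcent : ∀ δ : F, δ ≠ 0 → ∃ E, E * C.map φ = C.map φ * E ∧ E.det = δ)
    (h : S * Si = 1 ∧ T * Ti = 1 ∧ M₀ = S * C * Si * (T * Ci * Ti)) (c d : Fin k → F) :
    Fact (M₀.map φ) c d := by
  obtain ⟨hS, hT, hM⟩ := h
  have hmap : ∀ X Y : Matrix (Fin k) (Fin k) (ZMod q), (X * Y).map φ = X.map φ * Y.map φ := fun X Y =>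
    Matrix.map_mul
  have hone : (1 : Matrix (Fin k) (Fin k) (ZMod q)).map φ = 1 := Matrix.map_one φ (map_zero φ) (map_one φ)
  have hsub : ∀ X : Matrix (Fin k) (Fin k) (ZMod q), φ (X - 1).det = (X.map φ - 1).det := fun X => by
    rw [RingHom.map_det, RingHom.mapMatrix_apply, Matrix.map_sub _ (map_sub φ), hone]
  have hsim : ∀ S Si X : Matrix (Fin k) (Fin k) (ZMod q), S * Si = 1 → Sim ((S * X * Si).map φ) (X.map φ) :=
    fun S Si X e => by
    refine ⟨S.map φ, (Matrix.isUnit_iff_isUnit_det _).mp (IsUnit.of_mul_eq_one (Si.map φ) (by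
      rw [← hmap, e, hone])), ?_⟩
    rw [← hmap, ← hmap, Matrix.mul_assoc (S * X), mul_eq_one_comm.mp e, Matrix.mul_one]
  refine Fact.of_end (A := C.map φ) (B := Ci.map φ) (L := (S * C * Si).map φ) (U := (T * Ci * Ti).map φ)
    ⟨?_, by rw [← hsub]; exact h1, by rw [← hsub]; exact h2, ⟨Ci.map φ, by rw [← hmap, hC, hone], Sim.rfl' _⟩,
      hcent⟩ (by rw [hM, hmap]) (hsim _ _ _ hS) (hsim _ _ _ hT) c d
  rw [← RingHom.mapMatrix_apply, ← RingHom.map_det, hd, map_one]

/-- Matrices of degree three reduce to two normal forms. -/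
theorem fact_three_of_forms {M : Matrix (Fin 3) (Fin 3) F} (hdet : M.det = 1) (hM : ∀ z : F, M ≠ z • 1)
    (hk : kdim M ≤ 1) (hc : ∀ f g : F, ∀ c d, Fact !![0, 0, 1; 1, 0, f; 0, 1, g] c d)
    (hs : ∀ a b e f g : F, -(a * g) = 1 → ¬ (a + b = 1 ∧ e + f = 0 ∧ g = 1) →
      ∀ c d, Fact !![0, a, e; 1, b, f; 0, 0, g] c d)
    (c d : Fin 3 → F) : Fact M c d := by
  obtain ⟨v, hli⟩ := exists_moved' hM
  have key : ∀ x : Fin 3 → F, x ∉ Submodule.span F (Set.range ![v, M *ᵥ v]) →
      ∃ P : Matrix (Fin 3) (Fin 3) F, IsUnit P.det ∧ (∀ y, P *ᵥ y = y 0 • v + y 1 • (M *ᵥ v) + y 2 • x) := by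
    intro x hx
    have h3 : LinearIndependent F (Fin.snoc ![v, M *ᵥ v] x) := linearIndependent_finSnoc.mpr ⟨hli, hx⟩
    refine ⟨Matrix.of fun i l => (Fin.snoc ![v, M *ᵥ v] x : Fin 3 → Fin 3 → F) l i,
      (Matrix.isUnit_iff_isUnit_det _).mp (Matrix.linearIndependent_cols_iff_isUnit.mp h3), fun y => ?_⟩
    ext i
    simp [Matrix.mulVec, dotProduct, Fin.sum_univ_three, Fin.snoc, mul_comm]
  have fin : ∀ (P N : Matrix (Fin 3) (Fin 3) F), IsUnit P.det → M * P = P * N →
      (∀ c d, Fact N c d) → Fact M c d := fun P N hP hMP h =>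
    Fact.sim hP hMP (d₀ := P⁻¹ *ᵥ d)
      (by rw [Matrix.mulVec_mulVec, Matrix.mul_nonsing_inv P hP, Matrix.one_mulVec]) (h _ _)
  have hof : ∀ (P N : Matrix (Fin 3) (Fin 3) F), (∀ l, M *ᵥ (P *ᵥ Pi.single l 1) = P *ᵥ (N *ᵥ Pi.single l 1)) →
      M * P = P * N := fun P N h => Matrix.ext_of_mulVec_single fun l => by
    rw [← Matrix.mulVec_mulVec, h, Matrix.mulVec_mulVec]
  by_cases hcyc : M *ᵥ (M *ᵥ v) ∈ Submodule.span F (Set.range ![v, M *ᵥ v])
  · obtain ⟨α, hα⟩ := (Submodule.mem_span_range_iff_exists_fun F).mp hcyc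
    obtain ⟨x, hx⟩ : ∃ x, x ∉ Submodule.span F (Set.range ![v, M *ᵥ v]) := by
      by_contra hcon
      push Not at hcon
      have h := finrank_range_le_card (R := F) ![v, M *ᵥ v]
      rw [Set.finrank, show Submodule.span F (Set.range ![v, M *ᵥ v]) = ⊤ from
        eq_top_iff.mpr fun y _ => hcon y, finrank_top, Module.finrank_fintype_fun_eq_card] at h
      simp at h
    obtain ⟨P, hP, hPy⟩ := key x hx
    set u := P⁻¹ *ᵥ (M *ᵥ x) with hu
    have hMx : M *ᵥ x = P *ᵥ u := by
      rw [hu, Matrix.mulVec_mulVec _ P, Matrix.mul_nonsing_inv P hP, Matrix.one_mulVec]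
    have hMP : M * P = P * !![0, α 0, u 0; 1, α 1, u 1; 0, 0, u 2] := hof _ _ fun l => by
      rw [Fin.sum_univ_two] at hα
      simp only [Matrix.cons_val_zero, Matrix.cons_val_one] at hα
      rw [hPy, hPy]
      fin_cases l <;> simp [Matrix.mulVec, dotProduct, Fin.sum_univ_three, -Matrix.mulVec_mulVec] <;>
        first
          | exact hα.symm
          | (rw [hMx, hPy])
          | skip
    have hd' : -(α 0 * u 2) = 1 := by
      have h1 := Sim.det_eq ⟨P, hP, hMP⟩
      rw [hdet] at h1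
      rw [h1, Matrix.det_fin_three]
      simp
    refine fin P _ hP hMP (hs _ _ _ _ _ hd' fun ⟨e1, e2, e3⟩ => ?_)
    have hker : ∀ y, (!![0, α 0, u 0; 1, α 1, u 1; 0, 0, u 2] : Matrix (Fin 3) (Fin 3) F) *ᵥ y = y →
        P *ᵥ y ∈ LinearMap.ker (dev M) := fun y hy => by
      rw [LinearMap.mem_ker, dev_apply, Matrix.mulVec_mulVec, hMP, ← Matrix.mulVec_mulVec, hy, sub_self]
    have k1 := hker ![α 0, 1, 0] (by
      ext i; fin_cases i <;> simp [Matrix.mulVec, dotProduct, Fin.sum_univ_three, e1])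
    have k2 := hker ![u 0, 0, 1] (by
      ext i; fin_cases i <;> simp [Matrix.mulVec, dotProduct, Fin.sum_univ_three, e2, e3])
    have hli2 : LinearIndependent F ![(⟨_, k1⟩ : LinearMap.ker (dev M)), ⟨_, k2⟩] := by
      rw [LinearIndependent.pair_iff]
      intro s t hst
      have h1 := congrArg (fun z : LinearMap.ker (dev M) => P⁻¹ *ᵥ (z : Fin 3 → F)) hst
      simp only [Submodule.coe_add, Submodule.coe_smul, Matrix.mulVec_add, Matrix.mulVec_smul,
        Matrix.mulVec_mulVec, Matrix.nonsing_inv_mul P hP, Matrix.one_mulVec, Submodule.coe_zero,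
        Matrix.mulVec_zero] at h1
      have a1 := congrFun h1 1
      have a2 := congrFun h1 2
      simp at a1 a2
      exact ⟨a1, a2⟩
    have := hli2.fintype_card_le_finrank
    simp only [Fintype.card_fin] at this
    rw [kdim] at hk
    omega
  · obtain ⟨P, hP, hPy⟩ := key _ hcyc
    set u := P⁻¹ *ᵥ (M *ᵥ (M *ᵥ (M *ᵥ v))) with hu
    have hMx : M *ᵥ (M *ᵥ (M *ᵥ v)) = P *ᵥ u := by
      rw [hu, Matrix.mulVec_mulVec _ P, Matrix.mul_nonsing_inv P hP, Matrix.one_mulVec]
    have hMP : M * P = P * !![0, 0, u 0; 1, 0, u 1; 0, 1, u 2] := hof _ _ fun l => by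
      rw [hPy, hPy]
      fin_cases l <;> simp [Matrix.mulVec, dotProduct, Fin.sum_univ_three, -Matrix.mulVec_mulVec]
      rw [hMx, hPy]
    have hd' : u 0 = 1 := by
      have h1 := Sim.det_eq ⟨P, hP, hMP⟩
      rw [hdet] at h1
      rw [h1, Matrix.det_fin_three]
      simp
    rw [hd'] at hMP
    exact fin P _ hP hMP (hc _ _)

/-- Degree three over the field with three elements. -/
theorem fact_three_three (φ : ZMod 3 →+* F) (hφ : Function.Bijective φ) {M : Matrix (Fin 3) (Fin 3) F}
    (hdet : M.det = 1) (hM : ∀ z : F, M ≠ z • 1) (hk : kdim M ≤ 1) (c d : Fin 3 → F) : Fact M c d := by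
  have hcent : ∀ δ : F, δ ≠ 0 → ∃ E, E * cThreeThree.map φ = cThreeThree.map φ * E ∧ E.det = δ := fun δ hδ => by
    refine ⟨δ • 1, by simp, ?_⟩
    obtain ⟨x, rfl⟩ := hφ.2 δ
    rw [Matrix.det_smul, Matrix.det_one, mul_one, Fintype.card_fin, ← map_pow, ZMod.pow_card]
  have row : ∀ (M₀ : Matrix (Fin 3) (Fin 3) (ZMod 3)), (∃ w ∈ wThreeThree, w.1 = M₀) →
      ∀ c d, Fact (M₀.map φ) c d := by
    rintro M₀ ⟨w, hw, rfl⟩ c d
    exact fact_of_row φ cThreeThree_mul (by decide +kernel) ((map_ne_zero φ).mpr (by decide +kernel))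
      ((map_ne_zero φ).mpr (by decide +kernel)) hcent (wThreeThree_valid w hw) c d
  refine fact_three_of_forms hdet hM hk (fun f g => ?_) (fun a b e f g h1 h2 => ?_) c d
  · obtain ⟨f, rfl⟩ := hφ.2 f
    obtain ⟨g, rfl⟩ := hφ.2 g
    have := row _ (wThreeThree_cyclic f g)
    convert this using 4
    ext i l; fin_cases i <;> fin_cases l <;> simp
  · obtain ⟨a, rfl⟩ := hφ.2 a
    obtain ⟨b, rfl⟩ := hφ.2 b
    obtain ⟨e, rfl⟩ := hφ.2 e
    obtain ⟨f, rfl⟩ := hφ.2 f
    obtain ⟨g, rfl⟩ := hφ.2 g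
    have h1' : -(a * g) = 1 := hφ.1 (by rw [map_neg, map_mul, map_one]; exact h1)
    have h2' : ¬ (a + b = 1 ∧ e + f = 0 ∧ g = 1) := fun ⟨x, y, z⟩ => h2 ⟨by rw [← map_add, x, map_one],
      by rw [← map_add, y, map_zero], by rw [z, map_one]⟩
    have := row _ (wThreeThree_split a b e f g h1' h2')
    convert this using 4
    ext i l; fin_cases i <;> fin_cases l <;> simp

/-- Degree three over the field with two elements. -/
theorem fact_two_three (φ : ZMod 2 →+* F) (hφ : Function.Bijective φ) {M : Matrix (Fin 3) (Fin 3) F}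
    (hdet : M.det = 1) (hM : ∀ z : F, M ≠ z • 1) (hk : kdim M ≤ 1) (c d : Fin 3 → F) : Fact M c d := by
  have hcent : ∀ δ : F, δ ≠ 0 → ∃ E, E * cTwoThree.map φ = cTwoThree.map φ * E ∧ E.det = δ := fun δ hδ => by
    refine ⟨1, by simp, ?_⟩
    obtain ⟨x, rfl⟩ := hφ.2 δ
    have hx : x = 1 := by
      revert hδ
      revert x
      intro x
      match x with
      | 0 => intro h; exact absurd (map_zero φ) h
      | 1 => intro _; rfl
    simp [hx]
  have row : ∀ (M₀ : Matrix (Fin 3) (Fin 3) (ZMod 2)), (∃ w ∈ wTwoThree, w.1 = M₀) →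
      ∀ c d, Fact (M₀.map φ) c d := by
    rintro M₀ ⟨w, hw, rfl⟩ c d
    exact fact_of_row φ cTwoThree_mul (by decide +kernel) ((map_ne_zero φ).mpr (by decide +kernel))
      ((map_ne_zero φ).mpr (by decide +kernel)) hcent (wTwoThree_valid w hw) c d
  refine fact_three_of_forms hdet hM hk (fun f g => ?_) (fun a b e f g h1 h2 => ?_) c d
  · obtain ⟨f, rfl⟩ := hφ.2 f
    obtain ⟨g, rfl⟩ := hφ.2 g
    have := row _ (wTwoThree_cyclic f g)
    convert this using 4
    ext i l; fin_cases i <;> fin_cases l <;> simp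
  · obtain ⟨a, rfl⟩ := hφ.2 a
    obtain ⟨b, rfl⟩ := hφ.2 b
    obtain ⟨e, rfl⟩ := hφ.2 e
    obtain ⟨f, rfl⟩ := hφ.2 f
    obtain ⟨g, rfl⟩ := hφ.2 g
    have h1' : -(a * g) = 1 := hφ.1 (by rw [map_neg, map_mul, map_one]; exact h1)
    have h2' : ¬ (a + b = 1 ∧ e + f = 0 ∧ g = 1) := fun ⟨x, y, z⟩ => h2 ⟨by rw [← map_add, x, map_one],
      by rw [← map_add, y, map_zero], by rw [z, map_one]⟩
    have := row _ (wTwoThree_split a b e f g h1' h2')
    convert this using 4
    ext i l; fin_cases i <;> fin_cases l <;> simp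

/-- Degree four over the field with two elements, fixed space of dimension two. -/
theorem fact_two_four (φ : ZMod 2 →+* F) (hφ : Function.Bijective φ) {M : Matrix (Fin 4) (Fin 4) F}
    (hdet : M.det = 1) (hk : kdim M = 2) (c d : Fin 4 → F) : Fact M c d := by
  classical
  have hcent : ∀ δ : F, δ ≠ 0 → ∃ E, E * cTwoFour.map φ = cTwoFour.map φ * E ∧ E.det = δ := fun δ hδ => by
    refine ⟨1, by simp, ?_⟩
    obtain ⟨x, rfl⟩ := hφ.2 δ
    have hx : x = 1 := by
      revert hδ
      revert x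
      intro x
      match x with
      | 0 => intro h; exact absurd (map_zero φ) h
      | 1 => intro _; rfl
    simp [hx]
  have h01 : ∀ x : F, x = 0 ∨ x = 1 := fun x => by
    obtain ⟨y, rfl⟩ := hφ.2 x
    match y with
    | 0 => exact Or.inl (map_zero φ)
    | 1 => exact Or.inr (map_one φ)
  have h2 : (1 : F) + 1 = 0 := by rw [← map_one φ, ← map_add]; exact map_zero φ
  have row : ∀ (M₀ : Matrix (Fin 4) (Fin 4) (ZMod 2)), (∃ w ∈ wTwoFour, w.1 = M₀) →
      ∀ (x : Fin 4 → (Fin 4 → F)), LinearIndependent F x →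
      (∀ l, M *ᵥ x l = ∑ i, φ (M₀ i l) • x i) → Fact M c d := by
    rintro M₀ ⟨w, hw, rfl⟩ x hx hrel
    let P : Matrix (Fin 4) (Fin 4) F := Matrix.of fun i l => x l i
    have hP : IsUnit P.det :=
      (Matrix.isUnit_iff_isUnit_det P).mp (Matrix.linearIndependent_cols_iff_isUnit.mp hx)
    have hMP : M * P = P * w.1.map φ := by
      ext i l
      have := congrFun (hrel l) i
      simp [Matrix.mulVec, dotProduct] at this
      simp [P, Matrix.mul_apply, this, mul_comm]
    exact Fact.sim hP hMP (d₀ := P⁻¹ *ᵥ d)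
      (by rw [Matrix.mulVec_mulVec, Matrix.mul_nonsing_inv P hP, Matrix.one_mulVec])
      (fact_of_row φ cTwoFour_mul (by decide +kernel) ((map_ne_zero φ).mpr (by decide +kernel))
        ((map_ne_zero φ).mpr (by decide +kernel)) hcent (wTwoFour_valid w hw) _ _)
  set N := dev M with hN
  have hmv : ∀ x, M *ᵥ x = x + N x := fun x => by rw [hN, dev_apply]; abel
  have hne1 : ∀ x, N x = x → x = 0 := fun x hx => by
    by_contra h0
    apply mulVec_ne_zero (M := M) (by rw [hdet]; exact one_ne_zero) h0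
    have h : ((1 : F) + 1) • x = 0 := by rw [h2, zero_smul]
    rw [hmv, hx, ← h, add_smul, one_smul]
  have hr : finrank F (LinearMap.range N) = 2 := by
    have := rank_add_kdim M; rw [← hN] at this; omega
  have hmemN : ∀ x, N x ∈ LinearMap.range N := fun x => ⟨x, rfl⟩
  by_cases hsq : ∀ x, N (N x) = 0
  · -- the square of `M - 1` vanishes
    let b := Module.finBasisOfFinrankEq F (LinearMap.range N) hr
    obtain ⟨x, hx⟩ := (b 0).2
    obtain ⟨y, hy⟩ := (b 1).2
    have hb2 := LinearIndependent.pair_iff.mp (show LinearIndependent F ![N x, N y] by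
      have := b.linearIndependent.map' (LinearMap.range N).subtype (LinearMap.range N).ker_subtype
      have e : (![N x, N y] : Fin 2 → Fin 4 → F) = (LinearMap.range N).subtype ∘ b := by
        ext i : 1; fin_cases i <;> simp [hx, hy]
      rw [e]; exact this)
    refine row _ wTwoFour_square ![x, y, N x, N y] ?_ fun l => ?_
    · rw [Fintype.linearIndependent_iff]
      intro g hg
      simp [Fin.sum_univ_four] at hg
      have h1 := congrArg N hg
      simp [map_add, map_smul, hsq] at h1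
      obtain ⟨g0, g1⟩ := hb2 _ _ h1
      rw [g0, g1, zero_smul, zero_smul, zero_add, zero_add] at hg
      obtain ⟨g2, g3⟩ := hb2 _ _ hg
      intro i; fin_cases i <;> assumption
    · fin_cases l <;> simp [Fin.sum_univ_four, hmv, hsq]
  push Not at hsq
  by_cases hcap : ∃ k, k ≠ 0 ∧ k ∈ LinearMap.range N ∧ N k = 0
  · -- a chain of length three and a fixed vector
    obtain ⟨k₀, hk0, hkr, hkN⟩ := hcap
    obtain ⟨x, hx⟩ := hsq
    have hspan : ∀ y ∈ LinearMap.range N, ∃ a b : F, y = a • k₀ + b • N x := by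
      have hli : LinearIndependent F ![(⟨k₀, hkr⟩ : LinearMap.range N), ⟨N x, hmemN x⟩] := by
        rw [LinearIndependent.pair_iff]
        intro s t hst
        have h1 : s • k₀ + t • N x = 0 := congrArg Subtype.val hst
        have h1' := congrArg N h1
        simp [map_add, map_smul, hkN] at h1'
        have ht : t = 0 := h1'.resolve_right hx
        rw [ht, zero_smul, add_zero, smul_eq_zero] at h1
        exact ⟨h1.resolve_right hk0, ht⟩
      intro y hy
      obtain ⟨f, hf⟩ := (Submodule.mem_span_range_iff_exists_fun F).mp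
        ((hli.span_eq_top_of_card_eq_finrank (by simp [hr])).ge (Submodule.mem_top (x := ⟨y, hy⟩)))
      refine ⟨f 0, f 1, ?_⟩
      have := congrArg Subtype.val hf
      simpa [Fin.sum_univ_two] using this.symm
    obtain ⟨a, b, hab⟩ := hspan _ (hmemN (N x))
    have hb : b = 0 := by
      rcases h01 b with h | h
      · exact h
      exfalso
      rw [h, one_smul] at hab
      have h1 := hne1 (N x + a • k₀) (by rw [map_add, map_smul, hkN, smul_zero, add_zero, hab, add_comm])
      have h1' := congrArg N h1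
      rw [map_add, map_smul, hkN, smul_zero, add_zero, map_zero] at h1'
      exact hx h1'
    rw [hb, zero_smul, add_zero] at hab
    have ha : a = 1 := (h01 a).resolve_left fun h => hx (by rw [hab, h, zero_smul])
    rw [ha, one_smul] at hab
    obtain ⟨k₁, hk1, hk1'⟩ : ∃ k, N k = 0 ∧ k ∉ F ∙ k₀ := by
      by_contra hcon
      push Not at hcon
      have h := Submodule.finrank_mono (show LinearMap.ker N ≤ F ∙ k₀ from fun k hk => hcon k (LinearMap.mem_ker.mp hk))
      rw [finrank_span_singleton hk0] at h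
      rw [kdim, ← hN] at hk
      omega
    refine row _ wTwoFour_chain ![x, N x, k₀, k₁] ?_ fun l => ?_
    · rw [Fintype.linearIndependent_iff]
      intro g hg
      simp [Fin.sum_univ_four] at hg
      have h1 := congrArg N hg
      simp [map_add, map_smul, hab, hkN, hk1] at h1
      have h1' := congrArg N h1
      simp [map_add, map_smul, hab, hkN] at h1'
      have g0 : g 0 = 0 := h1'.resolve_right hk0
      rw [g0, zero_smul, zero_add, smul_eq_zero] at h1
      have g1 : g 1 = 0 := h1.resolve_right hk0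
      rw [g0, g1, zero_smul, zero_smul, zero_add, zero_add] at hg
      have g3 : g 3 = 0 := by
        by_contra h
        apply hk1'
        refine Submodule.mem_span_singleton.mpr ⟨-((g 3)⁻¹ * g 2), ?_⟩
        have e : g 3 • k₁ = -(g 2 • k₀) := eq_neg_of_add_eq_zero_right hg
        rw [neg_smul, mul_smul, ← smul_neg, ← e, smul_smul, inv_mul_cancel₀ h, one_smul]
      rw [g3, zero_smul, add_zero, smul_eq_zero] at hg
      have g2 : g 2 = 0 := hg.resolve_right hk0
      intro i; fin_cases i <;> assumption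
    · fin_cases l <;> simp [Fin.sum_univ_four, hmv, hab, hkN, hk1]
  · -- the image and the kernel of `M - 1` are complementary
    push Not at hcap
    obtain ⟨x, hx⟩ := hsq
    set w := N x with hw
    have hw0 : w ≠ 0 := fun h => hx (by rw [h, map_zero])
    have hinj : ∀ y ∈ LinearMap.range N, N y = 0 → y = 0 := fun y hy hy0 => by
      by_contra h; exact hcap y h hy hy0
    have hli : LinearIndependent F ![(⟨w, hmemN x⟩ : LinearMap.range N), ⟨N w, hmemN w⟩] := by
      rw [LinearIndependent.pair_iff]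
      intro s t hst
      have h1 : s • w + t • N w = 0 := congrArg Subtype.val hst
      rcases h01 t with rfl | rfl
      · rw [zero_smul, add_zero, smul_eq_zero] at h1
        exact ⟨h1.resolve_right hw0, rfl⟩
      · exfalso
        rcases h01 s with rfl | rfl
        · simp at h1; exact hx h1
        · simp only [one_smul] at h1
          apply hw0 (hne1 w ?_)
          have h : ((1 : F) + 1) • w = 0 := by rw [h2, zero_smul]
          rw [add_smul, one_smul] at h
          exact add_left_cancel (h1.trans h.symm)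
    obtain ⟨f, hf⟩ := (Submodule.mem_span_range_iff_exists_fun F).mp
      ((hli.span_eq_top_of_card_eq_finrank (by simp [hr])).ge (Submodule.mem_top (x := ⟨_, hmemN (N w)⟩)))
    have hf' : f 0 • w + f 1 • N w = N (N w) := by simpa [Fin.sum_univ_two] using congrArg Subtype.val hf
    have hww : N (N w) = w + N w := by
      rcases h01 (f 0) with h0 | h0 <;> rcases h01 (f 1) with h1 | h1 <;>
        simp only [h0, h1, zero_smul, one_smul, zero_add, add_zero] at hf'
      · exact absurd (hinj _ (hmemN x) (hinj _ (hmemN w) hf'.symm)) hw0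
      · exact absurd (hne1 _ hf'.symm) hx
      · exfalso
        have hs : w + N w = 0 := hne1 (w + N w) (by rw [map_add, ← hf', add_comm])
        apply hw0 (hne1 w ?_)
        have h : ((1 : F) + 1) • w = 0 := by rw [h2, zero_smul]
        rw [add_smul, one_smul] at h
        exact add_left_cancel (hs.trans h.symm)
      · exact hf'.symm
    have hker : finrank F (LinearMap.ker N) = 2 := hk
    let bk := Module.finBasisOfFinrankEq F (LinearMap.ker N) hker
    have hbk : ∀ i, N (bk i : Fin 4 → F) = 0 := fun i => LinearMap.mem_ker.mp (bk i).2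
    refine row _ wTwoFour_split ![w, N w, bk 0, bk 1] ?_ fun l => ?_
    · rw [Fintype.linearIndependent_iff]
      intro g hg
      simp [Fin.sum_univ_four] at hg
      have h1 := congrArg N hg
      simp [map_add, map_smul, hbk] at h1
      have h1'' : g 0 • w + g 1 • N w = 0 := hinj _
        (Submodule.add_mem _ (Submodule.smul_mem _ _ (hmemN x)) (Submodule.smul_mem _ _ (hmemN w)))
        (by rw [map_add, map_smul, map_smul]; exact h1)
      obtain ⟨g0, g1⟩ := LinearIndependent.pair_iff.mp hli _ _ (Subtype.ext h1'')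
      rw [g0, g1, zero_smul, zero_smul, zero_add, zero_add] at hg
      obtain ⟨g2, g3⟩ := LinearIndependent.pair_iff.mp
        (show LinearIndependent F ![bk 0, bk 1] by
          convert bk.linearIndependent using 1
          ext i : 1; fin_cases i <;> simp) _ _ (Subtype.ext hg)
      intro i; fin_cases i <;> assumption
    · fin_cases l <;> simp [Fin.sum_univ_four, hmv, hww, hbk]
      · have h : ((1 : F) + 1) • N w = 0 := by rw [h2, zero_smul]
        rw [add_smul, one_smul] at h
        rw [add_left_comm, h, add_zero]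

end Cfsg.Lib.Classical.SLComm
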