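import Cfsg.Agent.Classical.Linear.CommShape

/-! Scalar matrices of determinant one are commutators of matrices of determinant one. -/

set_option autoImplicit false
set_option linter.unusedSectionVars false
set_option linter.unusedSimpArgs false

namespace Cfsg.Lib.Classical.SLComm

open Matrix

universe u

variable {F : Type u} [Field F] {m : ℕ}

/-- The monomial matrix sending the `l`-th basis vector to `w l` times the `(l + k)`-th. -/
def mono (w : Fin (m + 1) → F) (k : Fin (m + 1)) : Matrix (Fin (m + 1)) (Fin (m + 1)) F :=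
  Matrix.of fun i l => if i = l + k then w l else 0

theorem mono_mul (w w' : Fin (m + 1) → F) (k k' : Fin (m + 1)) :
    mono w k * mono w' k' = mono (fun l => w' l * w (l + k')) (k + k') := by
  ext i l
  simp only [mono, Matrix.mul_apply, Matrix.of_apply]
  rw [Finset.sum_eq_single (l + k')]
  · rw [if_pos rfl, ite_mul, zero_mul, show l + k' + k = l + (k + k') by abel]
    simp [mul_comm]
  · intro j _ hj; rw [if_neg hj, mul_zero]
  · intro h; exact absurd (Finset.mem_univ _) h

theorem mono_one : mono (fun _ => (1 : F)) (0 : Fin (m + 1)) = 1 := by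
  ext i l; simp [mono, Matrix.one_apply]

theorem mono_diag (w : Fin (m + 1) → F) : mono w 0 = Matrix.diagonal w := by
  ext i l
  by_cases h : i = l <;> simp [mono, h]

theorem det_mono_one (w : Fin (m + 1) → F) : (mono w 1).det = (-1) ^ m * ∏ l, w l := by
  have : mono w 1 = (Equiv.Perm.permMatrix F (finRotate (m + 1)).symm) * Matrix.diagonal w := by
    ext i l
    simp only [mono, Matrix.of_apply, Matrix.mul_diagonal, Equiv.Perm.permMatrix, PEquiv.toMatrix_apply,
      Equiv.toPEquiv_apply, Option.mem_some_iff]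
    by_cases h : i = l + 1
    · rw [if_pos h, if_pos (by rw [h, Equiv.symm_apply_eq, finRotate_succ_apply]), one_mul]
    · rw [if_neg h, if_neg (fun e => h (by rw [← e]; simp [← finRotate_succ_apply])), zero_mul]
  rw [this, Matrix.det_mul, Matrix.det_permutation, Matrix.det_diagonal]
  simp [sign_finRotate]

/-- The weights of the twisted cycle. -/
def cyc (F : Type u) [Field F] (m : ℕ) : Fin (m + 1) → F := fun l => if l = Fin.last m then (-1) ^ m else 1

theorem det_cyc : (mono (cyc F m) 1).det = 1 := by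
  rw [det_mono_one]
  simp [cyc, ← mul_pow]

theorem diag_cyc {z : F} (hz : z ^ (m + 1) = 1) :
    mono (fun l : Fin (m + 1) => z ^ l.1) 0 * mono (cyc F m) 1 =
      z • (mono (cyc F m) 1 * mono (fun l : Fin (m + 1) => z ^ l.1) 0) := by
  rw [mono_mul, mono_mul, zero_add, add_zero]
  ext i l
  simp only [mono, Matrix.of_apply, Matrix.smul_apply, smul_eq_mul, add_zero, mul_ite, mul_zero]
  split_ifs with h
  · rw [show z * (z ^ l.1 * cyc F m l) = cyc F m l * (z ^ (l.1 + 1)) by ring]
    congr 1
    rw [Fin.val_add_one]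
    split_ifs with hl
    · rw [hl, Fin.val_last, pow_zero, hz]
    · rfl
  · rfl

/-- The complex structure commuting with the twisted cycle. -/
def jay (F : Type u) [Field F] (m h : ℕ) : Fin (m + 1) → F := fun l => if h ≤ l.1 then -1 else 1

theorem val_add_half {h : ℕ} (hm : m + 1 = h + h) (l : Fin (m + 1)) :
    (l + Fin.ofNat (m + 1) h).1 = if h ≤ l.1 then l.1 - h else l.1 + h := by
  have hh : ((Fin.ofNat (m + 1) h) : ℕ) = h := by
    rw [Fin.val_ofNat, Nat.mod_eq_of_lt (by omega)]
  rw [Fin.val_add, hh]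
  split_ifs with hl
  · rw [Nat.mod_eq_sub_mod (by omega), Nat.mod_eq_of_lt (by omega)]; omega
  · rw [Nat.mod_eq_of_lt (by omega)]

theorem cyc_jay {h : ℕ} (hm : m + 1 = h + h) :
    mono (cyc F m) 1 * mono (jay F m h) (Fin.ofNat (m + 1) h) = mono (jay F m h) (Fin.ofNat (m + 1) h) * mono (cyc F m) 1 := by
  rw [mono_mul, mono_mul, add_comm (1 : Fin (m + 1))]
  congr 1
  funext l
  have hodd : ((-1 : F)) ^ m = -1 := by
    obtain ⟨j, rfl⟩ : ∃ j, h = j + 1 := ⟨h - 1, by omega⟩
    rw [show m = 2 * j + 1 by omega, pow_succ, pow_mul]; simp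
  have h1 := val_add_half hm l
  have h2 := Fin.val_add_one l
  simp only [jay, cyc, hodd, Fin.ext_iff, Fin.val_last] at h2 ⊢
  rw [h1, h2]
  split_ifs <;> first
    | ring1
    | (exfalso; omega)

/-- Scalars are commutators. -/
theorem isComm_scalar [Finite F] {z : F} (hz : z ^ (m + 1) = 1) :
    IsComm (z • (1 : Matrix (Fin (m + 1)) (Fin (m + 1)) F)) := by
  classical
  set a := mono (fun l : Fin (m + 1) => z ^ l.1) 0 with ha
  set b := mono (cyc F m) 1 with hb
  have hbu : IsUnit b.det := by rw [hb, det_cyc]; exact isUnit_one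
  have hz0 : z ≠ 0 := fun h => by rw [h, zero_pow (by omega)] at hz; exact zero_ne_one hz
  have key : ∀ E : Matrix (Fin (m + 1)) (Fin (m + 1)) F, E * b = b * E → (a * E).det = 1 →
      IsComm (z • (1 : Matrix (Fin (m + 1)) (Fin (m + 1)) F)) := fun E hE hdE => by
    have hu : IsUnit (a * E).det := by rw [hdE]; exact isUnit_one
    have h : z • (1 : Matrix (Fin (m + 1)) (Fin (m + 1)) F) = (a * E) * b * (a * E)⁻¹ * b⁻¹ := by
      rw [Matrix.mul_assoc a E b, hE, ← Matrix.mul_assoc, ha, hb, diag_cyc hz, Matrix.smul_mul, Matrix.smul_mul,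
        Matrix.smul_mul, Matrix.mul_assoc b, ← ha, ← hb, Matrix.mul_nonsing_inv_cancel_right _ _ hu,
        Matrix.mul_nonsing_inv b hbu]
    rw [h]
    exact IsComm.intro hdE (hb ▸ det_cyc) (Matrix.mul_nonsing_inv _ hu) (Matrix.mul_nonsing_inv b hbu)
  have hda : a.det = z ^ (∑ l : Fin (m + 1), l.1) := by
    rw [ha, mono_diag, Matrix.det_diagonal, Finset.prod_pow_eq_pow_sum]
  by_cases h1 : a.det = 1
  · exact key 1 (by simp) (by rw [Matrix.mul_one, h1])
  have hsum : (∑ l : Fin (m + 1), l.1) * 2 = (m + 1) * m := by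
    rw [Fin.sum_univ_eq_sum_range (fun i => i), Finset.sum_range_id_mul_two, Nat.add_sub_cancel]
  obtain ⟨h, hm⟩ : ∃ h, m + 1 = h + h := by
    rcases Nat.even_or_odd m with ⟨j, hj⟩ | ⟨j, hj⟩
    · exfalso
      apply h1
      rw [hda, show (∑ l : Fin (m + 1), l.1) = (m + 1) * j by subst hj; linarith, pow_mul, hz, one_pow]
    · exact ⟨j + 1, by omega⟩
  have hsum' : (∑ l : Fin (m + 1), l.1) = h * m := by
    have : (m + 1) * m = 2 * (h * m) := by rw [hm]; ring
    omega
  have hzh : z ^ h = -1 := by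
    have hsq : z ^ h * z ^ h = 1 := by rw [← pow_add, ← hm, hz]
    rcases mul_self_eq_one_iff.mp hsq with e | e
    · exfalso; apply h1; rw [hda, hsum', pow_mul, e, one_pow]
    · exact e
  have hadet : a.det = -1 := by
    rw [hda, hsum', pow_mul, hzh]
    exact Odd.neg_one_pow ⟨h - 1, by omega⟩
  obtain ⟨x, y, hxy, hx⟩ : ∃ x y : F, x ^ 2 + y ^ 2 = z ∧ x ≠ 0 := by
    haveI := Fintype.ofFinite F
    obtain ⟨x, y, hxy⟩ : ∃ x y : F, x ^ 2 + y ^ 2 = z := by
      by_cases hc : ringChar F = 2
      · obtain ⟨x, hx⟩ := FiniteField.isSquare_of_char_two hc z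
        exact ⟨x, 0, by rw [hx]; ring⟩
      · obtain ⟨x, y, hxy⟩ := FiniteField.exists_root_sum_quadratic (R := F)
          (f := Polynomial.X ^ 2) (g := Polynomial.X ^ 2 - Polynomial.C z) (Polynomial.degree_X_pow 2)
          (Polynomial.degree_X_pow_sub_C (by decide) _) (FiniteField.odd_card_of_char_ne_two hc)
        refine ⟨x, y, ?_⟩
        simp at hxy
        linear_combination hxy
    by_cases hx : x = 0
    · refine ⟨y, x, by rw [← hxy]; ring, fun hy => hz0 ?_⟩
      rw [← hxy, hx, hy]; ring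
    · exact ⟨x, y, hxy, hx⟩
  set E := x • (1 : Matrix (Fin (m + 1)) (Fin (m + 1)) F) + y • mono (jay F m h) (Fin.ofNat (m + 1) h) with hE
  refine key E ?_ ?_
  · rw [hE, hb, Matrix.add_mul, Matrix.mul_add, Matrix.smul_mul, Matrix.smul_mul, Matrix.mul_smul,
      Matrix.mul_smul, cyc_jay hm, Matrix.one_mul, Matrix.mul_one]
  · let e : Fin h ⊕ Fin h ≃ Fin (m + 1) := finSumFinEquiv.trans (finCongr hm.symm)
    have hEe : E.submatrix e e = Matrix.fromBlocks (x • (1 : Matrix (Fin h) (Fin h) F)) ((-y) • 1) (y • 1) (x • 1) := by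
      have hv : ∀ k, (e (Sum.inl k)).1 = k.1 ∧ (e (Sum.inr k)).1 = h + k.1 := fun k => by
        simp [e, add_comm]
      ext i l
      rcases i with i | i <;> rcases l with l | l <;>
        simp only [hE, Matrix.submatrix_apply, Matrix.add_apply, Matrix.smul_apply, Matrix.one_apply, mono,
          Matrix.of_apply, jay, Fin.ext_iff, val_add_half hm, (hv _).1, (hv _).2, smul_eq_mul,
          Matrix.fromBlocks_apply₁₁, Matrix.fromBlocks_apply₁₂, Matrix.fromBlocks_apply₂₁,
          Matrix.fromBlocks_apply₂₂] <;>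
        have hi := i.2 <;> have hl := l.2 <;>
        split_ifs <;> first
          | ring1
          | (exfalso; omega)
    letI hinv : Invertible (x • (1 : Matrix (Fin h) (Fin h) F)) :=
      ⟨x⁻¹ • 1, by rw [smul_mul_smul_comm, inv_mul_cancel₀ hx, one_smul, Matrix.one_mul],
        by rw [smul_mul_smul_comm, mul_inv_cancel₀ hx, one_smul, Matrix.one_mul]⟩
    have hi : ⅟(x • (1 : Matrix (Fin h) (Fin h) F)) = x⁻¹ • 1 := rfl
    rw [Matrix.det_mul, hadet, ← Matrix.det_submatrix_equiv_self e E, hEe, Matrix.det_fromBlocks₁₁, hi,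
      smul_mul_smul_comm, Matrix.one_mul, smul_mul_smul_comm, Matrix.one_mul, ← sub_smul,
      Matrix.det_smul, Matrix.det_smul, Matrix.det_one, mul_one, mul_one, Fintype.card_fin, ← mul_pow,
      show x * (x - y * x⁻¹ * -y) = z by rw [← hxy]; field_simp; ring, hzh]
    norm_num

end Cfsg.Lib.Classical.SLComm
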