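import Cfsg.Agent.Classical.Linear.CommBase
import Cfsg.Agent.Classical.Linear.CommScalar

/-! Every element of the special linear group over a finite field is a commutator. -/

set_option autoImplicit false
set_option linter.unusedSectionVars false
set_option linter.unusedSimpArgs false

namespace Cfsg.Lib.Classical.SLComm

open Matrix Module

universe u

variable {F : Type u} [Field F] [Fintype F] {m : ℕ}

/-- The choice of the first vector. -/
theorem exists_first {M : Matrix (Fin (m + 1)) (Fin (m + 1)) F} (hdet : M.det = 1) (hm : 2 ≤ m)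
    (hk : kdim M + 2 ≤ m + 1) (hns : ∀ z : F, M ≠ z • 1)
    (hq : Fintype.card F = 2 → kdim M + 3 ≤ m + 1) {c d : Fin (m + 1) → F} (hc : c ≠ 0) (hd : d ≠ 0) :
    ∃ v, c ⬝ᵥ v ≠ 0 ∧ dev M v ∉ F ∙ d ∧ LinearIndependent F ![v, M *ᵥ v] ∧
      (kdim M ≠ 0 → v ∉ LinearMap.range (dev M)) := by
  classical
  set N := dev M
  let fc : (Fin (m + 1) → F) →ₗ[F] F := dotProductBilin F F c
  set A := LinearMap.ker fc with hAdef
  have hA' : ∀ x, x ∈ A ↔ c ⬝ᵥ x = 0 := fun x => Iff.rfl
  have hdimV : finrank F (Fin (m + 1) → F) = m + 1 := Module.finrank_fin_fun F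
  have hA : finrank F A = m := by
    have hsur : Function.Surjective fc := LinearMap.surjective fun h => hc (funext fun i => by
      have := LinearMap.congr_fun h (Pi.single i 1)
      simpa [fc] using this)
    have := LinearMap.finrank_range_add_finrank_ker fc
    rw [LinearMap.range_eq_top.mpr hsur, finrank_top, Module.finrank_self, hdimV] at this
    rw [hAdef]
    omega
  set C := (F ∙ d).comap N with hCdef
  have hC : finrank F C ≤ kdim M + 1 := by
    let f := N.domRestrict C
    have h1 := LinearMap.finrank_range_add_finrank_ker f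
    have h2 : finrank F (LinearMap.range f) ≤ 1 := by
      exact (Submodule.finrank_mono (show LinearMap.range f ≤ F ∙ d by rintro _ ⟨x, rfl⟩; exact x.2)).trans
        (finrank_span_singleton hd).le
    have h3 : finrank F (LinearMap.ker f) ≤ kdim M :=
      LinearMap.finrank_le_finrank_of_injective
        (f := (C.subtype ∘ₗ (LinearMap.ker f).subtype).codRestrict (LinearMap.ker N) fun x => x.2)
        fun x y h => Subtype.ext (Subtype.ext (congrArg (fun z : LinearMap.ker N => (z : Fin (m + 1) → F)) h))
    omega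
  have hli : ∀ v, N v ∉ F ∙ d → (∀ t : F, t ≠ 0 → N v ≠ t • v) → LinearIndependent F ![v, M *ᵥ v] := by
    intro v hv1 hv2
    have hv : v ≠ 0 := fun h => hv1 (by rw [h, map_zero]; exact Submodule.zero_mem _)
    refine (LinearIndependent.pair_iff' hv).mpr fun t ht => ?_
    have h1 : N v = (t - 1) • v := by rw [dev_apply, ← ht, sub_smul, one_smul]
    by_cases ht1 : t - 1 = 0
    · exact hv1 (by rw [h1, ht1, zero_smul]; exact Submodule.zero_mem _)
    · exact hv2 _ ht1 h1
  have hr := rank_add_kdim M
  by_cases hK : kdim M = 0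
  · have hinj : Function.Injective N := LinearMap.ker_eq_bot.mp (Submodule.finrank_eq_zero.mp hK)
    by_cases hq2 : Fintype.card F = 2
    · obtain ⟨v, hvA, hvC, -⟩ := exists_outside A C (⊥ : Submodule F (Fin (m + 1) → F)) (by omega)
        (b := kdim M) (c := 0) hC (by simp) (by
          rw [hA, hK, pow_zero, hq2]
          calc 1 + 1 < 2 ^ 2 := by norm_num
            _ ≤ 2 ^ m := Nat.pow_le_pow_right (by norm_num) hm)
      refine ⟨v, fun h => hvA ((hA' v).mpr h), hvC, hli v hvC fun t ht he => ?_, fun h => absurd hK h⟩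
      have hF : ∀ x : F, x ≠ 0 → x = 1 := fun x hx => by
        have := FiniteField.pow_card_sub_one_eq_one x hx
        rwa [hq2, pow_one] at this
      have hv : v ≠ 0 := fun h => hvA (by rw [h]; exact Submodule.zero_mem _)
      refine mulVec_ne_zero (M := M) (by rw [hdet]; exact one_ne_zero) hv ?_
      have h2 : (1 : F) + 1 = 0 := by
        by_contra h
        have := hF _ h
        exact one_ne_zero (add_eq_left.mp this)
      rw [hF t ht, one_smul] at he
      calc M *ᵥ v = N v + v := by rw [dev_apply]; abel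
        _ = ((1 : F) + 1) • v := by rw [he, add_smul, one_smul]
        _ = 0 := by rw [h2, zero_smul]
    · by_contra hcon
      push Not at hcon
      have heig : ∀ v, c ⬝ᵥ v = 1 → v ∉ C → ∃ t : F, N v = t • v := fun v hv hvC => by
        by_contra h
        push Not at h
        exact (hcon v (by rw [hv]; exact one_ne_zero) hvC (hli v hvC fun t _ => h t)).1 hK
      have hC1 : ∀ p p', c ⬝ᵥ p = 1 → c ⬝ᵥ p' = 1 → p ∈ C → p' ∈ C → p = p' := by
        intro p p' hp hp' hpC hpC'
        have hp0 : p ≠ 0 := fun h => by rw [h, dotProduct_zero] at hp; exact zero_ne_one hp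
        have : (F ∙ p) = C := Submodule.eq_of_le_of_finrank_le
          ((Submodule.span_singleton_le_iff_mem _ _).mpr hpC) (by rw [finrank_span_singleton hp0]; omega)
        obtain ⟨a, rfl⟩ := Submodule.mem_span_singleton.mp (this ▸ hpC' : p' ∈ F ∙ p)
        rw [dotProduct_smul, hp, smul_eq_mul, mul_one] at hp'
        rw [hp', one_smul]
      have hq3 : 3 ≤ Fintype.card F := by
        have := Fintype.one_lt_card (α := F); omega
      have third : ∀ a b : F, ∃ s : F, s ≠ a ∧ s ≠ b := fun a b => by
        by_contra h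
        push Not at h
        have : (Finset.univ : Finset F) ⊆ {a, b} := fun s _ => by
          by_cases hs : s = a
          · simp [hs]
          · simp [h s hs]
        have := Finset.card_le_card this
        have h2 : ({a, b} : Finset F).card ≤ 2 := Finset.card_le_two
        rw [Finset.card_univ] at this
        omega
      -- two eigenvalues on one affine line force the third point into `C`
      have line : ∀ x y (t t' : F), c ⬝ᵥ x = 1 → c ⬝ᵥ y = 1 → N x = t • x → N y = t' • y → t ≠ t' →
          ∀ s : F, s ≠ 0 → s ≠ 1 → x + s • (y - x) ∈ C := by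
        intro x y t t' hx hy hNx hNy htt s hs0 hs1
        by_contra hsC
        set z := x + s • (y - x) with hz
        obtain ⟨τ, hτ⟩ := heig z (by simp [z, dotProduct_add, dotProduct_smul, dotProduct_sub, hx, hy]) hsC
        rw [hz, map_add, map_smul, map_sub, hNx, hNy] at hτ
        have hind : LinearIndependent F ![x, y] := by
          rw [LinearIndependent.pair_iff]
          intro a b hab
          have h1 := congrArg N hab
          rw [map_add, map_smul, map_smul, map_zero, hNx, hNy] at h1
          have h2 : (b * (t' - t)) • y = 0 := by linear_combination (norm := module) h1 - t • hab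
          have hy0 : y ≠ 0 := fun h => by rw [h, dotProduct_zero] at hy; exact zero_ne_one hy
          have hb : b = 0 := by
            rcases mul_eq_zero.mp ((smul_eq_zero.mp h2).resolve_right hy0) with h | h
            · exact h
            · exact absurd (sub_eq_zero.mp h).symm htt
          have hx0 : x ≠ 0 := fun h => by rw [h, dotProduct_zero] at hx; exact zero_ne_one hx
          rw [hb, zero_smul, add_zero] at hab
          exact ⟨(smul_eq_zero.mp hab).resolve_right hx0, hb⟩
        obtain ⟨e1, e2⟩ := LinearIndependent.pair_iff.mp hind ((1 - s) * (t - τ)) (s * (t' - τ)) (by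
          linear_combination (norm := module) hτ)
        have ht1 : t = τ := by
          rcases mul_eq_zero.mp e1 with h | h
          · exact absurd (sub_eq_zero.mp h).symm hs1
          · exact sub_eq_zero.mp h
        have ht2 : t' = τ := by
          rcases mul_eq_zero.mp e2 with h | h
          · exact absurd h hs0
          · exact sub_eq_zero.mp h
        exact htt (ht1.trans ht2.symm)
      obtain ⟨x₀, hx₀1, hx₀⟩ : ∃ x, c ⬝ᵥ x = 1 ∧ x ∉ C := by
        obtain ⟨x, hxA, hxC, -⟩ := exists_outside A C (⊥ : Submodule F (Fin (m + 1) → F)) (by omega)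
          (b := kdim M) (c := 0) hC (by simp) (by
            rw [hA, hK, pow_zero]
            calc 1 + 1 < 3 ^ 2 := by norm_num
              _ ≤ Fintype.card F ^ 2 := Nat.pow_le_pow_left hq3 2
              _ ≤ Fintype.card F ^ m := Nat.pow_le_pow_right (by omega) hm)
        refine ⟨(c ⬝ᵥ x)⁻¹ • x, ?_, fun h => hxC ?_⟩
        · rw [dotProduct_smul, smul_eq_mul, inv_mul_cancel₀ fun h => hxA ((hA' x).mpr h)]
        · have := C.smul_mem (c ⬝ᵥ x) h
          rwa [smul_smul, mul_inv_cancel₀ fun h => hxA ((hA' x).mpr h), one_smul] at this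
      obtain ⟨t₀, ht₀⟩ := heig x₀ hx₀1 hx₀
      have same : ∀ y, c ⬝ᵥ y = 1 → y ∉ C → N y = t₀ • y := by
        intro y hy hyC
        obtain ⟨t₁, ht₁⟩ := heig y hy hyC
        by_contra hne
        have htt : t₀ ≠ t₁ := fun h => hne (h ▸ ht₁)
        obtain ⟨s, hs0, hs1⟩ := third 0 1
        have hp := line x₀ y t₀ t₁ hx₀1 hy ht₀ ht₁ htt s hs0 hs1
        -- a further point of the hyperplane outside `C` and the line
        obtain ⟨u, huA, huL⟩ : ∃ u, c ⬝ᵥ u = 0 ∧ u ∉ F ∙ (y - x₀) := by
          by_contra h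
          push Not at h
          have := Submodule.finrank_mono (show A ≤ F ∙ (y - x₀) from fun u hu => h u ((hA' u).mp hu))
          have h1 := (finrank_span_le_card (R := F) ({y - x₀} : Set (Fin (m + 1) → F)))
          simp at h1
          omega
        set z := x₀ + u with hzdef
        have hz1 : c ⬝ᵥ z = 1 := by rw [hzdef, dotProduct_add, hx₀1, huA, add_zero]
        have hline : ∀ s' : F, z ≠ x₀ + s' • (y - x₀) := fun s' h =>
          huL (Submodule.mem_span_singleton.mpr ⟨s', (add_left_cancel h).symm⟩)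
        have hp1 : c ⬝ᵥ (x₀ + s • (y - x₀)) = 1 := by
          simp [dotProduct_add, dotProduct_smul, dotProduct_sub, hx₀1, hy]
        have hzC : z ∉ C := fun h => hline s (hC1 _ _ hz1 hp1 h hp)
        obtain ⟨t₂, ht₂⟩ := heig z hz1 hzC
        have hmix : ∀ x w t t', c ⬝ᵥ x = 1 → c ⬝ᵥ w = 1 → N x = t • x → N w = t' • w → t ≠ t' →
            x + s • (w - x) = x₀ + s • (y - x₀) := fun x w t t' hx hw hNx hNw hne' =>
          hC1 _ _ (by simp [dotProduct_add, dotProduct_smul, dotProduct_sub, hx, hw]) hp1
            (line x w t t' hx hw hNx hNw hne' s hs0 hs1) hp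
        by_cases h20 : t₂ = t₀
        · have h := hmix z y t₂ t₁ hz1 hy ht₂ ht₁ (h20 ▸ htt)
          have h' : (1 - s) • (z - x₀) = 0 := by linear_combination (norm := module) h
          exact hline 0 (by
            rw [zero_smul, add_zero]
            exact sub_eq_zero.mp ((smul_eq_zero.mp h').resolve_left (sub_ne_zero.mpr hs1.symm)))
        · have h := hmix x₀ z t₀ t₂ hx₀1 hz1 ht₀ ht₂ (Ne.symm h20)
          have h' : s • (z - y) = 0 := by linear_combination (norm := module) h
          exact hline 1 (by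
            rw [one_smul, add_sub_cancel]
            exact sub_eq_zero.mp ((smul_eq_zero.mp h').resolve_left hs0))
      have onA1 : ∀ y, c ⬝ᵥ y = 1 → N y = t₀ • y := by
        intro y hy
        by_cases hyC : y ∈ C
        · obtain ⟨s, hs0, hs1⟩ := third 0 1
          set z := x₀ + s • (y - x₀) with hz
          have hz1 : c ⬝ᵥ z = 1 := by simp [z, dotProduct_add, dotProduct_smul, dotProduct_sub, hx₀1, hy]
          have hzC : z ∉ C := fun h => by
            have e := hC1 _ _ hz1 hy h hyC
            have h' : (1 - s) • (y - x₀) = 0 := by rw [hz] at e; linear_combination (norm := module) -(1 : F) • e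
            have e' := (smul_eq_zero.mp h').resolve_left (sub_ne_zero.mpr hs1.symm)
            exact hx₀ (sub_eq_zero.mp e' ▸ hyC)
          have e := same z hz1 hzC
          rw [hz, map_add, map_smul, map_sub, ht₀] at e
          have e' : s • (N y - t₀ • y) = 0 := by linear_combination (norm := module) e
          exact sub_eq_zero.mp ((smul_eq_zero.mp e').resolve_left hs0)
        · exact same y hy hyC
      refine hns (1 + t₀) (Matrix.ext_of_mulVec_single fun i => ?_)
      set u := (Pi.single i (1 : F) : Fin (m + 1) → F)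
      have h1 := onA1 (u - (c ⬝ᵥ u - 1) • x₀) (by
        rw [dotProduct_sub, dotProduct_smul, hx₀1, smul_eq_mul, mul_one, sub_sub_cancel])
      rw [map_sub, map_smul, ht₀] at h1
      have h2 : N u = t₀ • u := by linear_combination (norm := module) h1
      rw [dev_apply] at h2
      rw [Matrix.smul_mulVec, Matrix.one_mulVec, add_smul, one_smul, ← h2, add_sub_cancel]
  · obtain ⟨v, hvA, hvR, hvC⟩ := exists_outside A (LinearMap.range N) C (by omega)
      (b := finrank F (LinearMap.range N) - 1) (c := kdim M) (by omega) hC (by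
        rw [hA]
        set r := finrank F (LinearMap.range N) with hrdef
        have hq1 := Fintype.one_lt_card (α := F)
        set q := Fintype.card F
        have hm1 : q ^ m = q * q ^ (m - 1) := by rw [← pow_succ', Nat.sub_add_cancel (by omega)]
        by_cases hq2 : q = 2
        · have h1 : q ^ (r - 1) ≤ q ^ (m - 1) := Nat.pow_le_pow_right (by omega) (by omega)
          have h2 : q ^ kdim M < q ^ (m - 1) := Nat.pow_lt_pow_right (by omega) (by have := hq hq2; omega)
          rw [hm1, hq2] at *
          omega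
        · have h1 : q ^ (r - 1) ≤ q ^ (m - 1) := Nat.pow_le_pow_right (by omega) (by omega)
          have h2 : q ^ kdim M ≤ q ^ (m - 1) := Nat.pow_le_pow_right (by omega) (by omega)
          have h3 : 0 < q ^ (m - 1) := by positivity
          have h4 : 3 * q ^ (m - 1) ≤ q * q ^ (m - 1) := Nat.mul_le_mul_right _ (by omega)
          rw [hm1]
          omega)
    refine ⟨v, fun h => hvA ((hA' v).mpr h), hvC, hli v hvC fun t ht he => hvR ?_, fun _ => hvR⟩
    exact ⟨t⁻¹ • v, by rw [map_smul, he, smul_smul, inv_mul_cancel₀ ht, one_smul]⟩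

/-- One step: the functional is chosen outside the bad sets. -/
theorem step_pick {M : Matrix (Fin (m + 1)) (Fin (m + 1)) F} (hdet : M.det = 1) (hm : 2 ≤ m)
    (hk : kdim M + 2 ≤ m + 1) (hns : ∀ z : F, M ≠ z • 1)
    (hq : Fintype.card F = 2 → kdim M + 3 ≤ m + 1) {c d : Fin (m + 1) → F} (hc : c ≠ 0) (hd : d ≠ 0)
    (useR useK useS : Prop) [Decidable useR] [Decidable useK] [Decidable useS] (hKR : useK → 1 ≤ kdim M)
    (hcount : Fintype.card F ^ (m - 2) + (if useR then Fintype.card F ^ (kdim M - 1) else 0) +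
      (if useK then Fintype.card F ^ (m - kdim M) else 0) + (if useS then 1 else 0) < Fintype.card F ^ (m - 1))
    (next : ∀ (M' : Matrix (Fin m) (Fin m) F) (γ δ : Fin m → F), M'.det = 1 → δ ≠ 0 → (useR → γ ≠ 0) →
      (useS → ∀ z : F, M' ≠ z • 1) → (kdim M = 0 → kdim M' ≤ 1) → (kdim M ≠ 0 → kdim M' ≤ kdim M) →
      (useK → kdim M' + 1 ≤ kdim M) → Fact M' γ δ) : Fact M c d := by
  classical
  obtain ⟨v, hcv, hvd, hvli, hvr⟩ := exists_first hdet hm hk hns hq hc hd
  set N := dev M with hN
  set w := N v with hw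
  have hw0 : w ≠ 0 := fun h => hvd (by rw [h]; exact Submodule.zero_mem _)
  have hdimV : finrank F (Fin (m + 1) → F) = m + 1 := Module.finrank_fin_fun F
  have hvw : v ∉ F ∙ w := fun h => by
    obtain ⟨a, ha⟩ := Submodule.mem_span_singleton.mp h
    have h1 := (LinearIndependent.pair_iff.mp hvli) (1 + a) (-a) (by
      rw [show M *ᵥ v = v + w by rw [hw, hN, dev_apply]; abel]
      linear_combination (norm := module) -(1 : F) • ha)
    have ha0 : a ≠ 0 := fun e => by
      rw [e, zero_smul] at ha
      exact hw0 (by rw [hw, ← ha, map_zero])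
    exact ha0 (neg_eq_zero.mp h1.2)
  haveI : Finite ((Fin (m + 1) → F) →ₗ[F] F) := Finite.of_injective (fun f => (f : (Fin (m + 1) → F) → F)) DFunLike.coe_injective
  set Adm := admissible v (F ∙ w) with hAdm
  let B1 : Set ((Fin (m + 1) → F) →ₗ[F] F) := {φ | φ ∈ Adm ∧ φ d = 0}
  let B2 : Set ((Fin (m + 1) → F) →ₗ[F] F) := {φ | useR ∧ φ ∈ Adm ∧ ∀ x, φ (N x) = 0}
  let B3 : Set ((Fin (m + 1) → F) →ₗ[F] F) := {φ | useK ∧ φ ∈ Adm ∧ ∀ x, N x = 0 → φ x = 0}
  let B4 : Set ((Fin (m + 1) → F) →ₗ[F] F) :=
    {φ | useS ∧ φ ∈ Adm ∧ ∃ β : F, β ≠ 0 ∧ ∀ h, φ h = 0 → M *ᵥ h - β • h ∈ F ∙ (M *ᵥ v)}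
  have hq1 := Fintype.one_lt_card (α := F)
  have hrk := rank_add_kdim M
  have e1 : B1.ncard ≤ Fintype.card F ^ (m - 2) := by
    by_cases h : v ∈ (F ∙ w) ⊔ (F ∙ d)
    · rw [Set.eq_empty_of_forall_notMem (s := B1) fun φ ⟨⟨hφv, hφw⟩, hφd⟩ => by
        obtain ⟨a, ha, b, hb, hab⟩ := Submodule.mem_sup.mp h
        obtain ⟨s, rfl⟩ := Submodule.mem_span_singleton.mp hb
        rw [← hab, map_add, map_smul, hφd, hφw a ha] at hφv
        simp at hφv]
      simp
    · refine le_trans (Set.ncard_le_ncard (t := admissible v ((F ∙ w) ⊔ (F ∙ d)))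
        fun φ ⟨⟨hφv, hφw⟩, hφd⟩ => ⟨hφv, fun y hy => ?_⟩) ((ncard_admissible_le _ _).trans
          (Nat.pow_le_pow_right (by omega) ?_))
      · obtain ⟨a, ha, b, hb, rfl⟩ := Submodule.mem_sup.mp hy
        obtain ⟨s, rfl⟩ := Submodule.mem_span_singleton.mp hb
        rw [map_add, map_smul, hφd, hφw a ha, smul_zero, add_zero]
      · have hwd : LinearIndependent F ![w, d] := (LinearIndependent.pair_iff' hw0).mpr fun a ha => by
          have ha0 : a ≠ 0 := fun e => hd (by rw [← ha, e, zero_smul])
          exact hvd (Submodule.mem_span_singleton.mpr ⟨a⁻¹, by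
            rw [← ha, smul_smul, inv_mul_cancel₀ ha0, one_smul]⟩)
        have hsup : (F ∙ w) ⊔ (F ∙ d) = Submodule.span F (Set.range ![w, d]) := by
          rw [Matrix.range_cons_cons_empty, Submodule.span_insert]
        have h2 : finrank F ↥((F ∙ w) ⊔ (F ∙ d)) = 2 := by
          rw [hsup, finrank_span_eq_card hwd, Fintype.card_fin]
        have hlt : (F ∙ w) ⊔ (F ∙ d) < F ∙ v ⊔ ((F ∙ w) ⊔ (F ∙ d)) := lt_of_le_of_ne le_sup_right fun e =>
          h (e ▸ Submodule.mem_sup_left (Submodule.mem_span_singleton_self v))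
        have := Submodule.finrank_lt_finrank_of_lt hlt
        omega
  have e2 : B2.ncard ≤ if useR then Fintype.card F ^ (kdim M - 1) else 0 := by
    split_ifs with hu
    · refine le_trans (Set.ncard_le_ncard (t := admissible v (LinearMap.range N))
        fun φ ⟨_, ⟨hφv, _⟩, hφN⟩ => ⟨hφv, by rintro _ ⟨x, rfl⟩; exact hφN x⟩) ((ncard_admissible_le _ _).trans
          (Nat.pow_le_pow_right (by omega) ?_))
      by_cases hk0 : kdim M = 0
      · have := Submodule.finrank_mono (le_sup_right (a := F ∙ v) (b := LinearMap.range N))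
        rw [← hN] at hrk
        omega
      · have hlt : LinearMap.range N < F ∙ v ⊔ LinearMap.range N := lt_of_le_of_ne le_sup_right fun e =>
          hvr hk0 (e ▸ Submodule.mem_sup_left (Submodule.mem_span_singleton_self v))
        have := Submodule.finrank_lt_finrank_of_lt hlt
        rw [← hN] at hrk
        omega
    · rw [Set.eq_empty_of_forall_notMem (s := B2) fun φ h => hu h.1]; simp
  have e3 : B3.ncard ≤ if useK then Fintype.card F ^ (m - kdim M) else 0 := by
    split_ifs with hu
    · refine le_trans (Set.ncard_le_ncard (t := admissible v (LinearMap.ker N))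
        fun φ ⟨_, ⟨hφv, _⟩, hφN⟩ => ⟨hφv, fun x hx => hφN x (LinearMap.mem_ker.mp hx)⟩)
          ((ncard_admissible_le _ _).trans (Nat.pow_le_pow_right (by omega) ?_))
      have hlt : LinearMap.ker N < F ∙ v ⊔ LinearMap.ker N := lt_of_le_of_ne le_sup_right fun e =>
        hw0 (LinearMap.mem_ker.mp (e ▸ Submodule.mem_sup_left (Submodule.mem_span_singleton_self v)))
      have := Submodule.finrank_lt_finrank_of_lt hlt
      rw [show finrank F (LinearMap.ker N) = kdim M from rfl] at this
      omega
    · rw [Set.eq_empty_of_forall_notMem (s := B3) fun φ h => hu h.1]; simp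
  have e4 : B4.ncard ≤ if useS then 1 else 0 := by
    split_ifs with hu
    · refine (Set.ncard_le_one_iff).mpr fun {φ φ'} hφ hφ' => ?_
      obtain ⟨-, ⟨hφv, hφw⟩, β, hβ0, hβ⟩ := hφ
      obtain ⟨-, ⟨hφv', hφw'⟩, β', hβ0', hβ'⟩ := hφ'
      have hMv : M *ᵥ v = v + w := by rw [hw, hN, dev_apply]; abel
      have hwMv : w ∉ F ∙ (M *ᵥ v) := fun h => by
        obtain ⟨a, ha⟩ := Submodule.mem_span_singleton.mp h
        obtain ⟨e1, e2⟩ := LinearIndependent.pair_iff.mp hvli 1 (a - 1) (by
          rw [hMv] at ha ⊢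
          linear_combination (norm := module) ha)
        exact one_ne_zero e1
      have hvMv : v ∉ F ∙ (M *ᵥ v) := fun h => by
        obtain ⟨a, ha⟩ := Submodule.mem_span_singleton.mp h
        exact one_ne_zero (LinearIndependent.pair_iff.mp hvli 1 (-a) (by
          linear_combination (norm := module) -(1 : F) • ha)).1
      have hww := Submodule.mem_span_singleton_self (R := F) w
      have hbb : β = β' := by
        by_contra hne
        have h1 := Submodule.sub_mem _ (hβ w (hφw w hww)) (hβ' w (hφw' w hww))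
        rw [show M *ᵥ w - β • w - (M *ᵥ w - β' • w) = (β' - β) • w by module] at h1
        exact hwMv ((Submodule.smul_mem_iff _ (sub_ne_zero.mpr (Ne.symm hne))).mp h1)
      subst hbb
      refine LinearMap.ext fun x => ?_
      by_contra hne
      have hx : φ (x - φ x • v) = 0 := by rw [map_sub, map_smul, hφv, smul_eq_mul, mul_one, sub_self]
      have hx' : φ' (x - φ' x • v) = 0 := by rw [map_sub, map_smul, hφv', smul_eq_mul, mul_one, sub_self]
      have h1 := Submodule.sub_mem _ (hβ _ hx) (hβ' _ hx')
      simp only [Matrix.mulVec_sub, Matrix.mulVec_smul] at h1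
      have h2 : (φ' x - φ x) • (M *ᵥ v - β • v) ∈ F ∙ (M *ᵥ v) := by
        convert h1 using 1
        module
      rw [Submodule.smul_mem_iff _ (sub_ne_zero.mpr (Ne.symm hne))] at h2
      have h3 := Submodule.sub_mem _ (Submodule.mem_span_singleton_self (M *ᵥ v)) h2
      rw [sub_sub_cancel, Submodule.smul_mem_iff _ hβ0] at h3
      exact hvMv h3
    · rw [Set.eq_empty_of_forall_notMem (s := B4) fun φ h => hu h.1]; simp
  have hbad : (B1 ∪ B2 ∪ B3 ∪ B4).ncard < Adm.ncard := by
    have h1 := Set.ncard_union_le (B1 ∪ B2 ∪ B3) B4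
    have h2 := Set.ncard_union_le (B1 ∪ B2) B3
    have h3 := Set.ncard_union_le B1 B2
    have h4 := le_ncard_admissible v (F ∙ w) hvw
    rw [← hAdm, hdimV] at h4
    have h5 : finrank F ↥(F ∙ v ⊔ F ∙ w) ≤ 2 := by
      have := Submodule.finrank_add_le_finrank_add_finrank (F ∙ v) (F ∙ w)
      rw [finrank_span_singleton hw0, finrank_span_singleton (fun e => hw0 (by rw [hw, e, map_zero]))] at this
      exact this
    have h6 : Fintype.card F ^ (m - 1) ≤ Fintype.card F ^ (m + 1 - finrank F ↥(F ∙ v ⊔ F ∙ w)) :=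
      Nat.pow_le_pow_right (by omega) (by omega)
    omega
  obtain ⟨φ, hφA, hφB⟩ := Set.exists_mem_notMem_of_ncard_lt_ncard hbad
  simp only [Set.mem_union, not_or] at hφB
  obtain ⟨⟨⟨hb1, hb2⟩, hb3⟩, hb4⟩ := hφB
  refine step M hdet hφA.1 (hφA.2 w (Submodule.mem_span_singleton_self w)) hw0 hcv
    (fun h => hb1 ⟨hφA, h⟩) fun M' γ δ hd' hδ hγ hs hk1 hk2 hk0 => next M' γ δ hd' hδ
      (fun hu h => hb2 ⟨hu, hφA, hγ h⟩) (fun hu z hz => hb4 ⟨hu, hφA, z, hs z hz⟩)
      (fun h => hk0 (Submodule.finrank_eq_zero.mp h)) (fun h => hk1 (hvr h)) fun hu => ?_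
  refine hk2 (hvr (by have := hKR hu; omega)) ?_
  by_contra hcon
  push Not at hcon
  exact hb3 ⟨hu, hφA, hcon⟩

/-- The invariant of the recursion. -/
def Inv (q n κ : ℕ) : Prop :=
  κ + 2 ≤ n ∧ (q = 2 → (n = 3 ∧ κ ≤ 1) ∨ (4 ≤ n ∧ (κ ≤ 2 ∨ κ + 4 ≤ n)))

theorem kdim_one {n : ℕ} : kdim (1 : Matrix (Fin n) (Fin n) F) = n := by
  have : dev (1 : Matrix (Fin n) (Fin n) F) = 0 := by simp [dev]
  rw [kdim, this, LinearMap.ker_zero, finrank_top, Module.finrank_fin_fun]

theorem scalar_two (hq : Fintype.card F = 2) {n : ℕ} {M : Matrix (Fin n) (Fin n) F} (hdet : M.det = 1) (z : F)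
    (hz : M = z • 1) : kdim M = n := by
  rcases Nat.eq_zero_or_pos n with rfl | hn
  · have := rank_add_kdim M; omega
  haveI : Nonempty (Fin n) := ⟨⟨0, hn⟩⟩
  have hz0 : z ≠ 0 := fun h => by
    rw [hz, h, zero_smul, Matrix.det_zero] at hdet; exact zero_ne_one hdet
  have : z = 1 := by
    have := FiniteField.pow_card_sub_one_eq_one z hz0
    rwa [hq, pow_one] at this
  rw [hz, this, one_smul, kdim_one]

/-- Nonscalar matrices factor. -/
theorem fact_big : ∀ (n : ℕ), 3 ≤ n → ∀ M : Matrix (Fin n) (Fin n) F, M.det = 1 → (∀ z : F, M ≠ z • 1) →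
    Inv (Fintype.card F) n (kdim M) → ∀ c d : Fin n → F, c ≠ 0 → d ≠ 0 → Fact M c d := by
  classical
  intro n
  induction n with
  | zero => intro h; omega
  | succ m ih =>
    intro hn M hdet hns hinv c d hc hd
    obtain ⟨hk, hinv2⟩ := hinv
    have hq1 := Fintype.one_lt_card (α := F)
    set q := Fintype.card F with hqdef
    by_cases h3 : m = 2
    · subst h3
      rcases (show q = 2 ∨ q = 3 ∨ 4 ≤ q by omega) with h | h | h
      · haveI : CharP F 2 := charP_of_card_eq_prime h
        have hb : Function.Bijective (ZMod.castHom (dvd_refl 2) F) :=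
          (Fintype.bijective_iff_injective_and_card _).mpr ⟨ZMod.castHom_injective F, by rw [ZMod.card]; exact h.symm⟩
        exact fact_two_three _ hb hdet hns (by omega) c d
      · haveI : _root_.Fact (Nat.Prime 3) := ⟨by norm_num⟩
        haveI : CharP F 3 := charP_of_card_eq_prime h
        have hb : Function.Bijective (ZMod.castHom (dvd_refl 3) F) :=
          (Fintype.bijective_iff_injective_and_card _).mpr ⟨ZMod.castHom_injective F, by rw [ZMod.card]; exact h.symm⟩
        exact fact_three_three _ hb hdet hns (by omega) c d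
      · obtain ⟨b, hb, hb2⟩ : ∃ b : F, b ≠ 0 ∧ b * b ≠ 1 := by
          by_contra hcon
          push Not at hcon
          have hsub : (Finset.univ : Finset F) ⊆ {0, 1, -1} := fun x _ => by
            by_cases hx : x = 0
            · simp [hx]
            · rcases mul_self_eq_one_iff.mp (hcon x hx) with e | e <;> simp [e]
          have h1 := Finset.card_le_card hsub
          have h2 : ({0, 1, -1} : Finset F).card ≤ 3 := Finset.card_le_three
          rw [Finset.card_univ] at h1
          omega
        exact step_pick hdet le_rfl hk hns (fun e => by omega) hc hd False False True (fun h => h.elim)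
          (by rw [if_neg id, if_neg id, if_pos trivial]; simp; omega)
          fun M' γ δ hd' _ _ hs _ _ _ => fact_two hb hb2 hd' (hs trivial) γ δ
    have hm3 : 3 ≤ m := by omega
    by_cases hq2 : q = 2
    · have hinv' := hinv2 hq2
      by_cases h44 : m = 3 ∧ kdim M = 2
      · obtain ⟨rfl, h2⟩ := h44
        haveI : CharP F 2 := charP_of_card_eq_prime hq2
        have hb : Function.Bijective (ZMod.castHom (dvd_refl 2) F) :=
          (Fintype.bijective_iff_injective_and_card _).mpr ⟨ZMod.castHom_injective F, by rw [ZMod.card]; exact hq2.symm⟩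
        exact fact_two_four _ hb hdet h2 c d
      refine step_pick hdet (by omega) hk hns (fun _ => by omega) hc hd (4 ≤ m) (kdim M + 4 = m + 1 ∧ 3 ≤ kdim M)
        False (fun h => by omega) ?_ fun M' γ δ hd' hδ hγ _ hk0 hk1 hk2 => ?_
      · rw [← hqdef, hq2, if_neg id]
        obtain ⟨j, rfl⟩ : ∃ j, m = j + 3 := ⟨m - 3, by omega⟩
        simp only [show j + 3 - 2 = j + 1 by omega, show j + 3 - 1 = j + 2 by omega, pow_succ, add_zero]
        split_ifs with h1 h2 h2
        · obtain ⟨i, rfl⟩ : ∃ i, j = i + 3 := ⟨j - 3, by omega⟩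
          have e1 : (2 : ℕ) ^ (kdim M - 1) = 2 ^ (i + 2) := by congr 1; omega
          have e2 : (2 : ℕ) ^ (i + 3 + 3 - kdim M) = 2 ^ 3 := by congr 1; omega
          have e3 : (2 : ℕ) ^ i ≥ 1 := Nat.one_le_two_pow
          rw [e1, e2, pow_add, pow_add]
          norm_num
          omega
        · have : (2 : ℕ) ^ (kdim M - 1) ≤ 2 ^ j := Nat.pow_le_pow_right (by norm_num) (by omega)
          have e3 : (2 : ℕ) ^ j ≥ 1 := Nat.one_le_two_pow
          omega
        · omega
        · have e3 : (2 : ℕ) ^ j ≥ 1 := Nat.one_le_two_pow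
          omega
      · have hκ : kdim M' + 2 ≤ m ∧ ((m = 3 ∧ kdim M' ≤ 1) ∨ (4 ≤ m ∧ (kdim M' ≤ 2 ∨ kdim M' + 4 ≤ m))) := by
          by_cases hk00 : kdim M = 0
          · have := hk0 hk00; omega
          have := hk1 hk00
          by_cases hu : kdim M + 4 = m + 1 ∧ 3 ≤ kdim M
          · have := hk2 hu; omega
          · omega
        have hns' : ∀ z : F, M' ≠ z • 1 := fun z hz => by
          have := scalar_two (by rw [← hqdef, hq2]) hd' z hz
          omega
        by_cases hm4 : 4 ≤ m
        · exact ih (by omega) M' hd' hns' ⟨hκ.1, fun _ => hκ.2⟩ γ δ (hγ hm4) hδ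
        · obtain rfl : m = 3 := by omega
          haveI : CharP F 2 := charP_of_card_eq_prime hq2
          have hb : Function.Bijective (ZMod.castHom (dvd_refl 2) F) :=
            (Fintype.bijective_iff_injective_and_card _).mpr ⟨ZMod.castHom_injective F, by rw [ZMod.card]; exact hq2.symm⟩
          exact fact_two_three _ hb hd' hns' (by omega) γ δ
    · refine step_pick hdet (by omega) hk hns (fun h => absurd h hq2) hc hd (4 ≤ m ∨ q ≠ 3) (kdim M + 2 = m + 1)
        True (fun h => by omega) ?_ fun M' γ δ hd' hδ hγ hs hk0 hk1 hk2 => ?_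
      · rw [← hqdef]
        obtain ⟨j, rfl⟩ : ∃ j, m = j + 3 := ⟨m - 3, by omega⟩
        rw [show j + 3 - 2 = j + 1 by omega, show j + 3 - 1 = j + 2 by omega]
        have e1 : q ^ (kdim M - 1) ≤ q ^ (j + 1) := Nat.pow_le_pow_right (by omega) (by omega)
        have e2 : (if kdim M + 2 = j + 3 + 1 then q ^ (j + 3 - kdim M) else 0) ≤ q := by
          split_ifs with h
          · rw [show j + 3 - kdim M = 1 by omega, pow_one]
          · omega
        rw [show q ^ (j + 2) = q * q ^ (j + 1) from pow_succ' q (j + 1), if_pos trivial]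
        by_cases hR : 4 ≤ j + 3 ∨ q ≠ 3
        · rw [if_pos hR]
          rcases hR with hj | hq3
          · have e3 : q ^ 2 ≤ q ^ (j + 1) := Nat.pow_le_pow_right (by omega) (by omega)
            have e5 : q * 3 ≤ q ^ 2 := by rw [sq]; exact Nat.mul_le_mul_left q (by omega)
            have e6 : 3 * q ^ (j + 1) ≤ q * q ^ (j + 1) := Nat.mul_le_mul_right _ (by omega)
            omega
          · have e3 : q ^ 1 ≤ q ^ (j + 1) := Nat.pow_le_pow_right (by omega) (by omega)
            rw [pow_one] at e3
            have e6 : 4 * q ^ (j + 1) ≤ q * q ^ (j + 1) := Nat.mul_le_mul_right _ (by omega)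
            omega
        · rw [if_neg hR]
          push Not at hR
          obtain rfl : j = 0 := by omega
          obtain ⟨-, hq3⟩ := hR
          rw [hq3] at e2 ⊢
          omega
      · have hκ : kdim M' + 2 ≤ m := by
          by_cases hk00 : kdim M = 0
          · have := hk0 hk00; omega
          have := hk1 hk00
          by_cases hu : kdim M + 2 = m + 1
          · have := hk2 hu; omega
          · omega
        by_cases hend : 4 ≤ m ∨ q ≠ 3
        · exact ih (by omega) M' hd' (hs trivial) ⟨hκ, fun h => absurd h hq2⟩ γ δ (hγ hend) hδ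
        · obtain ⟨rfl, h⟩ : m = 3 ∧ q = 3 := by omega
          haveI : _root_.Fact (Nat.Prime 3) := ⟨by norm_num⟩
          haveI : CharP F 3 := charP_of_card_eq_prime (hqdef ▸ h)
          have hb : Function.Bijective (ZMod.castHom (dvd_refl 3) F) :=
            (Fintype.bijective_iff_injective_and_card _).mpr ⟨ZMod.castHom_injective F, by rw [ZMod.card]; exact h.symm⟩
          exact fact_three_three _ hb hd' (hs trivial) (by omega) γ δ

/-- Bordering preserves commutators. -/
theorem IsComm.border {M : Matrix (Fin m) (Fin m) F} (h : IsComm M) : IsComm (blk 1 0 0 M) := by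
  obtain ⟨a, b, rfl⟩ := h
  have hmul : ∀ x y : Matrix (Fin m) (Fin m) F, blk (1 : F) 0 0 x * blk 1 0 0 y = blk 1 0 0 (x * y) := fun x y => by
    rw [blk_mul]
    congr 1 <;> simp
  rw [Matrix.SpecialLinearGroup.coe_mul, Matrix.SpecialLinearGroup.coe_mul, Matrix.SpecialLinearGroup.coe_mul,
    ← hmul, ← hmul, ← hmul]
  refine IsComm.intro (by rw [det_blk_low, one_mul]; exact a.2) (by rw [det_blk_low, one_mul]; exact b.2) ?_ ?_
  · rw [hmul, ← Matrix.SpecialLinearGroup.coe_mul, mul_inv_cancel, Matrix.SpecialLinearGroup.coe_one, blk_one]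
  · rw [hmul, ← Matrix.SpecialLinearGroup.coe_mul, mul_inv_cancel, Matrix.SpecialLinearGroup.coe_one, blk_one]

/-- A transvection of degree three. -/
theorem isComm_transvection {M : Matrix (Fin 3) (Fin 3) F} (hdet : M.det = 1) (hk : kdim M = 2) : IsComm M := by
  classical
  set N := dev M with hN
  have hmv : ∀ x, M *ᵥ x = x + N x := fun x => by rw [hN, dev_apply]; abel
  have hr : finrank F (LinearMap.range N) = 1 := by
    have := rank_add_kdim M
    rw [← hN] at this
    omega
  obtain ⟨⟨u, x, rfl⟩, hu0⟩ := Module.finrank_pos_iff_exists_ne_zero.mp (show 0 < finrank F (LinearMap.range N) by omega)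
  have hu : N x ≠ 0 := fun h => hu0 (Subtype.ext h)
  have hspan : LinearMap.range N = F ∙ N x := (Submodule.eq_of_le_of_finrank_le
    ((Submodule.span_singleton_le_iff_mem (N x) (LinearMap.range N)).mpr (LinearMap.mem_range_self N x)) (by rw [finrank_span_singleton hu]; omega)).symm
  let bk := Module.finBasisOfFinrankEq F (LinearMap.ker N) hk
  have hbk : ∀ i, N (bk i : Fin 3 → F) = 0 := fun i => LinearMap.mem_ker.mp (bk i).2
  have hNN : N (N x) ∈ F ∙ N x := by
    rw [← hspan]; exact ⟨N x, rfl⟩
  obtain ⟨t, ht⟩ := Submodule.mem_span_singleton.mp hNN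
  have mk : ∀ (y : Fin 3 → (Fin 3 → F)) (M₀ : Matrix (Fin 3) (Fin 3) F), LinearIndependent F y →
      (∀ l, M *ᵥ y l = ∑ i, M₀ i l • y i) → Sim M M₀ := by
    intro y M₀ hy hrel
    refine ⟨Matrix.of fun i l => y l i,
      (Matrix.isUnit_iff_isUnit_det _).mp (Matrix.linearIndependent_cols_iff_isUnit.mp hy), ?_⟩
    ext i l
    have := congrFun (hrel l) i
    simp [Matrix.mulVec, dotProduct] at this
    simp [Matrix.mul_apply, this, mul_comm]
  have ht0 : t = 0 := by
    by_contra ht0
    have hs := mk ![N x, bk 0, bk 1] !![1 + t, 0, 0; 0, 1, 0; 0, 0, 1] (by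
      rw [Fintype.linearIndependent_iff]
      intro g hg
      simp [Fin.sum_univ_three] at hg
      have h1 := congrArg N hg
      simp [hbk, ← ht, ht0, hu] at h1
      rw [h1, zero_smul, zero_add] at hg
      obtain ⟨g1, g2⟩ := LinearIndependent.pair_iff.mp
        (show LinearIndependent F ![bk 0, bk 1] by
          convert bk.linearIndependent using 1
          ext i : 1; fin_cases i <;> simp) _ _ (Subtype.ext hg)
      intro i; fin_cases i <;> assumption)
      (fun l => by fin_cases l <;> simp [Fin.sum_univ_three, hmv, hbk, ← ht, add_smul])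
    have := hs.det_eq
    rw [hdet, Matrix.det_fin_three] at this
    simp at this
    exact ht0 this
  rw [ht0, zero_smul] at ht
  obtain ⟨k, hk1, hk2⟩ : ∃ k, N k = 0 ∧ k ∉ F ∙ N x := by
    by_contra hcon
    push Not at hcon
    have := Submodule.finrank_mono (show LinearMap.ker N ≤ F ∙ N x from fun k hk => hcon k (LinearMap.mem_ker.mp hk))
    rw [finrank_span_singleton hu] at this
    rw [kdim, ← hN] at hk
    omega
  have hs := mk ![N x, k, x] !![1, 0, 1; 0, 1, 0; 0, 0, 1] (by
    rw [Fintype.linearIndependent_iff]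
    intro g hg
    simp [Fin.sum_univ_three] at hg
    have h1 := congrArg N hg
    simp [hk1, ← ht, hu] at h1
    rw [h1, zero_smul, add_zero] at hg
    have g1 : g 1 = 0 := by
      by_contra h
      apply hk2
      refine Submodule.mem_span_singleton.mpr ⟨-((g 1)⁻¹ * g 0), ?_⟩
      have e : g 1 • k = -(g 0 • N x) := eq_neg_of_add_eq_zero_right hg
      rw [neg_smul, mul_smul, ← smul_neg, ← e, smul_smul, inv_mul_cancel₀ h, one_smul]
    rw [g1, zero_smul, add_zero, smul_eq_zero] at hg
    have g0 : g 0 = 0 := hg.resolve_right hu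
    intro i; fin_cases i <;> assumption)
    (fun l => by fin_cases l <;> simp [Fin.sum_univ_three, hmv, hk1, ← ht, add_comm])
  refine IsComm.sim ?_ hs
  have : (!![1, 0, 1; 0, 1, 0; 0, 0, 1] : Matrix (Fin 3) (Fin 3) F) =
      !![1, 1, 0; 0, 1, 0; 0, 0, 1] * !![1, 0, 0; 0, 1, 1; 0, 0, 1] *
        !![1, -1, 0; 0, 1, 0; 0, 0, 1] * !![1, 0, 0; 0, 1, -1; 0, 0, 1] := by
    ext i l; fin_cases i <;> fin_cases l <;> simp [Matrix.mul_apply, Fin.sum_univ_three]
  rw [this]
  refine IsComm.intro (by simp [Matrix.det_fin_three]) (by simp [Matrix.det_fin_three]) ?_ ?_ <;>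
    (ext i l; fin_cases i <;> fin_cases l <;> simp [Matrix.mul_apply, Fin.sum_univ_three])

/-- Degree six over the field with two elements, the fixed space equal to the image of `M - 1`. -/
theorem isComm_six (hq : Fintype.card F = 2) {M : Matrix (Fin 6) (Fin 6) F} (hk : kdim M = 3)
    (hKR : LinearMap.ker (dev M) ≤ LinearMap.range (dev M)) : IsComm M := by
  classical
  haveI : CharP F 2 := charP_of_card_eq_prime hq
  set N := dev M with hN
  have hmv : ∀ x, M *ᵥ x = x + N x := fun x => by rw [hN, dev_apply]; abel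
  have hr : finrank F (LinearMap.range N) = 3 := by
    have := rank_add_kdim M
    rw [← hN] at this
    omega
  have heq : LinearMap.ker N = LinearMap.range N :=
    Submodule.eq_of_le_of_finrank_le hKR (by rw [hr]; exact hk.ge)
  have hsq : ∀ x, N (N x) = 0 := fun x => LinearMap.mem_ker.mp (heq ▸ ⟨x, rfl⟩ : N x ∈ LinearMap.ker N)
  let b := Module.finBasisOfFinrankEq F (LinearMap.range N) hr
  choose x hx using fun i => (b i).2
  let y : Fin 3 ⊕ Fin 3 → (Fin 6 → F) := Sum.elim (fun i => N (x i)) x
  have hbli : LinearIndependent F (fun i => N (x i)) := by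
    have := b.linearIndependent.map' (LinearMap.range N).subtype (LinearMap.range N).ker_subtype
    have e : (fun i => N (x i)) = (LinearMap.range N).subtype ∘ b := funext hx
    rw [e]; exact this
  have hy : LinearIndependent F y := by
    rw [Fintype.linearIndependent_iff]
    intro g hg
    rw [Fintype.sum_sum_type] at hg
    simp only [y, Sum.elim_inl, Sum.elim_inr] at hg
    have h1 := congrArg N hg
    simp only [map_add, map_sum, map_smul, hsq, smul_zero, Finset.sum_const_zero, zero_add, map_zero] at h1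
    have g2 := Fintype.linearIndependent_iff.mp hbli _ h1
    simp only [g2, zero_smul, Finset.sum_const_zero, add_zero] at hg
    have g1 := Fintype.linearIndependent_iff.mp hbli _ hg
    rintro (i | i)
    · exact g1 i
    · exact g2 i
  let e : Fin 3 ⊕ Fin 3 ≃ Fin 6 := finSumFinEquiv
  let A : Matrix (Fin 3) (Fin 3) F := !![0, 0, 1; 1, 0, 1; 0, 1, 0]
  let A' : Matrix (Fin 3) (Fin 3) F := !![1, 1, 0; 0, 0, 1; 1, 0, 0]
  have h2 : (1 : F) + 1 = 0 := CharTwo.add_self_eq_zero 1
  have hm1 : (-1 : F) = 1 := CharTwo.neg_eq 1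
  have hA : A * A' = 1 := by
    ext i l; fin_cases i <;> fin_cases l <;> simp [A, A', Matrix.mul_apply, Fin.sum_univ_three, h2]
  let B : Matrix (Fin 3) (Fin 3) F := !![0, 1, 1; 1, 1, 0; 1, 1, 1]
  have hB : (A - 1) * B = 1 := by
    ext i l; fin_cases i <;> fin_cases l <;>
      simp [A, B, Matrix.mul_apply, Fin.sum_univ_three, h2, hm1, sub_eq_add_neg]
  set a := (Matrix.fromBlocks A 0 0 1).submatrix e.symm e.symm
  set a' := (Matrix.fromBlocks A' 0 0 1).submatrix e.symm e.symm
  set t := (Matrix.fromBlocks 1 B 0 1).submatrix e.symm e.symm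
  set t' := (Matrix.fromBlocks 1 (-B) 0 1).submatrix e.symm e.symm
  have hone : (Matrix.fromBlocks (1 : Matrix (Fin 3) (Fin 3) F) 0 0 1).submatrix e.symm e.symm = 1 := by
    rw [Matrix.fromBlocks_one, Matrix.submatrix_one_equiv]
  have hcomm : IsComm ((Matrix.fromBlocks 1 (1 : Matrix (Fin 3) (Fin 3) F) 0 1).submatrix e.symm e.symm) := by
    have : a * t * a' * t' = (Matrix.fromBlocks 1 (1 : Matrix (Fin 3) (Fin 3) F) 0 1).submatrix e.symm e.symm := by
      simp only [a, a', t, t', Matrix.submatrix_mul_equiv, Matrix.fromBlocks_multiply, Matrix.mul_zero,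
        Matrix.zero_mul, add_zero, zero_add, Matrix.mul_one, Matrix.one_mul, hA]
      rw [show -B + A * B = (A - 1) * B by rw [Matrix.sub_mul, Matrix.one_mul]; abel, hB]
    rw [← this]
    refine IsComm.intro ?_ ?_ ?_ ?_
    · simp only [a, Matrix.det_submatrix_equiv_self, Matrix.det_fromBlocks_zero₂₁, Matrix.det_one, mul_one]
      simp [A, Matrix.det_fin_three]
    · simp [t, Matrix.det_fromBlocks_zero₂₁]
    · simp only [a, a', Matrix.submatrix_mul_equiv, Matrix.fromBlocks_multiply, Matrix.mul_zero, Matrix.zero_mul,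
        add_zero, zero_add, Matrix.mul_one, hA]
      exact hone
    · simp only [t, t', Matrix.submatrix_mul_equiv, Matrix.fromBlocks_multiply, Matrix.mul_zero, Matrix.zero_mul,
        add_zero, zero_add, Matrix.mul_one, Matrix.one_mul, neg_add_cancel]
      exact hone
  refine hcomm.sim ⟨Matrix.of fun i l => y (e.symm l) i, ?_, ?_⟩
  · exact (Matrix.isUnit_iff_isUnit_det _).mp (Matrix.linearIndependent_cols_iff_isUnit.mp
      ((linearIndependent_equiv e.symm).mpr hy))
  · ext i l
    obtain ⟨s, rfl⟩ := e.surjective l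
    have key : (M *ᵥ y s) i = ∑ j, (Matrix.fromBlocks 1 (1 : Matrix (Fin 3) (Fin 3) F) 0 1) j s * y j i := by
      rcases s with s | s <;> simp [y, hmv, hsq, Fintype.sum_sum_type, Matrix.one_apply, add_comm]
    simp only [Matrix.mul_apply, Matrix.of_apply, Matrix.submatrix_apply, Equiv.symm_apply_apply]
    rw [← Equiv.sum_comp e (fun j => y (e.symm j) i * _)]
    simp only [Equiv.symm_apply_apply]
    simp only [Matrix.mulVec, dotProduct] at key
    rw [key]
    exact Finset.sum_congr rfl fun j _ => mul_comm _ _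

/-- Every matrix of determinant one is a commutator of such matrices. -/
theorem isComm_all : ∀ (n : ℕ), (n = 2 → 4 ≤ Fintype.card F) → ∀ M : Matrix (Fin n) (Fin n) F, M.det = 1 →
    IsComm M := by
  classical
  intro n
  induction n with
  | zero =>
    intro _ M _
    rw [Subsingleton.elim M ((1 : Matrix (Fin 0) (Fin 0) F) * 1 * 1 * 1)]
    exact IsComm.intro Matrix.det_one Matrix.det_one (Matrix.one_mul _) (Matrix.one_mul _)
  | succ m ih =>
    intro hex M hdet
    have hq1 := Fintype.one_lt_card (α := F)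
    by_cases hsc : ∃ z : F, M = z • 1
    · obtain ⟨z, rfl⟩ := hsc
      refine isComm_scalar ?_
      rwa [Matrix.det_smul, Matrix.det_one, mul_one, Fintype.card_fin] at hdet
    push Not at hsc
    rcases (show m = 0 ∨ m = 1 ∨ 2 ≤ m by omega) with rfl | rfl | hm
    · exfalso
      refine hsc (M 0 0) ?_
      ext i l; fin_cases i; fin_cases l; simp
    · obtain ⟨b, hb, hb2⟩ : ∃ b : F, b ≠ 0 ∧ b * b ≠ 1 := by
        by_contra hcon
        push Not at hcon
        have hsub : (Finset.univ : Finset F) ⊆ {0, 1, -1} := fun x _ => by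
          by_cases hx : x = 0
          · simp [hx]
          · rcases mul_self_eq_one_iff.mp (hcon x hx) with e | e <;> simp [e]
        have h1 := Finset.card_le_card hsub
        have h2 : ({0, 1, -1} : Finset F).card ≤ 3 := Finset.card_le_three
        have := hex rfl
        rw [Finset.card_univ] at h1
        omega
      exact (fact_two hb hb2 hdet hsc 0 0).isComm
    by_cases hred : ¬ LinearMap.ker (dev M) ≤ LinearMap.range (dev M) ∧ (3 ≤ m ∨ 4 ≤ Fintype.card F)
    · obtain ⟨hKR, hm'⟩ := hred
      obtain ⟨v, hvK, hvR⟩ := SetLike.not_le_iff_exists.mp hKR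
      obtain ⟨φ, hφv, hφR⟩ := exists_admissible v (LinearMap.range (dev M)) hvR
      obtain ⟨P, γ, δ, M', ι, hP, hMP, -, -, hd', hinj, -, -, hδ, hγ, -⟩ :=
        split M hφv (hφR _ ⟨v, rfl⟩)
      have hδ0 : δ = 0 := hinj (by rw [hδ, LinearMap.mem_ker.mp hvK, map_zero])
      have hγ0 : γ = 0 := funext fun i => by
        have := hγ (Pi.single i 1)
        rwa [dotProduct_single_one, hφR _ ⟨_, rfl⟩] at this
      rw [hδ0, hγ0, show vecMulVec (0 : Fin m → F) 0 + M' = M' by ext; simp [Matrix.vecMulVec_apply]] at hMP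
      exact ((ih (fun h => by omega) M' (by rw [hd', hdet])).border).sim ⟨P, hP, hMP⟩
    have hrk := rank_add_kdim M
    by_cases h32 : m = 2 ∧ kdim M = 2
    · obtain ⟨rfl, h⟩ := h32
      exact isComm_transvection hdet h
    have hκ : (m = 2 ∧ kdim M ≤ 1) ∨ (LinearMap.ker (dev M) ≤ LinearMap.range (dev M)) := by
      by_cases hKR : LinearMap.ker (dev M) ≤ LinearMap.range (dev M)
      · exact Or.inr hKR
      · left
        have hm2 : m = 2 ∧ ¬ 4 ≤ Fintype.card F := by
          simp only [hKR, not_false_eq_true, true_and] at hred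
          omega
        refine ⟨hm2.1, ?_⟩
        obtain rfl := hm2.1
        by_contra h
        have hne : kdim M = 3 := by
          have : kdim M ≠ 2 := fun e => h32 ⟨rfl, e⟩
          omega
        apply hsc 1
        have : LinearMap.ker (dev M) = ⊤ := Submodule.eq_top_of_finrank_eq (by
          rw [Module.finrank_fin_fun]; exact hne)
        refine Matrix.ext_of_mulVec_single fun i => ?_
        have h1 : Pi.single i (1 : F) ∈ LinearMap.ker (dev M) := this ▸ Submodule.mem_top
        rw [LinearMap.mem_ker, dev_apply, sub_eq_zero] at h1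
        rw [h1, one_smul, Matrix.one_mulVec]
    have hle : LinearMap.ker (dev M) ≤ LinearMap.range (dev M) → 2 * kdim M ≤ m + 1 := fun h => by
      have h1 := Submodule.finrank_mono h
      rw [show finrank F (LinearMap.ker (dev M)) = kdim M from rfl] at h1
      omega
    by_cases h63 : Fintype.card F = 2 ∧ m = 5 ∧ kdim M = 3
    · obtain ⟨h2, rfl, h3⟩ := h63
      exact isComm_six h2 h3 (hκ.resolve_left fun e => by omega)
    have hinv : Inv (Fintype.card F) (m + 1) (kdim M) := by
      rcases hκ with h | h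
      · exact ⟨by omega, fun _ => by omega⟩
      · have := hle h
        exact ⟨by omega, fun _ => by omega⟩
    exact (fact_big (m + 1) (by omega) M hdet hsc hinv (Pi.single 0 1) (Pi.single 0 1)
      (by simp) (by simp)).isComm

end Cfsg.Lib.Classical.SLComm
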