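import Cfsg.Agent.Classical.Linear.CommShape

/-! One step of the factorisation of a matrix: the choice of the first basis vector and of the functional. -/

set_option autoImplicit false
set_option linter.unusedSectionVars false
set_option linter.unusedSimpArgs false

namespace Cfsg.Lib.Classical.SLComm

open Matrix Module

universe u v

variable {F : Type u} [Field F]

/-- The map `M - 1`. -/
noncomputable def dev {n : ℕ} (M : Matrix (Fin n) (Fin n) F) : (Fin n → F) →ₗ[F] (Fin n → F) :=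
  Matrix.toLin' (M - 1)

theorem dev_apply {n : ℕ} (M : Matrix (Fin n) (Fin n) F) (x : Fin n → F) : dev M x = M *ᵥ x - x := by
  rw [dev, Matrix.toLin'_apply, Matrix.sub_mulVec, Matrix.one_mulVec]

/-- The dimension of the fixed space. -/
noncomputable def kdim {n : ℕ} (M : Matrix (Fin n) (Fin n) F) : ℕ := finrank F (LinearMap.ker (dev M))

theorem rank_add_kdim {n : ℕ} (M : Matrix (Fin n) (Fin n) F) :
    finrank F (LinearMap.range (dev M)) + kdim M = n := by
  have := LinearMap.finrank_range_add_finrank_ker (dev M)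
  simpa [kdim] using this

theorem mulVec_ne_zero {n : ℕ} {M : Matrix (Fin n) (Fin n) F} (hM : M.det ≠ 0) {x : Fin n → F} (hx : x ≠ 0) :
    M *ᵥ x ≠ 0 := fun h => by
  have := congrArg (M⁻¹ *ᵥ ·) h
  simp only [Matrix.mulVec_mulVec, Matrix.nonsing_inv_mul _ (Ne.isUnit hM), Matrix.one_mulVec,
    Matrix.mulVec_zero] at this
  exact hx this

variable {m : ℕ}

/-- The matrix in a basis consisting of `v` and of vectors killed by `φ`. -/
theorem split (M : Matrix (Fin (m + 1)) (Fin (m + 1)) F) {v : Fin (m + 1) → F}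
    {φ : (Fin (m + 1) → F) →ₗ[F] F} (hv : φ v = 1) (hw : φ (dev M v) = 0) :
    ∃ (P : Matrix (Fin (m + 1)) (Fin (m + 1)) F) (γ δ : Fin m → F) (M' : Matrix (Fin m) (Fin m) F)
      (ι : (Fin m → F) →ₗ[F] (Fin (m + 1) → F)),
      IsUnit P.det ∧ M * P = P * blk 1 γ δ (vecMulVec δ γ + M') ∧
      (∀ c, (c ᵥ* P) 0 = c ⬝ᵥ v) ∧ (∀ d, (P⁻¹ *ᵥ d) 0 = φ d) ∧ M'.det = M.det ∧
      Function.Injective ι ∧ (∀ y, φ (ι y) = 0) ∧ (∀ h, φ h = 0 → ∃ y, ι y = h) ∧ ι δ = dev M v ∧
      (∀ y, γ ⬝ᵥ y = φ (dev M (ι y))) ∧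
      (∀ y, ι (M' *ᵥ y - y) = dev M (ι y) - φ (dev M (ι y)) • (v + dev M v)) := by
  classical
  have hφ : Function.Surjective φ := fun a => ⟨a • v, by rw [map_smul, hv, smul_eq_mul, mul_one]⟩
  have hK : finrank F (LinearMap.ker φ) = m := by
    have h := LinearMap.finrank_range_add_finrank_ker φ
    rw [LinearMap.range_eq_top.mpr hφ, finrank_top, Module.finrank_self, Module.finrank_fintype_fun_eq_card,
      Fintype.card_fin] at h
    omega
  let b := Module.finBasisOfFinrankEq F (LinearMap.ker φ) hK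
  let ι : (Fin m → F) →ₗ[F] (Fin (m + 1) → F) := (LinearMap.ker φ).subtype ∘ₗ b.equivFun.symm.toLinearMap
  have hι : ∀ y, ι y = ∑ i, y i • (b i : Fin (m + 1) → F) := fun y => by
    simp [ι, Module.Basis.equivFun_symm_apply]
  have hφι : ∀ y, φ (ι y) = 0 := fun y => LinearMap.mem_ker.mp (b.equivFun.symm y).2
  have hinj : Function.Injective ι := fun y y' h => b.equivFun.symm.injective (Subtype.ext h)
  let P : Matrix (Fin (m + 1)) (Fin (m + 1)) F :=
    Matrix.of fun i l => (Fin.cons v (fun l => (b l : Fin (m + 1) → F)) : Fin (m + 1) → Fin (m + 1) → F) l i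
  have hPc : ∀ x y, P *ᵥ Fin.cons x y = x • v + ι y := fun x y => by
    ext i
    rw [hι]
    simp [P, Matrix.mulVec, dotProduct, Fin.sum_univ_succ, mul_comm]
  have hli : LinearIndependent F (Fin.cons v (fun l => (b l : Fin (m + 1) → F)) : Fin (m + 1) → Fin (m + 1) → F) := by
    have hb : LinearIndependent F (fun l => (b l : Fin (m + 1) → F)) :=
      b.linearIndependent.map' (LinearMap.ker φ).subtype (LinearMap.ker φ).ker_subtype
    refine linearIndependent_finCons.mpr ⟨hb, fun hmem => ?_⟩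
    have : v ∈ LinearMap.ker φ :=
      (Submodule.span_le.mpr (by rintro _ ⟨l, rfl⟩; exact (b l).2)) hmem
    rw [LinearMap.mem_ker, hv] at this
    exact one_ne_zero this
  have hP : IsUnit P.det := (Matrix.isUnit_iff_isUnit_det P).mp (Matrix.linearIndependent_cols_iff_isUnit.mp hli)
  set M₀ := P⁻¹ * M * P with hM₀
  have hMP : M * P = P * M₀ := by
    rw [hM₀, Matrix.mul_assoc P⁻¹, Matrix.mul_nonsing_inv_cancel_left _ _ hP]
  set γ : Fin m → F := fun l => M₀ 0 l.succ with hγ
  set δ : Fin m → F := fun i => M₀ i.succ 0 with hδ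
  set N : Matrix (Fin m) (Fin m) F := Matrix.of fun i l => M₀ i.succ l.succ with hN
  have hM₀b : M₀ = blk (M₀ 0 0) γ δ N := (blk_eta M₀).symm
  have hact : ∀ x y, M *ᵥ (x • v + ι y) =
      (M₀ 0 0 * x + γ ⬝ᵥ y) • v + ι (x • δ + N *ᵥ y) := fun x y => by
    rw [← hPc, Matrix.mulVec_mulVec, hMP, ← Matrix.mulVec_mulVec, hM₀b, blk_mulVec, hPc]
    simp
  have h00 : M₀ 0 0 = 1 ∧ ι δ = dev M v := by
    have h1 := hact 1 0
    simp only [one_smul, map_zero, add_zero, mul_one, dotProduct_zero, Matrix.mulVec_zero] at h1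
    have h2 := congrArg φ h1
    rw [map_add, map_smul, hv, hφι, add_zero, smul_eq_mul, mul_one,
      show M *ᵥ v = v + dev M v by rw [dev_apply]; abel, map_add, hv, hw, add_zero] at h2
    refine ⟨h2.symm, ?_⟩
    rw [dev_apply, h1, ← h2, one_smul]
    abel
  have hγy : ∀ y, γ ⬝ᵥ y = φ (dev M (ι y)) := fun y => by
    have h1 := congrArg φ (hact 0 y)
    simp only [zero_smul, zero_add, mul_zero, map_add, map_smul, hv, hφι, add_zero, smul_eq_mul, mul_one] at h1
    rw [dev_apply, map_sub, hφι, sub_zero, h1]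
  refine ⟨P, γ, δ, N - vecMulVec δ γ, ι, hP, ?_, fun c => ?_, fun d => ?_, ?_, hinj, hφι, fun h hh => ?_, h00.2, hγy,
    fun y => ?_⟩
  · rw [hMP, hM₀b, h00.1]
    congr 1
    rw [add_sub_cancel]
  · simp [Matrix.vecMul, dotProduct, P]
  · have h1 : P *ᵥ (P⁻¹ *ᵥ d) = d := by rw [Matrix.mulVec_mulVec, Matrix.mul_nonsing_inv P hP, Matrix.one_mulVec]
    rw [← Fin.cons_self_tail (P⁻¹ *ᵥ d), hPc] at h1
    have h2 := congrArg φ h1
    rw [map_add, map_smul, hv, hφι, add_zero, smul_eq_mul, mul_one] at h2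
    exact h2
  · have h1 : M₀ = blk 1 0 δ 1 * blk 1 γ 0 (N - vecMulVec δ γ) := by
      rw [blk_mul, hM₀b, h00.1]; simp
    have h2 : M₀.det = (N - vecMulVec δ γ).det := by
      rw [h1, Matrix.det_mul, det_blk_low, det_blk_up, Matrix.det_one, one_mul, one_mul, one_mul]
    have h3 : M₀.det = M.det := by
      rw [hM₀, Matrix.det_mul, Matrix.det_mul, mul_comm (P⁻¹).det, mul_assoc, ← Matrix.det_mul,
        Matrix.nonsing_inv_mul P hP, Matrix.det_one, mul_one]
    exact h2.symm.trans h3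
  · refine ⟨b.equivFun ⟨h, LinearMap.mem_ker.mpr hh⟩, ?_⟩
    simp [ι]
  · have h1 := hact 0 y
    simp only [zero_smul, zero_add, mul_zero] at h1
    have hvm : vecMulVec δ γ *ᵥ y = (γ ⬝ᵥ y) • δ := by
      rw [Matrix.vecMulVec_mulVec, op_smul_eq_smul]
    rw [Matrix.sub_mulVec, map_sub, map_sub, hvm, map_smul, h00.2, ← hγy]
    conv_rhs => rw [dev_apply M (ι y), h1]
    rw [smul_add]
    abel

/-- One step of the factorisation. -/
theorem step (M : Matrix (Fin (m + 1)) (Fin (m + 1)) F) {v : Fin (m + 1) → F}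
    {φ : (Fin (m + 1) → F) →ₗ[F] F} (hdet : M.det = 1) (hv : φ v = 1) (hw : φ (dev M v) = 0)
    (hnd : dev M v ≠ 0) {c d : Fin (m + 1) → F} (hc : c ⬝ᵥ v ≠ 0) (hd : φ d ≠ 0)
    (next : ∀ (M' : Matrix (Fin m) (Fin m) F) (γ δ : Fin m → F), M'.det = 1 → δ ≠ 0 →
      (γ = 0 → ∀ x, φ (dev M x) = 0) →
      (∀ β : F, M' = β • 1 → β ≠ 0 ∧ ∀ h, φ h = 0 → M *ᵥ h - β • h ∈ F ∙ (M *ᵥ v)) →
      (v ∉ LinearMap.range (dev M) → kdim M' ≤ kdim M) →
      (v ∉ LinearMap.range (dev M) → (∃ x, dev M x = 0 ∧ φ x ≠ 0) → kdim M' + 1 ≤ kdim M) →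
      (LinearMap.ker (dev M) = ⊥ → kdim M' ≤ 1) → Fact M' γ δ) : Fact M c d := by
  classical
  obtain ⟨P, γ, δ, M', ι, hP, hMP, hc0, hd0, hdet', hinj, hφι, hsurj, hδ, hγ, hM'⟩ := split M hv hw
  refine Fact.sim hP hMP (d₀ := P⁻¹ *ᵥ d)
    (by rw [Matrix.mulVec_mulVec, Matrix.mul_nonsing_inv P hP, Matrix.one_mulVec])
    (Fact.step ?_ (by rwa [hc0]) (by rwa [hd0]))
  have hker : v ∉ LinearMap.range (dev M) → ∀ y, dev M' y = 0 → dev M (ι y) = 0 := fun hr y hy => by
    have h1 := hM' y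
    rw [← dev_apply M', hy, map_zero, eq_comm, sub_eq_zero] at h1
    by_contra hne
    have hne' : φ (dev M (ι y)) ≠ 0 := fun h => hne (by rw [h1, h, zero_smul])
    apply hr
    refine ⟨(φ (dev M (ι y)))⁻¹ • ι y - v, ?_⟩
    rw [map_sub, map_smul]
    conv_lhs => enter [1, 2]; rw [h1]
    rw [smul_smul, inv_mul_cancel₀ hne', one_smul, add_sub_cancel_right]
  refine next M' γ δ (by rw [hdet', hdet]) (fun h => hnd (by rw [← hδ, h, map_zero])) (fun h x => ?_)
    (fun β hβ => ⟨?_, fun x hx => ?_⟩) (fun hr => ?_) (fun hr hx => ?_) (fun hK => ?_)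
  · obtain ⟨y, hy⟩ := hsurj (x - φ x • v) (by rw [map_sub, map_smul, hv, smul_eq_mul, mul_one, sub_self])
    have h1 := hγ y
    rw [h, zero_dotProduct, hy, map_sub, map_smul, map_sub, map_smul, hw, smul_zero, sub_zero] at h1
    exact h1.symm
  · intro h0
    rw [h0, zero_smul] at hβ
    rcases Nat.eq_zero_or_pos m with rfl | hpos
    · exact hnd (by rw [← hδ, Subsingleton.elim δ 0, map_zero])
    · haveI : Nonempty (Fin m) := ⟨⟨0, hpos⟩⟩
      rw [hdet, hβ, Matrix.det_zero] at hdet'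
      exact one_ne_zero hdet'.symm
  · obtain ⟨y, rfl⟩ := hsurj x hx
    have h1 := hM' y
    rw [hβ, Matrix.smul_mulVec, Matrix.one_mulVec, map_sub, map_smul] at h1
    rw [Submodule.mem_span_singleton]
    refine ⟨φ (dev M (ι y)), ?_⟩
    rw [show M *ᵥ v = v + dev M v by rw [dev_apply]; abel]
    rw [dev_apply M (ι y)] at h1 ⊢
    linear_combination (norm := module) h1
  · refine LinearMap.finrank_le_finrank_of_injective
      (f := ((ι ∘ₗ (LinearMap.ker (dev M')).subtype).codRestrict (LinearMap.ker (dev M))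
        fun y => LinearMap.mem_ker.mpr (hker hr y (LinearMap.mem_ker.mp y.2)))) fun y y' h => ?_
    exact Subtype.ext (hinj (congrArg Subtype.val h))
  · obtain ⟨x, hx0, hxφ⟩ := hx
    have hlt : LinearMap.ker (dev M) ⊓ LinearMap.ker φ < LinearMap.ker (dev M) :=
      lt_of_le_of_ne inf_le_left fun he =>
        hxφ (LinearMap.mem_ker.mp (Submodule.mem_inf.mp (he.ge (LinearMap.mem_ker.mpr hx0))).2)
    have hle : kdim M' ≤ finrank F ↥(LinearMap.ker (dev M) ⊓ LinearMap.ker φ) := by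
      refine LinearMap.finrank_le_finrank_of_injective
        (f := ((ι ∘ₗ (LinearMap.ker (dev M')).subtype).codRestrict (LinearMap.ker (dev M) ⊓ LinearMap.ker φ)
          fun y => Submodule.mem_inf.mpr ⟨LinearMap.mem_ker.mpr (hker hr y (LinearMap.mem_ker.mp y.2)),
            LinearMap.mem_ker.mpr (hφι _)⟩)) fun y y' h => ?_
      exact Subtype.ext (hinj (congrArg Subtype.val h))
    have := Submodule.finrank_lt_finrank_of_lt hlt
    exact Nat.lt_of_le_of_lt hle this
  · have hi : Function.Injective (dev M) := LinearMap.ker_eq_bot.mp hK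
    have hle : (LinearMap.ker (dev M')).map ((dev M) ∘ₗ ι) ≤ F ∙ (v + dev M v) := by
      rintro _ ⟨y, hy, rfl⟩
      have h1 := hM' y
      rw [← dev_apply M', LinearMap.mem_ker.mp hy, map_zero, eq_comm, sub_eq_zero] at h1
      exact Submodule.mem_span_singleton.mpr ⟨_, h1.symm⟩
    have := (Submodule.finrank_mono hle).trans (finrank_span_le_card ({v + dev M v} : Set (Fin (m + 1) → F)))
    rw [← LinearEquiv.finrank_eq (Submodule.equivMapOfInjective ((dev M) ∘ₗ ι)
      (by rw [LinearMap.coe_comp]; exact hi.comp hinj) (LinearMap.ker (dev M')))] at this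
    simpa [kdim] using this

section Count

variable [Fintype F] {V : Type v} [AddCommGroup V] [Module F V] [Finite V]

theorem card_sub (W : Submodule F V) : Nat.card W = Fintype.card F ^ finrank F W := by
  rw [Module.natCard_eq_pow_finrank (K := F), Nat.card_eq_fintype_card]

theorem ncard_sdiff_le (A B : Submodule F V) (hA : finrank F A + 1 = finrank F V) {b : ℕ}
    (hb : finrank F B ≤ b + 1) :
    ((B : Set V) \ A).ncard ≤ (Fintype.card F - 1) * Fintype.card F ^ b := by
  haveI : Module.Finite F V := Module.Finite.of_finite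
  by_cases hBA : B ≤ A
  · rw [show ((B : Set V) \ A) = ∅ from Set.sdiff_eq_empty.mpr hBA]; simp
  · have hlt : B ⊓ A < B := lt_of_le_of_ne inf_le_left fun h => hBA (h ▸ inf_le_right)
    have h1 : ((B : Set V) \ A) = (B : Set V) \ (↑(B ⊓ A) : Set V) := by
      ext x; simp [Submodule.mem_inf]
    have h2 : finrank F ↥(B ⊓ A) < finrank F B := Submodule.finrank_lt_finrank_of_lt hlt
    have h4 := Submodule.finrank_sup_add_finrank_inf_eq B A
    have h5 : finrank F ↥(B ⊔ A) ≤ finrank F V := Submodule.finrank_le _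
    have h6 : finrank F B = finrank F ↥(B ⊓ A) + 1 := by omega
    rw [h1, Set.ncard_sdiff (fun x hx => (Submodule.mem_inf.mp hx).1), ← Nat.card_coe_set_eq, ← Nat.card_coe_set_eq]
    change Nat.card B - Nat.card ↥(B ⊓ A) ≤ _
    rw [card_sub, card_sub, h6, pow_succ', ← Nat.sub_one_mul]
    exact Nat.mul_le_mul_left _ (Nat.pow_le_pow_right Fintype.card_pos (by omega))

/-- A vector outside a hyperplane and two small subspaces. -/
theorem exists_outside (A B C : Submodule F V) (hA : finrank F A + 1 = finrank F V) {b c : ℕ}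
    (hB : finrank F B ≤ b + 1) (hC : finrank F C ≤ c + 1)
    (h : Fintype.card F ^ b + Fintype.card F ^ c < Fintype.card F ^ finrank F A) :
    ∃ x, x ∉ A ∧ x ∉ B ∧ x ∉ C := by
  by_contra hcon
  push Not at hcon
  haveI : Module.Finite F V := Module.Finite.of_finite
  have hsub : (Set.univ : Set V) \ A ⊆ ((B : Set V) \ A) ∪ ((C : Set V) \ A) := fun x ⟨_, hx⟩ => by
    by_cases hxB : x ∈ B
    · exact Or.inl ⟨hxB, hx⟩
    · exact Or.inr ⟨hcon x hx hxB, hx⟩
  have h1 := (Set.ncard_le_ncard hsub).trans (Set.ncard_union_le _ _)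
  rw [Set.ncard_sdiff (Set.subset_univ _), Set.ncard_univ, ← Nat.card_coe_set_eq] at h1
  change Nat.card V - Nat.card A ≤ _ at h1
  rw [card_sub, Module.natCard_eq_pow_finrank (K := F), Nat.card_eq_fintype_card, ← hA, pow_succ',
    ← Nat.sub_one_mul] at h1
  have h2 := h1.trans (Nat.add_le_add (ncard_sdiff_le A B hA hB) (ncard_sdiff_le A C hA hC))
  rw [← Nat.mul_add] at h2
  have hq : 0 < Fintype.card F - 1 := Nat.sub_pos_of_lt Fintype.one_lt_card
  exact absurd (Nat.le_of_mul_le_mul_left h2 hq) (Nat.not_le.mpr h)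

/-- The functionals with value one at `v` that kill `Y`. -/
def admissible (v : V) (Y : Submodule F V) : Set (V →ₗ[F] F) := {φ | φ v = 1 ∧ ∀ y ∈ Y, φ y = 0}

theorem ncard_admissible_le (v : V) (Y : Submodule F V) :
    (admissible v Y).ncard ≤ Fintype.card F ^ (finrank F V - finrank F ↥(F ∙ v ⊔ Y)) := by
  haveI : Module.Finite F V := Module.Finite.of_finite
  haveI : Finite (V →ₗ[F] F) := Finite.of_injective (fun f => (f : V → F)) DFunLike.coe_injective
  rcases Set.eq_empty_or_nonempty (admissible v Y) with h | ⟨φ₀, h₀v, h₀Y⟩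
  · rw [h]; simp
  · set W := (F ∙ v ⊔ Y).dualAnnihilator
    have hW : finrank F W = finrank F V - finrank F ↥(F ∙ v ⊔ Y) := by
      rw [← Subspace.finrank_add_finrank_dualAnnihilator_eq (F ∙ v ⊔ Y), Nat.add_sub_cancel_left]
    rw [← hW, ← card_sub (V := Module.Dual F V) W, ← Nat.card_coe_set_eq]
    refine Nat.card_le_card_of_injective (fun φ => ⟨φ.1 - φ₀, (Submodule.mem_dualAnnihilator _).mpr fun x hx => ?_⟩)
      fun φ φ' h => Subtype.ext (sub_left_injective (congrArg Subtype.val h))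
    obtain ⟨x₁, hx₁, x₂, hx₂, rfl⟩ := Submodule.mem_sup.mp hx
    obtain ⟨t, rfl⟩ := Submodule.mem_span_singleton.mp hx₁
    change φ.1 (t • v + x₂) - φ₀ (t • v + x₂) = 0
    simp [φ.2.1, h₀v, φ.2.2 _ hx₂, h₀Y _ hx₂]

theorem exists_admissible (v : V) (Y : Submodule F V) (h : v ∉ Y) : (admissible v Y).Nonempty := by
  haveI : Module.Finite F V := Module.Finite.of_finite
  obtain ⟨f, hfv, hfY⟩ := Submodule.exists_dual_map_eq_bot_of_notMem h inferInstance
  refine ⟨(f v)⁻¹ • f, by simp [hfv], fun y hy => ?_⟩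
  have : f y = 0 := by
    have : f y ∈ Y.map f := ⟨y, hy, rfl⟩
    rwa [hfY, Submodule.mem_bot] at this
  simp [this]

theorem le_ncard_admissible (v : V) (Y : Submodule F V) (h : v ∉ Y) :
    Fintype.card F ^ (finrank F V - finrank F ↥(F ∙ v ⊔ Y)) ≤ (admissible v Y).ncard := by
  haveI : Module.Finite F V := Module.Finite.of_finite
  haveI : Finite (V →ₗ[F] F) := Finite.of_injective (fun f => (f : V → F)) DFunLike.coe_injective
  obtain ⟨φ₀, h₀v, h₀Y⟩ := exists_admissible v Y h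
  set W := (F ∙ v ⊔ Y).dualAnnihilator
  have hW : finrank F W = finrank F V - finrank F ↥(F ∙ v ⊔ Y) := by
    rw [← Subspace.finrank_add_finrank_dualAnnihilator_eq (F ∙ v ⊔ Y), Nat.add_sub_cancel_left]
  rw [← hW, ← card_sub (V := Module.Dual F V) W, ← Nat.card_coe_set_eq (admissible v Y)]
  refine Nat.card_le_card_of_injective (fun f => ⟨φ₀ + f.1, ?_, fun y hy => ?_⟩)
    fun f f' e => Subtype.ext (add_left_cancel (congrArg Subtype.val e))
  · have := (Submodule.mem_dualAnnihilator _).mp f.2 v (Submodule.mem_sup_left (Submodule.mem_span_singleton_self v))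
    simp [h₀v, this]
  · have := (Submodule.mem_dualAnnihilator _).mp f.2 y (Submodule.mem_sup_right hy)
    simp [h₀Y y hy, this]

end Count

end Cfsg.Lib.Classical.SLComm
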