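import Mathlib

/-! Products `L * U` of a lower and an upper triangular matrix with regular unipotent parts and a common
end block: such a product is a commutator in the special linear group. -/

set_option autoImplicit false
set_option linter.unusedSectionVars false
set_option linter.unusedSimpArgs false

namespace Cfsg.Lib.Classical.SLComm

open Matrix

universe u

variable {F : Type u} [Field F] {m k : ℕ}

/-- The matrix with corner `a`, first row `c`, first column `d` and the remaining block `N`. -/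
def blk (a : F) (c d : Fin m → F) (N : Matrix (Fin m) (Fin m) F) : Matrix (Fin (m + 1)) (Fin (m + 1)) F :=
  Matrix.of (Fin.cons (Fin.cons a c) fun i => Fin.cons (d i) (N i))

@[simp] theorem blk_zero_zero (a : F) (c d : Fin m → F) (N : Matrix (Fin m) (Fin m) F) :
    blk a c d N 0 0 = a := rfl

@[simp] theorem blk_zero_succ (a : F) (c d : Fin m → F) (N : Matrix (Fin m) (Fin m) F) (l : Fin m) :
    blk a c d N 0 l.succ = c l := by simp [blk]

@[simp] theorem blk_succ_zero (a : F) (c d : Fin m → F) (N : Matrix (Fin m) (Fin m) F) (i : Fin m) :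
    blk a c d N i.succ 0 = d i := by simp [blk]

@[simp] theorem blk_succ_succ (a : F) (c d : Fin m → F) (N : Matrix (Fin m) (Fin m) F) (i l : Fin m) :
    blk a c d N i.succ l.succ = N i l := by simp [blk]

theorem blk_eta (M : Matrix (Fin (m + 1)) (Fin (m + 1)) F) :
    blk (M 0 0) (fun l => M 0 l.succ) (fun i => M i.succ 0) (Matrix.of fun i l => M i.succ l.succ) = M := by
  ext i l
  refine Fin.cases ?_ (fun i => ?_) i <;> refine Fin.cases ?_ (fun l => ?_) l <;> simp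

theorem blk_transpose (a : F) (c d : Fin m → F) (N : Matrix (Fin m) (Fin m) F) :
    (blk a c d N)ᵀ = blk a d c Nᵀ := by
  ext i l
  refine Fin.cases ?_ (fun i => ?_) i <;> refine Fin.cases ?_ (fun l => ?_) l <;> simp

theorem blk_one : blk (1 : F) 0 0 (1 : Matrix (Fin m) (Fin m) F) = 1 := by
  ext i l
  refine Fin.cases ?_ (fun i => ?_) i <;> refine Fin.cases ?_ (fun l => ?_) l <;>
    simp [Matrix.one_apply, Fin.succ_ne_zero, (Fin.succ_ne_zero _).symm]

theorem blk_mul (a a' : F) (c d c' d' : Fin m → F) (N N' : Matrix (Fin m) (Fin m) F) :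
    blk a c d N * blk a' c' d' N' =
      blk (a * a' + c ⬝ᵥ d') (a • c' + c ᵥ* N') (a' • d + N *ᵥ d') (vecMulVec d c' + N * N') := by
  ext i l
  refine Fin.cases ?_ (fun i => ?_) i <;> refine Fin.cases ?_ (fun l => ?_) l <;>
    simp [Matrix.mul_apply, Fin.sum_univ_succ, dotProduct, Matrix.vecMul, Matrix.mulVec, Matrix.vecMulVec_apply,
      mul_comm]

theorem blk_mulVec (a : F) (c d : Fin m → F) (N : Matrix (Fin m) (Fin m) F) (x : F) (y : Fin m → F) :
    blk a c d N *ᵥ Fin.cons x y = Fin.cons (a * x + c ⬝ᵥ y) (x • d + N *ᵥ y) := by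
  ext i
  refine Fin.cases ?_ (fun i => ?_) i <;>
    simp [Matrix.mulVec, dotProduct, Fin.sum_univ_succ, mul_comm]

theorem blk_sub_one (a : F) (c d : Fin m → F) (N : Matrix (Fin m) (Fin m) F) :
    blk a c d N - 1 = blk (a - 1) c d (N - 1) := by
  ext i l
  refine Fin.cases ?_ (fun i => ?_) i <;> refine Fin.cases ?_ (fun l => ?_) l <;>
    simp [Matrix.one_apply, Fin.succ_ne_zero, (Fin.succ_ne_zero _).symm]

theorem det_blk_low (a : F) (d : Fin m → F) (N : Matrix (Fin m) (Fin m) F) : (blk a 0 d N).det = a * N.det := by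
  rw [Matrix.det_succ_row_zero, Fin.sum_univ_succ]
  have hsub : (blk a 0 d N).submatrix Fin.succ Fin.succ = N := by
    ext i l; simp
  simp [hsub]

theorem det_blk_up (a : F) (c : Fin m → F) (N : Matrix (Fin m) (Fin m) F) : (blk a c 0 N).det = a * N.det := by
  rw [← Matrix.det_transpose, blk_transpose, det_blk_low, Matrix.det_transpose]

/-- Similarity of matrices. -/
def Sim {ν : Type} [Fintype ν] [DecidableEq ν] (X Y : Matrix ν ν F) : Prop :=
  ∃ P : Matrix ν ν F, IsUnit P.det ∧ X * P = P * Y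

section Sim

variable {ν : Type} [Fintype ν] [DecidableEq ν] {X Y Z : Matrix ν ν F}

theorem Sim.rfl' (X : Matrix ν ν F) : Sim X X := ⟨1, by simp, by simp⟩

theorem Sim.symm' (h : Sim X Y) : Sim Y X := by
  obtain ⟨P, hP, hXY⟩ := h
  refine ⟨P⁻¹, (Matrix.isUnit_nonsing_inv_det_iff).mpr hP, ?_⟩
  calc Y * P⁻¹ = P⁻¹ * P * Y * P⁻¹ := by rw [Matrix.nonsing_inv_mul P hP, Matrix.one_mul]
    _ = P⁻¹ * (X * P) * P⁻¹ := by rw [hXY]; simp [Matrix.mul_assoc]
    _ = P⁻¹ * X := by simp [Matrix.mul_assoc, Matrix.mul_nonsing_inv P hP]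

theorem Sim.trans' (h : Sim X Y) (h' : Sim Y Z) : Sim X Z := by
  obtain ⟨P, hP, hXY⟩ := h
  obtain ⟨Q, hQ, hYZ⟩ := h'
  refine ⟨P * Q, by rw [Matrix.det_mul]; exact hP.mul hQ, ?_⟩
  rw [← Matrix.mul_assoc, hXY, Matrix.mul_assoc, hYZ, Matrix.mul_assoc]

theorem Sim.transpose' (h : Sim X Y) : Sim Xᵀ Yᵀ := by
  obtain ⟨P, hP, hXY⟩ := h.symm'
  exact ⟨Pᵀ, by rwa [Matrix.det_transpose], by rw [← Matrix.transpose_mul, ← hXY, Matrix.transpose_mul]⟩

theorem Sim.det_eq (h : Sim X Y) : X.det = Y.det := by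
  obtain ⟨P, hP, hXY⟩ := h
  have h1 := congrArg Matrix.det hXY
  rw [Matrix.det_mul, Matrix.det_mul, mul_comm P.det] at h1
  exact mul_right_cancel₀ hP.ne_zero h1

theorem Sim.inv' {X' Y' : Matrix ν ν F} (h : Sim X Y) (hX : X * X' = 1) (hY : Y * Y' = 1) : Sim X' Y' := by
  obtain ⟨P, hP, hXY⟩ := h
  refine ⟨P, hP, ?_⟩
  have hX' : X' * X = 1 := mul_eq_one_comm.mp hX
  calc X' * P = X' * P * (Y * Y') := by rw [hY, Matrix.mul_one]
    _ = X' * (X * P) * Y' := by rw [hXY]; simp [Matrix.mul_assoc]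
    _ = P * Y' := by rw [← Matrix.mul_assoc X' X P, hX', Matrix.one_mul]

theorem Sim.of_submatrix (e : ν ≃ ν) (X : Matrix ν ν F) : Sim (X.submatrix e e) X := by
  refine ⟨(1 : Matrix ν ν F).submatrix e id, ?_, ?_⟩
  · refine (Matrix.isUnit_iff_isUnit_det _).mp (IsUnit.of_mul_eq_one ((1 : Matrix ν ν F).submatrix id e) ?_)
    rw [← Matrix.submatrix_mul _ _ _ id _ Function.bijective_id, Matrix.one_mul, Matrix.submatrix_one_equiv]
  · rw [← Matrix.submatrix_mul _ _ _ e _ e.bijective, Matrix.mul_one]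
    conv_rhs => rw [← Matrix.submatrix_id_id X, ← Matrix.submatrix_mul _ _ _ id _ Function.bijective_id,
      Matrix.one_mul]

end Sim

/-- The vector `d` spans the space modulo the image of `L - 1`. -/
def Cond {ν : Type} [Fintype ν] [DecidableEq ν] (L : Matrix ν ν F) (d : ν → F) : Prop :=
  ∀ y : ν → F, ∃ (a : F) (z : ν → F), y = a • d + (L - 1) *ᵥ z

section Cond

variable {ν : Type} [Fintype ν] [DecidableEq ν] {L L₀ : Matrix ν ν F}

theorem cond_of_surj (h : (L - 1).det ≠ 0) (d : ν → F) : Cond L d := fun y =>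
  ⟨0, (L - 1)⁻¹ *ᵥ y, by
    rw [Matrix.mulVec_mulVec, Matrix.mul_nonsing_inv _ (Ne.isUnit h), Matrix.one_mulVec, zero_smul, zero_add]⟩

theorem Cond.sim {P : Matrix ν ν F} (hP : IsUnit P.det) (hLP : L * P = P * L₀) {d₀ : ν → F} (h : Cond L₀ d₀) :
    Cond L (P *ᵥ d₀) := fun y => by
  obtain ⟨a, z, hz⟩ := h (P⁻¹ *ᵥ y)
  refine ⟨a, P *ᵥ z, ?_⟩
  have h1 := congrArg (P *ᵥ ·) hz
  simp only [Matrix.mulVec_mulVec, Matrix.mul_nonsing_inv P hP, Matrix.one_mulVec, Matrix.mulVec_add,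
    Matrix.mulVec_smul] at h1
  rw [h1, Matrix.mulVec_mulVec, Matrix.mul_sub, Matrix.sub_mul, ← hLP, Matrix.mul_one, Matrix.one_mul]

theorem Cond.inv {L' : Matrix ν ν F} (hL : L * L' = 1) {d : ν → F} (h : Cond L d) :
    Cond L' (-(L' *ᵥ d)) := fun y => by
  obtain ⟨a, z, hz⟩ := h (L *ᵥ y)
  have hL' : L' * L = 1 := mul_eq_one_comm.mp hL
  refine ⟨-a, -z, ?_⟩
  have h1 := congrArg (L' *ᵥ ·) hz
  simp only [Matrix.mulVec_mulVec, hL', Matrix.one_mulVec, Matrix.mulVec_add, Matrix.mulVec_smul,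
    Matrix.mul_sub, Matrix.mul_one] at h1
  rw [h1, Matrix.sub_mulVec, Matrix.sub_mulVec, Matrix.mulVec_neg, Matrix.mulVec_neg, smul_neg, neg_smul,
    neg_neg, Matrix.one_mulVec]
  abel

end Cond

theorem cond_blk {L : Matrix (Fin m) (Fin m) F} {d : Fin m → F} (h : Cond L d) (e : Fin (m + 1) → F)
    (he : e 0 ≠ 0) : Cond (blk 1 0 d L) e := fun y => by
  obtain ⟨x, z, hz⟩ := h (fun i => y i.succ - y 0 / e 0 * e i.succ)
  refine ⟨y 0 / e 0, Fin.cons x z, ?_⟩
  rw [blk_sub_one, blk_mulVec]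
  ext i
  refine Fin.cases ?_ (fun i => ?_) i
  · simp [div_mul_cancel₀ _ he]
  · have := congrFun hz i
    simp only [Pi.add_apply, Pi.smul_apply, smul_eq_mul, Fin.cons_succ] at this ⊢
    linear_combination this

/-- Extensions of similar matrices by spanning columns are similar. -/
theorem blk_sim {L L₀ : Matrix (Fin m) (Fin m) F} {d d₀ : Fin m → F} (h : Sim L L₀) (hd : Cond L d)
    (hd₀ : Cond L₀ d₀) : Sim (blk 1 0 d L) (blk 1 0 d₀ L₀) := by
  obtain ⟨S, hS, hLS⟩ := h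
  suffices ∃ a : F, ∃ z : Fin m → F, a ≠ 0 ∧ S *ᵥ d₀ = a • d + (L - 1) *ᵥ z by
    obtain ⟨a, z, ha, hz⟩ := this
    refine ⟨blk a 0 z S, by rw [det_blk_low]; exact (Ne.isUnit ha).mul hS, ?_⟩
    rw [blk_mul, blk_mul]
    congr 1
    · simp
    · simp
    · rw [one_smul, hz, Matrix.sub_mulVec, Matrix.one_mulVec]
      abel
    · rw [hLS]; ext i l; simp [Matrix.vecMulVec_apply]
  obtain ⟨a, z, hz⟩ := hd (S *ᵥ d₀)
  by_cases ha : a = 0
  · have hsurj : ∀ y, ∃ w, (L₀ - 1) *ᵥ w = y := fun y => by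
      obtain ⟨b, w, hw⟩ := hd₀ y
      refine ⟨b • (S⁻¹ *ᵥ z) + w, ?_⟩
      have h0 : (L₀ - 1) *ᵥ (S⁻¹ *ᵥ z) = d₀ := by
        have h1 : S *ᵥ ((L₀ - 1) *ᵥ (S⁻¹ *ᵥ z)) = S *ᵥ d₀ := by
          rw [hz, ha, zero_smul, zero_add, Matrix.mulVec_mulVec, Matrix.mul_sub, ← hLS, Matrix.mul_one,
            ← Matrix.one_mul S, ← Matrix.mul_assoc, ← Matrix.sub_mul, Matrix.mul_one, Matrix.mulVec_mulVec,
            Matrix.mul_assoc, Matrix.one_mul, Matrix.mul_nonsing_inv S hS, Matrix.mul_one]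
        have h2 := congrArg (S⁻¹ *ᵥ ·) h1
        simpa [Matrix.mulVec_mulVec, Matrix.nonsing_inv_mul S hS,
          Matrix.nonsing_inv_mul_cancel_left _ _ hS] using h2
      rw [Matrix.mulVec_add, Matrix.mulVec_smul, h0, hw]
    obtain ⟨w, hw⟩ := hsurj (S⁻¹ *ᵥ (S *ᵥ d₀ - d))
    refine ⟨1, S *ᵥ w, one_ne_zero, ?_⟩
    have h1 := congrArg (S *ᵥ ·) hw
    simp only [Matrix.mulVec_mulVec, Matrix.mul_nonsing_inv_cancel_left _ _ hS, Matrix.mul_sub, ← hLS,
      Matrix.mul_one] at h1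
    rw [Matrix.mulVec_mulVec, Matrix.sub_mul, Matrix.one_mul, h1, one_smul, Matrix.mul_nonsing_inv S hS,
      Matrix.one_mulVec, add_sub_cancel]
  · exact ⟨a, z, ha, hz⟩

/-- The column used in the standard form. -/
def dvec (k : ℕ) : ∀ j : ℕ, Fin (k + j) → F
  | 0 => 0
  | _ + 1 => Pi.single 0 1

/-- A regular unipotent block of size `j` next to the block `A`. -/
def std (A : Matrix (Fin k) (Fin k) F) : ∀ j : ℕ, Matrix (Fin (k + j)) (Fin (k + j)) F
  | 0 => A
  | j + 1 => blk 1 0 (dvec k j) (std A j)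

theorem std_apply (A : Matrix (Fin k) (Fin k) F) : ∀ (j : ℕ) (i l : Fin (k + j)), std A j i l =
    if h : j ≤ i.1 then (if h' : j ≤ l.1 then A ⟨i.1 - j, by omega⟩ ⟨l.1 - j, by omega⟩ else 0)
    else (if l.1 = i.1 ∨ l.1 + 1 = i.1 then 1 else 0) := by
  intro j
  induction j with
  | zero => intro i l; simp [std]
  | succ j ih =>
    intro i l
    change blk 1 0 (dvec k j) (std A j) i l = _
    refine Fin.cases ?_ (fun i' => ?_) i
    · refine Fin.cases ?_ (fun l' => ?_) l <;> simp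
    · refine Fin.cases ?_ (fun l' => ?_) l
      · cases j with
        | zero => simp [dvec]
        | succ j =>
          simp only [blk_succ_zero, dvec, Pi.single_apply, Fin.val_succ, Fin.val_zero]
          by_cases hi : i' = 0
          · simp [hi]
          · have : i'.1 ≠ 0 := fun h => hi (Fin.ext h)
            simp [hi, this]
      · rw [blk_succ_succ, ih]
        simp only [Fin.val_succ, Nat.add_le_add_iff_right, Nat.add_right_cancel_iff, Nat.add_sub_add_right]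

theorem std_rev (A : Matrix (Fin k) (Fin k) F) (j : ℕ) : Sim (std A j)ᵀ (std Aᵀ j) := by
  let f : Fin (k + j) → Fin (k + j) := fun i => if i.1 < j then ⟨j - 1 - i.1, by omega⟩ else i
  have hf : Function.Involutive f := fun i => by
    by_cases h : i.1 < j
    · have : j - 1 - i.1 < j := by omega
      simp only [f, h, if_true, this]
      ext; simp only; omega
    · simp [f, h]
  let e : Fin (k + j) ≃ Fin (k + j) := hf.toPerm
  have he : ∀ i, (e i).1 = if i.1 < j then j - 1 - i.1 else i.1 := fun i => by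
    change (f i).1 = _
    by_cases h : i.1 < j <;> simp [f, h]
  have : (std A j)ᵀ.submatrix e e = std Aᵀ j := by
    ext i l
    simp only [Matrix.submatrix_apply, Matrix.transpose_apply, std_apply]
    have hi := he i
    have hl := he l
    by_cases h1 : i.1 < j <;> by_cases h2 : l.1 < j <;> simp only [h1, h2, if_true, if_false] at hi hl
    · rw [dif_neg (by omega), dif_neg (by omega)]
      congr 1
      apply propext
      omega
    · rw [dif_pos (by omega), dif_neg (by omega), dif_neg (by omega), if_neg (by omega)]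
    · rw [dif_neg (by omega), dif_pos (by omega), dif_neg (by omega), if_neg (by omega)]
    · rw [dif_pos (by omega), dif_pos (by omega), dif_pos (by omega), dif_pos (by omega)]
      congr 1 <;> ext <;> simp [hi, hl]
  rw [← this]
  exact (Sim.of_submatrix e _).symm'

theorem cond_std {A : Matrix (Fin k) (Fin k) F} (hA : (A - 1).det ≠ 0) :
    ∀ j : ℕ, Cond (std A j) (dvec k j)
  | 0 => cond_of_surj hA _
  | j + 1 => cond_blk (cond_std hA j) _ (by simp [dvec])

theorem det_std (A : Matrix (Fin k) (Fin k) F) : ∀ j : ℕ, (std A j).det = A.det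
  | 0 => rfl
  | j + 1 => by
    change (blk 1 0 (dvec k j) (std A j)).det = _
    rw [det_blk_low, det_std A j, one_mul]

/-- The two end blocks. -/
structure EndPair (A B : Matrix (Fin k) (Fin k) F) : Prop where
  det : A.det = 1
  left : (A - 1).det ≠ 0
  right : (B - 1).det ≠ 0
  inv : ∃ A', A * A' = 1 ∧ Sim A' B
  cent : ∀ δ : F, δ ≠ 0 → ∃ E, E * A = A * E ∧ E.det = δ

theorem EndPair.right_transpose {A B : Matrix (Fin k) (Fin k) F} (h : EndPair A B) : (Bᵀ - 1).det ≠ 0 := by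
  rw [← Matrix.transpose_one, ← Matrix.transpose_sub, Matrix.det_transpose]
  exact h.right

theorem std_inv {A B : Matrix (Fin k) (Fin k) F} (h : EndPair A B) :
    ∀ j : ℕ, ∃ X', std A j * X' = 1 ∧ Sim X' (std B j)
  | 0 => h.inv
  | j + 1 => by
    obtain ⟨X', hX, hsim⟩ := std_inv h j
    refine ⟨blk 1 0 (-(X' *ᵥ dvec k j)) X', ?_, blk_sim hsim ((cond_std h.left j).inv hX) (cond_std h.right j)⟩
    change blk 1 0 (dvec k j) (std A j) * _ = 1
    rw [blk_mul]
    conv_rhs => rw [← blk_one]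
    congr 1
    · simp
    · simp
    · rw [one_smul, Matrix.mulVec_neg, Matrix.mulVec_mulVec, hX, Matrix.one_mulVec, add_neg_cancel]
    · rw [hX]; ext i l; simp [Matrix.vecMulVec_apply]

theorem std_cent {A B : Matrix (Fin k) (Fin k) F} (h : EndPair A B) {δ : F} (hδ : δ ≠ 0) :
    ∀ j : ℕ, ∃ E, E * std A j = std A j * E ∧ E.det = δ ∧ E *ᵥ dvec k j = dvec k j
  | 0 => by
    obtain ⟨E, h1, h2⟩ := h.cent δ hδ
    exact ⟨E, h1, h2, by simp [dvec]⟩
  | j + 1 => by
    obtain ⟨E, h1, h2, h3⟩ := std_cent h hδ j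
    refine ⟨blk 1 0 0 E, ?_, by rw [det_blk_low, h2, one_mul], ?_⟩
    · change _ * blk 1 0 (dvec k j) (std A j) = blk 1 0 (dvec k j) (std A j) * _
      rw [blk_mul, blk_mul]
      congr 1
      · simp
      · simp
      · simp [h3]
      · rw [h1]; ext i l; simp [Matrix.vecMulVec_apply]
    · have : dvec (F := F) k (j + 1) = Fin.cons 1 0 := by
        ext i; refine Fin.cases ?_ (fun i => ?_) i <;> simp [dvec, Fin.succ_ne_zero]
      rw [this, blk_mulVec]
      simp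

/-- `L` and `U` are similar to standard matrices over a pair of end blocks. -/
def Shape (L U : Matrix (Fin m) (Fin m) F) : Prop :=
  ∃ (k j : ℕ) (A B : Matrix (Fin k) (Fin k) F), EndPair A B ∧ ∃ h : k + j = m,
    Sim (L.submatrix (Fin.cast h) (Fin.cast h)) (std A j) ∧ Sim (U.submatrix (Fin.cast h) (Fin.cast h)) (std B j)

theorem Shape.of_end {A B L U : Matrix (Fin k) (Fin k) F} (h : EndPair A B) (hL : Sim L A) (hU : Sim U B) :
    Shape L U :=
  ⟨k, 0, A, B, h, rfl, hL, hU⟩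

theorem Shape.sim {L U L' U' : Matrix (Fin m) (Fin m) F} (h : Shape L U) (hL : Sim L' L) (hU : Sim U' U) :
    Shape L' U' := by
  obtain ⟨k, j, A, B, hp, hm, hLs, hUs⟩ := h
  subst hm
  exact ⟨k, j, A, B, hp, rfl, hL.trans' hLs, hU.trans' hUs⟩

theorem Shape.step {L U : Matrix (Fin m) (Fin m) F} (h : Shape L U) {c d : Fin m → F} (hd : Cond L d)
    (hc : Cond Uᵀ c) : Shape (blk 1 0 d L) (blk 1 c 0 U) := by
  obtain ⟨k, j, A, B, hp, hm, hL, hU⟩ := h
  subst hm
  refine ⟨k, j + 1, A, B, hp, rfl, blk_sim hL hd (cond_std hp.left j), ?_⟩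
  change Sim (blk 1 c 0 U) (std B (j + 1))
  have h1 : Sim (blk 1 0 c Uᵀ) (std Bᵀ (j + 1)) :=
    blk_sim (hU.transpose'.trans' (std_rev B j)) hc (cond_std hp.right_transpose j)
  have h2 := h1.transpose'
  rw [blk_transpose, Matrix.transpose_transpose] at h2
  have h3 := std_rev Bᵀ (j + 1)
  rw [Matrix.transpose_transpose] at h3
  exact h2.trans' h3

/-- Being a commutator of two matrices of determinant one. -/
def IsComm (M : Matrix (Fin m) (Fin m) F) : Prop :=
  ∃ a b : SpecialLinearGroup (Fin m) F, ((a * b * a⁻¹ * b⁻¹ : SpecialLinearGroup (Fin m) F) : Matrix (Fin m) (Fin m) F) = M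

theorem IsComm.intro {a a' b b' : Matrix (Fin m) (Fin m) F} (ha : a.det = 1) (hb : b.det = 1) (ha' : a * a' = 1)
    (hb' : b * b' = 1) : IsComm (a * b * a' * b') := by
  let sa : SpecialLinearGroup (Fin m) F := ⟨a, ha⟩
  let sb : SpecialLinearGroup (Fin m) F := ⟨b, hb⟩
  refine ⟨sa, sb, ?_⟩
  have h1 : ((sa⁻¹ : SpecialLinearGroup (Fin m) F) : Matrix (Fin m) (Fin m) F) = a' :=
    left_inv_eq_right_inv (a := a) (congrArg Subtype.val (inv_mul_cancel sa)) ha'
  have h2 : ((sb⁻¹ : SpecialLinearGroup (Fin m) F) : Matrix (Fin m) (Fin m) F) = b' :=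
    left_inv_eq_right_inv (a := b) (congrArg Subtype.val (inv_mul_cancel sb)) hb'
  rw [Matrix.SpecialLinearGroup.coe_mul, Matrix.SpecialLinearGroup.coe_mul, Matrix.SpecialLinearGroup.coe_mul, h1, h2]

theorem IsComm.sim {M M₀ : Matrix (Fin m) (Fin m) F} (h : IsComm M₀) (hs : Sim M M₀) : IsComm M := by
  obtain ⟨P, hP, hMP⟩ := hs
  obtain ⟨a, b, rfl⟩ := h
  have hM : M = P * ((a * b * a⁻¹ * b⁻¹ : SpecialLinearGroup (Fin m) F) : Matrix (Fin m) (Fin m) F) * P⁻¹ := by
    rw [← hMP, Matrix.mul_nonsing_inv_cancel_right _ _ hP]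
  have hc : ∀ x y : Matrix (Fin m) (Fin m) F, P * (x * y) * P⁻¹ = P * x * P⁻¹ * (P * y * P⁻¹) := fun x y => by
    simp only [Matrix.mul_assoc, Matrix.nonsing_inv_mul_cancel_left _ _ hP]
  have hd : ∀ x : Matrix (Fin m) (Fin m) F, (P * x * P⁻¹).det = x.det := fun x => by
    rw [Matrix.det_mul, Matrix.det_mul, mul_comm P.det, mul_assoc, ← Matrix.det_mul, Matrix.mul_nonsing_inv P hP,
      Matrix.det_one, mul_one]
  have hi : ∀ x y : Matrix (Fin m) (Fin m) F, x * y = 1 → P * x * P⁻¹ * (P * y * P⁻¹) = 1 := fun x y e => by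
    rw [← hc, e, Matrix.mul_one, Matrix.mul_nonsing_inv P hP]
  rw [hM, Matrix.SpecialLinearGroup.coe_mul, Matrix.SpecialLinearGroup.coe_mul, Matrix.SpecialLinearGroup.coe_mul,
    hc, hc, hc]
  exact IsComm.intro (by rw [hd]; exact a.2) (by rw [hd]; exact b.2)
    (hi _ _ (congrArg Subtype.val (mul_inv_cancel a))) (hi _ _ (congrArg Subtype.val (mul_inv_cancel b)))

/-- A product of a shaped pair is a commutator. -/
theorem Shape.isComm {L U : Matrix (Fin m) (Fin m) F} (h : Shape L U) : IsComm (L * U) := by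
  obtain ⟨k, j, A, B, hp, hm, hL, hU⟩ := h
  subst hm
  change Sim L (std A j) at hL
  change Sim U (std B j) at hU
  obtain ⟨X', hX, hX'⟩ := std_inv hp j
  obtain ⟨P, hP, hLP⟩ := hL
  have hdet : L.det = 1 := by
    rw [Sim.det_eq ⟨P, hP, hLP⟩, det_std, hp.det]
  have hu : IsUnit L.det := by rw [hdet]; exact isUnit_one
  have hLi : Sim L⁻¹ X' := Sim.inv' ⟨P, hP, hLP⟩ (Matrix.mul_nonsing_inv L hu) hX
  obtain ⟨C, hC, hUC⟩ := hU.trans' (hLi.trans' hX').symm'
  obtain ⟨E, hE, hEd, -⟩ := std_cent hp (δ := C.det⁻¹) (inv_ne_zero hC.ne_zero) j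
  have hE1 : (P * E * P⁻¹) * L = L * (P * E * P⁻¹) := by
    have hL' : L = P * std A j * P⁻¹ := by rw [← hLP, Matrix.mul_nonsing_inv_cancel_right _ _ hP]
    rw [hL']
    simp only [Matrix.mul_assoc, Matrix.nonsing_inv_mul_cancel_left _ _ hP]
    rw [← Matrix.mul_assoc E, hE, Matrix.mul_assoc]
  have hE2 : L⁻¹ * (P * E * P⁻¹) = (P * E * P⁻¹) * L⁻¹ := by
    calc L⁻¹ * (P * E * P⁻¹) = L⁻¹ * (P * E * P⁻¹ * L) * L⁻¹ := by
          simp [Matrix.mul_assoc, Matrix.mul_nonsing_inv L hu]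
      _ = (P * E * P⁻¹) * L⁻¹ := by
          rw [hE1, ← Matrix.mul_assoc L⁻¹ L, Matrix.nonsing_inv_mul L hu, Matrix.one_mul]
  have hD : (C * (P * E * P⁻¹)).det = 1 := by
    rw [Matrix.det_mul, Matrix.det_mul, Matrix.det_mul, mul_comm P.det, mul_assoc E.det, ← Matrix.det_mul,
      Matrix.mul_nonsing_inv P hP, Matrix.det_one, mul_one, hEd, mul_inv_cancel₀ hC.ne_zero]
  have hDu : IsUnit (C * (P * E * P⁻¹)).det := by rw [hD]; exact isUnit_one
  have hU' : U = C * (P * E * P⁻¹) * L⁻¹ * (C * (P * E * P⁻¹))⁻¹ := by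
    have : U * (C * (P * E * P⁻¹)) = C * (P * E * P⁻¹) * L⁻¹ := by
      rw [← Matrix.mul_assoc, hUC, Matrix.mul_assoc, hE2, ← Matrix.mul_assoc]
    rw [← this, Matrix.mul_nonsing_inv_cancel_right _ _ hDu]
  rw [hU', ← Matrix.mul_assoc, ← Matrix.mul_assoc]
  exact IsComm.intro hdet hD (Matrix.mul_nonsing_inv L hu) (Matrix.mul_nonsing_inv _ hDu)

/-- A factorisation that can be continued with the column `d` and the row `c`. -/
def Fact (M : Matrix (Fin m) (Fin m) F) (c d : Fin m → F) : Prop :=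
  ∃ L U, M = L * U ∧ Shape L U ∧ Cond L d ∧ Cond Uᵀ c

theorem Fact.sim {M M₀ : Matrix (Fin m) (Fin m) F} {P : Matrix (Fin m) (Fin m) F} (hP : IsUnit P.det)
    (hMP : M * P = P * M₀) {c d d₀ : Fin m → F} (hd : P *ᵥ d₀ = d) (h : Fact M₀ (c ᵥ* P) d₀) : Fact M c d := by
  obtain ⟨L, U, rfl, hs, hcd, hcc⟩ := h
  have hsL : (P * L * P⁻¹) * P = P * L := by rw [Matrix.nonsing_inv_mul_cancel_right _ _ hP]
  have hsU : (P * U * P⁻¹) * P = P * U := by rw [Matrix.nonsing_inv_mul_cancel_right _ _ hP]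
  refine ⟨P * L * P⁻¹, P * U * P⁻¹, ?_, hs.sim ⟨P, hP, hsL⟩ ⟨P, hP, hsU⟩, hd ▸ hcd.sim hP hsL, ?_⟩
  · rw [show P * L * P⁻¹ * (P * U * P⁻¹) = P * (L * U) * P⁻¹ by
      simp only [Matrix.mul_assoc, Matrix.nonsing_inv_mul_cancel_left _ _ hP], ← hMP,
      Matrix.mul_nonsing_inv_cancel_right _ _ hP]
  · have hQ : IsUnit (P⁻¹)ᵀ.det := by
      rw [Matrix.det_transpose]; exact Matrix.isUnit_nonsing_inv_det_iff.mpr hP
    have := hcc.sim (L := (P * U * P⁻¹)ᵀ) hQ (by
      rw [← Matrix.transpose_mul, ← Matrix.transpose_mul]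
      simp only [← Matrix.mul_assoc, Matrix.nonsing_inv_mul _ hP, Matrix.one_mul])
    convert this using 1
    rw [Matrix.mulVec_transpose, Matrix.vecMul_vecMul, Matrix.mul_nonsing_inv P hP, Matrix.vecMul_one]

theorem Fact.step {M : Matrix (Fin m) (Fin m) F} {γ δ : Fin m → F} (h : Fact M γ δ) {c d : Fin (m + 1) → F}
    (hc : c 0 ≠ 0) (hd : d 0 ≠ 0) : Fact (blk 1 γ δ (vecMulVec δ γ + M)) c d := by
  obtain ⟨L, U, rfl, hs, hcd, hcc⟩ := h
  refine ⟨blk 1 0 δ L, blk 1 γ 0 U, ?_, hs.step hcd hcc, cond_blk hcd d hd, ?_⟩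
  · rw [blk_mul]; simp
  · rw [blk_transpose]
    exact cond_blk hcc c hc

theorem Fact.of_end {k : ℕ} {A B L U M : Matrix (Fin k) (Fin k) F} (h : EndPair A B) (hM : M = L * U)
    (hL : Sim L A) (hU : Sim U B) (c d : Fin k → F) : Fact M c d := by
  refine ⟨L, U, hM, Shape.of_end h hL hU, ?_, ?_⟩
  · obtain ⟨P, hP, hLP⟩ := hL
    have := (cond_of_surj h.left (P⁻¹ *ᵥ d)).sim hP hLP
    rwa [Matrix.mulVec_mulVec, Matrix.mul_nonsing_inv P hP, Matrix.one_mulVec] at this
  · obtain ⟨P, hP, hLP⟩ := hU.transpose'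
    have := (cond_of_surj h.right_transpose (P⁻¹ *ᵥ c)).sim hP hLP
    rwa [Matrix.mulVec_mulVec, Matrix.mul_nonsing_inv P hP, Matrix.one_mulVec] at this

theorem Fact.isComm {M : Matrix (Fin m) (Fin m) F} {c d : Fin m → F} (h : Fact M c d) : IsComm M := by
  obtain ⟨L, U, rfl, hs, -, -⟩ := h
  exact hs.isComm

end Cfsg.Lib.Classical.SLComm
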