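import Cfsg.Agent.Classical.Linear.CommPick

/-! Witnesses for the end blocks over the fields with two and three elements. -/

set_option autoImplicit false

namespace Cfsg.Lib.Classical.SLComm

open Matrix

/-- The end block. -/
def cThreeThree : Matrix (Fin 3) (Fin 3) (ZMod 3) := ![![0,0,1], ![1,0,1], ![0,1,0]]

/-- Its inverse. -/
def cThreeThreeInv : Matrix (Fin 3) (Fin 3) (ZMod 3) := ![![2,1,0], ![0,0,1], ![1,0,0]]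

/-- Matrices with the two conjugators and their inverses. -/
def wThreeThree : List (Matrix (Fin 3) (Fin 3) (ZMod 3) × Matrix (Fin 3) (Fin 3) (ZMod 3) × Matrix (Fin 3) (Fin 3) (ZMod 3) × Matrix (Fin 3) (Fin 3) (ZMod 3) × Matrix (Fin 3) (Fin 3) (ZMod 3)) := [
  (![![0,0,1], ![1,0,0], ![0,1,0]], ![![0,0,1], ![0,1,0], ![2,0,1]], ![![1,0,2], ![0,1,0], ![1,0,0]], ![![0,0,1], ![2,2,2], ![0,2,2]], ![![0,2,1], ![2,0,2], ![1,0,0]]),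
  (![![0,0,1], ![1,0,0], ![0,1,1]], ![![0,0,1], ![0,1,0], ![1,0,0]], ![![0,0,1], ![0,1,0], ![1,0,0]], ![![0,0,1], ![1,2,1], ![0,1,2]], ![![0,1,1], ![1,0,1], ![1,0,0]]),
  (![![0,0,1], ![1,0,0], ![0,1,2]], ![![0,0,1], ![0,1,0], ![2,2,0]], ![![0,2,2], ![0,1,0], ![1,0,0]], ![![0,0,1], ![1,1,0], ![2,1,1]], ![![2,2,1], ![1,2,2], ![1,0,0]]),
  (![![0,0,1], ![1,0,1], ![0,1,0]], ![![0,0,1], ![0,1,0], ![1,1,0]], ![![0,2,1], ![0,1,0], ![1,0,0]], ![![0,0,1], ![2,2,0], ![1,2,2]], ![![2,1,2], ![1,1,1], ![1,0,0]]),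
  (![![0,0,1], ![1,0,1], ![0,1,1]], ![![0,0,1], ![0,1,2], ![2,0,1]], ![![1,0,2], ![1,1,0], ![1,0,0]], ![![0,0,1], ![2,0,0], ![2,2,0]], ![![0,2,0], ![0,1,2], ![1,0,0]]),
  (![![0,0,1], ![1,0,1], ![0,1,2]], ![![0,0,1], ![0,1,0], ![2,0,2]], ![![2,0,2], ![0,1,0], ![1,0,0]], ![![0,0,1], ![2,0,0], ![1,2,0]], ![![0,2,0], ![0,2,2], ![1,0,0]]),
  (![![0,0,1], ![1,0,2], ![0,1,0]], ![![0,0,1], ![0,1,0], ![1,1,1]], ![![2,2,1], ![0,1,0], ![1,0,0]], ![![0,0,1], ![1,0,1], ![0,1,0]], ![![2,1,0], ![0,0,1], ![1,0,0]]),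
  (![![0,0,1], ![1,0,2], ![0,1,1]], ![![0,0,1], ![0,1,0], ![1,0,1]], ![![2,0,1], ![0,1,0], ![1,0,0]], ![![0,0,1], ![1,0,0], ![2,1,0]], ![![0,1,0], ![0,1,1], ![1,0,0]]),
  (![![0,0,1], ![1,0,2], ![0,1,2]], ![![0,0,1], ![0,1,1], ![1,0,1]], ![![2,0,1], ![2,1,0], ![1,0,0]], ![![0,0,1], ![2,1,2], ![2,2,1]], ![![0,1,1], ![1,2,1], ![1,0,0]]),
  (![![0,1,0], ![1,0,0], ![0,0,2]], ![![0,0,1], ![0,1,2], ![1,0,1]], ![![2,0,1], ![1,1,0], ![1,0,0]], ![![0,0,1], ![1,1,1], ![1,2,2]], ![![0,2,2], ![2,2,1], ![1,0,0]]),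
  (![![0,1,0], ![1,0,1], ![0,0,2]], ![![0,0,1], ![0,1,1], ![2,0,2]], ![![2,0,2], ![2,1,0], ![1,0,0]], ![![0,0,1], ![2,2,2], ![0,2,2]], ![![0,2,1], ![2,0,2], ![1,0,0]]),
  (![![0,1,0], ![1,0,2], ![0,0,2]], ![![0,0,1], ![0,1,1], ![1,0,1]], ![![2,0,1], ![2,1,0], ![1,0,0]], ![![0,0,1], ![2,2,2], ![0,1,1]], ![![0,2,2], ![2,0,1], ![1,0,0]]),
  (![![0,1,1], ![1,0,0], ![0,0,2]], ![![0,0,1], ![0,1,0], ![1,1,0]], ![![0,2,1], ![0,1,0], ![1,0,0]], ![![0,0,1], ![2,2,0], ![2,0,2]], ![![2,0,2], ![1,2,1], ![1,0,0]]),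
  (![![0,1,1], ![1,0,1], ![0,0,2]], ![![0,0,1], ![0,1,0], ![1,0,1]], ![![2,0,1], ![0,1,0], ![1,0,0]], ![![0,0,1], ![1,2,1], ![2,2,1]], ![![0,2,1], ![1,1,1], ![1,0,0]]),
  (![![0,1,1], ![1,0,2], ![0,0,2]], ![![0,0,1], ![0,1,0], ![1,2,2]], ![![1,1,1], ![0,1,0], ![1,0,0]], ![![0,0,1], ![1,2,2], ![0,2,0]], ![![1,1,2], ![0,0,2], ![1,0,0]]),
  (![![0,1,2], ![1,0,0], ![0,0,2]], ![![0,0,1], ![0,1,0], ![1,1,1]], ![![2,2,1], ![0,1,0], ![1,0,0]], ![![0,0,1], ![2,0,2], ![2,1,2]], ![![2,2,0], ![0,2,1], ![1,0,0]]),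
  (![![0,1,2], ![1,0,1], ![0,0,2]], ![![0,0,1], ![0,1,0], ![2,1,1]], ![![1,1,2], ![0,1,0], ![1,0,0]], ![![0,0,1], ![1,2,2], ![0,1,0]], ![![1,1,1], ![0,0,1], ![1,0,0]]),
  (![![0,1,2], ![1,0,2], ![0,0,2]], ![![0,0,1], ![0,1,0], ![2,0,1]], ![![1,0,2], ![0,1,0], ![1,0,0]], ![![0,0,1], ![1,0,0], ![2,2,0]], ![![0,1,0], ![0,2,2], ![1,0,0]]),
  (![![0,1,0], ![1,1,0], ![0,0,2]], ![![0,0,1], ![0,1,1], ![1,2,2]], ![![0,1,1], ![2,1,0], ![1,0,0]], ![![0,0,1], ![2,2,2], ![1,2,0]], ![![1,1,2], ![1,1,1], ![1,0,0]]),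
  (![![0,1,0], ![1,1,1], ![0,0,2]], ![![0,0,1], ![0,1,2], ![2,1,1]], ![![2,1,2], ![1,1,0], ![1,0,0]], ![![0,0,1], ![1,1,1], ![2,0,1]], ![![1,0,2], ![1,1,1], ![1,0,0]]),
  (![![0,1,0], ![1,1,2], ![0,0,2]], ![![0,0,1], ![0,1,2], ![1,2,2]], ![![2,1,1], ![1,1,0], ![1,0,0]], ![![0,0,1], ![1,1,1], ![1,0,2]], ![![1,0,1], ![1,1,2], ![1,0,0]]),
  (![![0,1,1], ![1,1,0], ![0,0,2]], ![![0,0,1], ![0,1,0], ![2,0,0]], ![![0,0,2], ![0,1,0], ![1,0,0]], ![![0,0,1], ![2,2,2], ![1,0,0]], ![![0,0,1], ![2,2,2], ![1,0,0]]),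
  (![![0,1,1], ![1,1,1], ![0,0,2]], ![![0,0,1], ![0,1,0], ![1,1,1]], ![![2,2,1], ![0,1,0], ![1,0,0]], ![![0,0,1], ![1,0,1], ![2,1,2]], ![![2,1,0], ![0,1,1], ![1,0,0]]),
  (![![0,1,1], ![1,1,2], ![0,0,2]], ![![0,0,1], ![0,1,0], ![2,2,0]], ![![0,2,2], ![0,1,0], ![1,0,0]], ![![0,0,1], ![0,2,2], ![2,1,0]], ![![2,2,2], ![2,2,0], ![1,0,0]]),
  (![![0,1,2], ![1,1,0], ![0,0,2]], ![![0,0,1], ![0,1,0], ![1,0,0]], ![![0,0,1], ![0,1,0], ![1,0,0]], ![![0,0,1], ![2,2,2], ![2,0,0]], ![![0,0,2], ![2,2,1], ![1,0,0]]),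
  (![![0,1,2], ![1,1,1], ![0,0,2]], ![![0,0,1], ![0,1,0], ![1,1,0]], ![![0,2,1], ![0,1,0], ![1,0,0]], ![![0,0,1], ![0,2,2], ![1,2,0]], ![![2,2,1], ![2,2,0], ![1,0,0]]),
  (![![0,1,2], ![1,1,2], ![0,0,2]], ![![0,0,1], ![0,1,0], ![1,2,2]], ![![1,1,1], ![0,1,0], ![1,0,0]], ![![0,0,1], ![2,0,1], ![0,1,1]], ![![1,2,0], ![2,0,1], ![1,0,0]]),
  (![![0,1,0], ![1,2,0], ![0,0,2]], ![![0,0,1], ![0,1,1], ![1,0,0]], ![![0,0,1], ![2,1,0], ![1,0,0]], ![![0,0,1], ![2,2,2], ![2,0,0]], ![![0,0,2], ![2,2,1], ![1,0,0]]),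
  (![![0,1,0], ![1,2,1], ![0,0,2]], ![![0,0,1], ![0,1,1], ![1,0,2]], ![![1,0,1], ![2,1,0], ![1,0,0]], ![![0,0,1], ![2,2,2], ![1,2,2]], ![![0,1,2], ![2,1,1], ![1,0,0]]),
  (![![0,1,0], ![1,2,2], ![0,0,2]], ![![0,0,1], ![0,1,1], ![2,0,1]], ![![1,0,2], ![2,1,0], ![1,0,0]], ![![0,0,1], ![2,2,2], ![2,1,1]], ![![0,1,1], ![2,1,2], ![1,0,0]]),
  (![![0,1,1], ![1,2,0], ![0,0,2]], ![![0,0,1], ![0,1,0], ![1,0,0]], ![![0,0,1], ![0,1,0], ![1,0,0]], ![![0,0,1], ![1,1,1], ![2,0,0]], ![![0,0,2], ![2,1,1], ![1,0,0]]),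
  (![![0,1,1], ![1,2,1], ![0,0,2]], ![![0,0,1], ![0,1,0], ![2,1,2]], ![![2,1,2], ![0,1,0], ![1,0,0]], ![![0,0,1], ![0,2,1], ![1,1,1]], ![![1,1,1], ![1,2,0], ![1,0,0]]),
  (![![0,1,1], ![1,2,2], ![0,0,2]], ![![0,0,1], ![0,1,0], ![2,0,2]], ![![2,0,2], ![0,1,0], ![1,0,0]], ![![0,0,1], ![2,0,0], ![2,2,0]], ![![0,2,0], ![0,1,2], ![1,0,0]]),
  (![![0,1,2], ![1,2,0], ![0,0,2]], ![![0,0,1], ![0,1,0], ![1,0,2]], ![![1,0,1], ![0,1,0], ![1,0,0]], ![![0,0,1], ![2,1,2], ![2,2,1]], ![![0,1,1], ![1,2,1], ![1,0,0]]),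
  (![![0,1,2], ![1,2,1], ![0,0,2]], ![![0,0,1], ![0,1,0], ![1,0,1]], ![![2,0,1], ![0,1,0], ![1,0,0]], ![![0,0,1], ![2,0,0], ![1,1,0]], ![![0,2,0], ![0,1,1], ![1,0,0]]),
  (![![0,1,2], ![1,2,2], ![0,0,2]], ![![0,0,1], ![0,1,0], ![1,2,1]], ![![2,1,1], ![0,1,0], ![1,0,0]], ![![0,0,1], ![0,2,1], ![2,2,2]], ![![1,1,2], ![1,2,0], ![1,0,0]]),
  (![![0,2,0], ![1,0,0], ![0,0,1]], ![![0,0,1], ![0,1,1], ![1,0,2]], ![![1,0,1], ![2,1,0], ![1,0,0]], ![![0,0,1], ![1,2,1], ![2,2,1]], ![![0,2,1], ![1,1,1], ![1,0,0]]),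
  (![![0,2,0], ![1,0,1], ![0,0,1]], ![![0,0,1], ![0,1,2], ![1,0,2]], ![![1,0,1], ![1,1,0], ![1,0,0]], ![![0,0,1], ![2,1,2], ![0,1,2]], ![![0,2,1], ![1,0,1], ![1,0,0]]),
  (![![0,2,0], ![1,0,2], ![0,0,1]], ![![0,0,1], ![0,1,2], ![2,0,1]], ![![1,0,2], ![1,1,0], ![1,0,0]], ![![0,0,1], ![2,1,2], ![0,2,1]], ![![0,2,2], ![1,0,2], ![1,0,0]]),
  (![![0,2,1], ![1,0,0], ![0,0,1]], ![![0,0,1], ![0,1,0], ![1,0,1]], ![![2,0,1], ![0,1,0], ![1,0,0]], ![![0,0,1], ![1,0,0], ![0,1,0]], ![![0,1,0], ![0,0,1], ![1,0,0]]),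
  (![![0,2,1], ![1,0,1], ![0,0,1]], ![![0,0,1], ![0,1,2], ![1,1,1]], ![![1,2,1], ![1,1,0], ![1,0,0]], ![![0,0,1], ![0,1,0], ![1,1,1]], ![![2,2,1], ![0,1,0], ![1,0,0]]),
  (![![0,2,1], ![1,0,2], ![0,0,1]], ![![0,0,1], ![0,1,0], ![1,2,2]], ![![1,1,1], ![0,1,0], ![1,0,0]], ![![0,0,1], ![0,2,1], ![1,2,0]], ![![1,2,1], ![1,2,0], ![1,0,0]]),
  (![![0,2,2], ![1,0,0], ![0,0,1]], ![![0,0,1], ![0,1,0], ![2,0,2]], ![![2,0,2], ![0,1,0], ![1,0,0]], ![![0,0,1], ![1,0,0], ![0,2,0]], ![![0,1,0], ![0,0,2], ![1,0,0]]),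
  (![![0,2,2], ![1,0,1], ![0,0,1]], ![![0,0,1], ![0,1,0], ![1,2,1]], ![![2,1,1], ![0,1,0], ![1,0,0]], ![![0,0,1], ![1,0,2], ![1,2,1]], ![![1,1,0], ![2,1,2], ![1,0,0]]),
  (![![0,2,2], ![1,0,2], ![0,0,1]], ![![0,0,1], ![0,1,2], ![1,0,0]], ![![0,0,1], ![1,1,0], ![1,0,0]], ![![0,0,1], ![1,2,1], ![1,0,0]], ![![0,0,1], ![1,2,1], ![1,0,0]]),
  (![![0,2,0], ![1,1,0], ![0,0,1]], ![![0,0,1], ![0,1,1], ![1,2,2]], ![![0,1,1], ![2,1,0], ![1,0,0]], ![![0,0,1], ![1,2,1], ![0,1,1]], ![![1,1,1], ![2,0,1], ![1,0,0]]),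
  (![![0,2,0], ![1,1,1], ![0,0,1]], ![![0,0,1], ![0,1,1], ![1,0,0]], ![![0,0,1], ![2,1,0], ![1,0,0]], ![![0,0,1], ![1,2,1], ![1,0,0]], ![![0,0,1], ![1,2,1], ![1,0,0]]),
  (![![0,2,0], ![1,1,2], ![0,0,1]], ![![0,0,1], ![0,1,1], ![1,0,1]], ![![2,0,1], ![2,1,0], ![1,0,0]], ![![0,0,1], ![1,2,1], ![0,1,2]], ![![0,1,1], ![1,0,1], ![1,0,0]]),
  (![![0,2,1], ![1,1,0], ![0,0,1]], ![![0,0,1], ![0,1,0], ![1,2,1]], ![![2,1,1], ![0,1,0], ![1,0,0]], ![![0,0,1], ![2,0,1], ![1,2,1]], ![![1,2,0], ![2,2,2], ![1,0,0]]),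
  (![![0,2,1], ![1,1,1], ![0,0,1]], ![![0,0,1], ![0,1,0], ![2,1,1]], ![![1,1,2], ![0,1,0], ![1,0,0]], ![![0,0,1], ![2,1,1], ![1,0,2]], ![![1,0,1], ![0,1,1], ![1,0,0]]),
  (![![0,2,1], ![1,1,2], ![0,0,1]], ![![0,0,1], ![0,1,0], ![1,1,0]], ![![0,2,1], ![0,1,0], ![1,0,0]], ![![0,0,1], ![2,2,0], ![0,1,2]], ![![2,2,2], ![1,0,1], ![1,0,0]]),
  (![![0,2,2], ![1,1,0], ![0,0,1]], ![![0,0,1], ![0,1,0], ![1,0,2]], ![![1,0,1], ![0,1,0], ![1,0,0]], ![![0,0,1], ![2,0,0], ![0,1,0]], ![![0,2,0], ![0,0,1], ![1,0,0]]),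
  (![![0,2,2], ![1,1,1], ![0,0,1]], ![![0,0,1], ![0,1,0], ![1,0,0]], ![![0,0,1], ![0,1,0], ![1,0,0]], ![![0,0,1], ![2,1,2], ![1,0,0]], ![![0,0,1], ![1,1,1], ![1,0,0]]),
  (![![0,2,2], ![1,1,2], ![0,0,1]], ![![0,0,1], ![0,1,0], ![1,2,2]], ![![1,1,1], ![0,1,0], ![1,0,0]], ![![0,0,1], ![2,1,1], ![2,0,1]], ![![1,0,2], ![0,1,2], ![1,0,0]]),
  (![![0,2,0], ![1,2,1], ![0,0,1]], ![![0,0,1], ![0,1,1], ![1,2,0]], ![![2,1,1], ![2,1,0], ![1,0,0]], ![![0,0,1], ![1,2,1], ![2,0,1]], ![![1,0,2], ![2,2,2], ![1,0,0]]),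
  (![![0,2,0], ![1,2,2], ![0,0,1]], ![![0,0,1], ![0,1,1], ![2,1,0]], ![![2,1,2], ![2,1,0], ![1,0,0]], ![![0,0,1], ![1,2,1], ![1,0,2]], ![![1,0,1], ![2,2,1], ![1,0,0]]),
  (![![0,2,1], ![1,2,0], ![0,0,1]], ![![0,0,1], ![0,1,0], ![2,0,2]], ![![2,0,2], ![0,1,0], ![1,0,0]], ![![0,0,1], ![2,2,2], ![2,1,1]], ![![0,1,1], ![2,1,2], ![1,0,0]]),
  (![![0,2,1], ![1,2,1], ![0,0,1]], ![![0,0,1], ![0,1,0], ![1,0,0]], ![![0,0,1], ![0,1,0], ![1,0,0]], ![![0,0,1], ![1,2,1], ![1,0,0]], ![![0,0,1], ![1,2,1], ![1,0,0]]),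
  (![![0,2,2], ![1,2,0], ![0,0,1]], ![![0,0,1], ![0,1,0], ![1,0,1]], ![![2,0,1], ![0,1,0], ![1,0,0]], ![![0,0,1], ![2,2,2], ![1,2,2]], ![![0,1,2], ![2,1,1], ![1,0,0]]),
  (![![0,2,2], ![1,2,2], ![0,0,1]], ![![0,0,1], ![0,1,0], ![1,1,1]], ![![2,2,1], ![0,1,0], ![1,0,0]], ![![0,0,1], ![2,0,2], ![1,1,1]], ![![2,2,0], ![0,1,1], ![1,0,0]])]

theorem wThreeThree_valid : ∀ w ∈ wThreeThree, w.2.1 * w.2.2.1 = 1 ∧ w.2.2.2.1 * w.2.2.2.2 = 1 ∧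
    w.1 = w.2.1 * cThreeThree * w.2.2.1 * (w.2.2.2.1 * cThreeThreeInv * w.2.2.2.2) := by decide +kernel

theorem cThreeThree_mul : cThreeThree * cThreeThreeInv = 1 := by decide +kernel

/-- The end block. -/
def cTwoThree : Matrix (Fin 3) (Fin 3) (ZMod 2) := ![![0,0,1], ![1,0,1], ![0,1,0]]

/-- Its inverse. -/
def cTwoThreeInv : Matrix (Fin 3) (Fin 3) (ZMod 2) := ![![1,1,0], ![0,0,1], ![1,0,0]]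

/-- Matrices with the two conjugators and their inverses. -/
def wTwoThree : List (Matrix (Fin 3) (Fin 3) (ZMod 2) × Matrix (Fin 3) (Fin 3) (ZMod 2) × Matrix (Fin 3) (Fin 3) (ZMod 2) × Matrix (Fin 3) (Fin 3) (ZMod 2) × Matrix (Fin 3) (Fin 3) (ZMod 2)) := [
  (![![0,0,1], ![1,0,0], ![0,1,0]], ![![0,0,1], ![0,1,1], ![1,1,0]], ![![1,1,1], ![1,1,0], ![1,0,0]], ![![0,0,1], ![1,1,0], ![0,1,1]], ![![1,1,1], ![1,0,1], ![1,0,0]]),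
  (![![0,0,1], ![1,0,0], ![0,1,1]], ![![0,0,1], ![0,1,0], ![1,0,0]], ![![0,0,1], ![0,1,0], ![1,0,0]], ![![0,0,1], ![1,1,1], ![0,1,1]], ![![0,1,1], ![1,0,1], ![1,0,0]]),
  (![![0,0,1], ![1,0,1], ![0,1,0]], ![![0,0,1], ![0,1,0], ![1,1,1]], ![![1,1,1], ![0,1,0], ![1,0,0]], ![![0,0,1], ![1,0,1], ![0,1,0]], ![![1,1,0], ![0,0,1], ![1,0,0]]),
  (![![0,0,1], ![1,0,1], ![0,1,1]], ![![0,0,1], ![0,1,0], ![1,0,1]], ![![1,0,1], ![0,1,0], ![1,0,0]], ![![0,0,1], ![1,0,0], ![1,1,0]], ![![0,1,0], ![0,1,1], ![1,0,0]]),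
  (![![0,1,0], ![1,0,1], ![0,0,1]], ![![0,0,1], ![0,1,1], ![1,0,0]], ![![0,0,1], ![1,1,0], ![1,0,0]], ![![0,0,1], ![1,1,1], ![1,0,0]], ![![0,0,1], ![1,1,1], ![1,0,0]]),
  (![![0,1,1], ![1,0,0], ![0,0,1]], ![![0,0,1], ![0,1,0], ![1,0,1]], ![![1,0,1], ![0,1,0], ![1,0,0]], ![![0,0,1], ![1,0,0], ![0,1,0]], ![![0,1,0], ![0,0,1], ![1,0,0]]),
  (![![0,1,0], ![1,1,0], ![0,0,1]], ![![0,0,1], ![0,1,1], ![1,1,0]], ![![1,1,1], ![1,1,0], ![1,0,0]], ![![0,0,1], ![1,1,1], ![1,0,1]], ![![1,0,1], ![0,1,1], ![1,0,0]]),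
  (![![0,1,0], ![1,1,1], ![0,0,1]], ![![0,0,1], ![1,1,0], ![0,1,0]], ![![0,1,1], ![0,0,1], ![1,0,0]], ![![0,0,1], ![1,0,1], ![0,1,1]], ![![1,1,0], ![1,0,1], ![1,0,0]]),
  (![![0,1,1], ![1,1,0], ![0,0,1]], ![![0,0,1], ![0,1,1], ![1,0,1]], ![![1,0,1], ![1,1,0], ![1,0,0]], ![![0,0,1], ![1,0,0], ![1,1,0]], ![![0,1,0], ![0,1,1], ![1,0,0]]),
  (![![0,1,1], ![1,1,1], ![0,0,1]], ![![0,0,1], ![0,1,0], ![1,0,0]], ![![0,0,1], ![0,1,0], ![1,0,0]], ![![0,0,1], ![1,1,1], ![1,0,0]], ![![0,0,1], ![1,1,1], ![1,0,0]])]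

theorem wTwoThree_valid : ∀ w ∈ wTwoThree, w.2.1 * w.2.2.1 = 1 ∧ w.2.2.2.1 * w.2.2.2.2 = 1 ∧
    w.1 = w.2.1 * cTwoThree * w.2.2.1 * (w.2.2.2.1 * cTwoThreeInv * w.2.2.2.2) := by decide +kernel

theorem cTwoThree_mul : cTwoThree * cTwoThreeInv = 1 := by decide +kernel

/-- The end block. -/
def cTwoFour : Matrix (Fin 4) (Fin 4) (ZMod 2) := ![![0,0,0,1], ![1,0,0,1], ![0,1,0,0], ![0,0,1,0]]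

/-- Its inverse. -/
def cTwoFourInv : Matrix (Fin 4) (Fin 4) (ZMod 2) := ![![1,1,0,0], ![0,0,1,0], ![0,0,0,1], ![1,0,0,0]]

/-- Matrices with the two conjugators and their inverses. -/
def wTwoFour : List (Matrix (Fin 4) (Fin 4) (ZMod 2) × Matrix (Fin 4) (Fin 4) (ZMod 2) × Matrix (Fin 4) (Fin 4) (ZMod 2) × Matrix (Fin 4) (Fin 4) (ZMod 2) × Matrix (Fin 4) (Fin 4) (ZMod 2)) := [
  (![![1,0,0,0], ![0,1,0,0], ![1,0,1,0], ![0,1,0,1]], ![![0,0,0,1], ![0,0,1,0], ![0,1,0,0], ![1,0,0,0]], ![![0,0,0,1], ![0,0,1,0], ![0,1,0,0], ![1,0,0,0]], ![![0,0,0,1], ![0,0,1,0], ![0,1,0,0], ![1,0,1,0]], ![![0,1,0,1], ![0,0,1,0], ![0,1,0,0], ![1,0,0,0]]),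
  (![![1,0,0,0], ![1,1,0,0], ![0,1,1,0], ![0,0,0,1]], ![![0,0,0,1], ![0,0,1,0], ![0,1,0,0], ![1,0,0,0]], ![![0,0,0,1], ![0,0,1,0], ![0,1,0,0], ![1,0,0,0]], ![![0,0,0,1], ![0,0,1,0], ![0,1,1,0], ![1,0,0,0]], ![![0,0,0,1], ![0,1,1,0], ![0,1,0,0], ![1,0,0,0]]),
  (![![1,1,0,0], ![1,0,0,0], ![0,0,1,0], ![0,0,0,1]], ![![0,0,0,1], ![0,0,1,0], ![0,1,0,1], ![1,0,1,1]], ![![1,1,0,1], ![1,0,1,0], ![0,1,0,0], ![1,0,0,0]], ![![0,0,0,1], ![1,1,1,0], ![0,0,1,1], ![0,1,1,0]], ![![0,1,0,1], ![1,0,1,1], ![1,0,1,0], ![1,0,0,0]])]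

theorem wTwoFour_valid : ∀ w ∈ wTwoFour, w.2.1 * w.2.2.1 = 1 ∧ w.2.2.2.1 * w.2.2.2.2 = 1 ∧
    w.1 = w.2.1 * cTwoFour * w.2.2.1 * (w.2.2.2.1 * cTwoFourInv * w.2.2.2.2) := by decide +kernel

theorem cTwoFour_mul : cTwoFour * cTwoFourInv = 1 := by decide +kernel

theorem wThreeThree_cyclic : ∀ f g : ZMod 3, ∃ w ∈ wThreeThree, w.1 = !![0, 0, 1; 1, 0, f; 0, 1, g] := by decide +kernel

theorem wThreeThree_split : ∀ a b e f g : ZMod 3, -(a * g) = 1 → ¬ (a + b = 1 ∧ e + f = 0 ∧ g = 1) →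
    ∃ w ∈ wThreeThree, w.1 = !![0, a, e; 1, b, f; 0, 0, g] := by decide +kernel

theorem wTwoThree_cyclic : ∀ f g : ZMod 2, ∃ w ∈ wTwoThree, w.1 = !![0, 0, 1; 1, 0, f; 0, 1, g] := by decide +kernel

theorem wTwoThree_split : ∀ a b e f g : ZMod 2, -(a * g) = 1 → ¬ (a + b = 1 ∧ e + f = 0 ∧ g = 1) →
    ∃ w ∈ wTwoThree, w.1 = !![0, a, e; 1, b, f; 0, 0, g] := by decide +kernel

theorem wTwoFour_square : ∃ w ∈ wTwoFour, w.1 = !![1, 0, 0, 0; 0, 1, 0, 0; 1, 0, 1, 0; 0, 1, 0, 1] := by decide +kernel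

theorem wTwoFour_chain : ∃ w ∈ wTwoFour, w.1 = !![1, 0, 0, 0; 1, 1, 0, 0; 0, 1, 1, 0; 0, 0, 0, 1] := by decide +kernel

theorem wTwoFour_split : ∃ w ∈ wTwoFour, w.1 = !![1, 1, 0, 0; 1, 0, 0, 0; 0, 0, 1, 0; 0, 0, 0, 1] := by decide +kernel

end Cfsg.Lib.Classical.SLComm
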