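import Mathlib
import Cfsg.Agent.Classical.Linear.RankOne

/-! A group containing all monomial matrices and one further element contains root elements. -/

set_option autoImplicit false
set_option linter.unusedSimpArgs false
set_option linter.unusedSectionVars false
set_option linter.flexible false

namespace Cfsg.Lib.Classical.MonoOver

open Matrix LinOne
open scoped MatrixGroups

universe u v

variable {κ : Type v} [Fintype κ] [DecidableEq κ] {F : Type u} [Field F]

/-- Monomial matrices. -/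
def Mono (g : Matrix κ κ F) : Prop := ∃ σ : Equiv.Perm κ, ∀ i j, i ≠ σ j → g i j = 0

/-- A non-trivial root element. -/
def Root (G : Subgroup (GL κ F)) : Prop :=
  ∃ (i j : κ) (c : F), i ≠ j ∧ c ≠ 0 ∧ One G (Pi.single i c) (Pi.single j 1)

theorem mono_diag_one (p : κ) (c : F) :
    Mono (1 + vecMulVec (Pi.single p 1 : κ → F) (c • Pi.single p 1)) := ⟨1, fun i j h => by
  rw [Equiv.Perm.one_apply] at h
  by_cases hi : i = p
  · subst hi; simp [vecMulVec_apply, h, Ne.symm h]
  · simp [vecMulVec_apply, hi, h]⟩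

theorem exists_big_column {g : GL κ F} (hg : ¬ Mono (g : Matrix κ κ F)) :
    ∃ b p r : κ, p ≠ r ∧ (g : Matrix κ κ F) p b ≠ 0 ∧ (g : Matrix κ κ F) r b ≠ 0 := by
  by_contra hc
  push Not at hc
  have hcol : ∀ b, ∃ a, (g : Matrix κ κ F) a b ≠ 0 := fun b => by
    by_contra h
    push Not at h
    exact GL_ne_zero_mulVec g (x := Pi.single b 1) (by simp) (funext fun a => by simpa using h a)
  choose σ hσ using hcol
  have hu : ∀ i j, i ≠ σ j → (g : Matrix κ κ F) i j = 0 := fun i j h => hc j (σ j) i (Ne.symm h) (hσ j)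
  have hsurj : Function.Surjective σ := fun i => by
    by_contra h
    push Not at h
    exact GL_ne_zero_vecMul g (x := Pi.single i 1) (by simp) (funext fun b => by simpa using hu i b (Ne.symm (h b)))
  exact hg ⟨Equiv.ofBijective σ (Finite.surjective_iff_bijective.mp hsurj), hu⟩

theorem exists_avoid [Fintype F] (hq : 4 ≤ Fintype.card F) (a b c : F) : ∃ d : F, d ≠ a ∧ d ≠ b ∧ d ≠ c := by
  classical
  by_contra h
  push Not at h
  have hsub : (Finset.univ : Finset F) ⊆ {a, b, c} := fun d _ => by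
    simp only [Finset.mem_insert, Finset.mem_singleton]
    by_contra hn
    push Not at hn
    exact hn.2.2 (h d hn.1 hn.2.1)
  have := (Finset.card_le_card hsub).trans Finset.card_le_three
  rw [Finset.card_univ] at this
  omega

theorem exceptional_five : ∀ a : ZMod 5, a ≠ 0 → (∀ c : ZMod 5, c = 0 ∨ c = -1 ∨ 1 + c * a = 0 ∨ a * (c * c) + c + 1 = 0) →
    2 * a = 1 := by decide

theorem exceptional [Fintype F] (hq : 5 ≤ Fintype.card F) {a : F} (ha : a ≠ 0)
    (h : ∀ c : F, c = 0 ∨ c = -1 ∨ 1 + c * a = 0 ∨ a * (c * c) + c + 1 = 0) : 2 * a = 1 := by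
  classical
  rcases eq_or_lt_of_le hq with h5 | h6
  · haveI : Fact (Nat.Prime 5) := ⟨by norm_num⟩
    let e : ZMod 5 ≃+* F := ZMod.ringEquivOfPrime F (by norm_num) h5.symm
    obtain ⟨b, rfl⟩ := e.surjective a
    have := exceptional_five b (fun e0 => ha (by rw [e0, map_zero])) fun c => by
      rcases h (e c) with h1 | h1 | h1 | h1
      · exact Or.inl (e.injective (by rw [h1, map_zero]))
      · exact Or.inr (Or.inl (e.injective (by rw [h1, map_neg, map_one])))
      · exact Or.inr (Or.inr (Or.inl (e.injective (by rw [map_add, map_mul, map_one, h1, map_zero]))))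
      · exact Or.inr (Or.inr (Or.inr (e.injective (by simp only [map_add, map_mul, map_one, h1, map_zero]))))
    have := congrArg e this
    rwa [map_mul, map_ofNat, map_one] at this
  · exfalso
    obtain ⟨c, hc⟩ : ∃ S : Finset F, S = {0, -1, -a⁻¹} := ⟨_, rfl⟩
    have hcard : 2 < (Finset.univ \ c).card := by
      rw [Finset.card_sdiff_of_subset (Finset.subset_univ _), Finset.card_univ]
      have := hc ▸ (Finset.card_le_three : ({0, -1, -a⁻¹} : Finset F).card ≤ 3)
      omega
    obtain ⟨x, y, z, hx, hy, hz, hxy, hxz, hyz⟩ := Finset.two_lt_card_iff.mp hcard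
    have root : ∀ x ∈ Finset.univ \ c, a * (x * x) + x + 1 = 0 := fun x hx => by
      simp only [hc, Finset.mem_sdiff, Finset.mem_insert, Finset.mem_singleton, not_or] at hx
      rcases h x with h1 | h1 | h1 | h1
      · exact absurd h1 hx.2.1
      · exact absurd h1 hx.2.2.1
      · exact absurd (by field_simp; linear_combination h1) hx.2.2.2
      · exact h1
    have rx := root x hx
    have e1 : a * (x + y) + 1 = 0 :=
      (mul_eq_zero.mp (show (x - y) * (a * (x + y) + 1) = 0 by linear_combination rx - root y hy)).resolve_left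
        (sub_ne_zero.mpr hxy)
    have e2 : a * (x + z) + 1 = 0 :=
      (mul_eq_zero.mp (show (x - z) * (a * (x + z) + 1) = 0 by linear_combination rx - root z hz)).resolve_left
        (sub_ne_zero.mpr hxz)
    exact hyz (sub_eq_zero.mp ((mul_eq_zero.mp (show a * (y - z) = 0 by linear_combination e1 - e2)).resolve_left ha))

variable [Fintype F] {G : Subgroup (GL κ F)}

/-- Pseudo-reflections with a given centre and axis. -/
def Pseudo (G : Subgroup (GL κ F)) (x φ : κ → F) : Prop := φ ⬝ᵥ x = 1 ∧ ∀ c : F, c ≠ -1 → One G x (c • φ)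

theorem Pseudo.conj {x φ : κ → F} (h : Pseudo G x φ) {k : GL κ F} (hk : k ∈ G) :
    Pseudo G ((k : Matrix κ κ F) *ᵥ x) (φ ᵥ* ((k⁻¹ : GL κ F) : Matrix κ κ F)) :=
  ⟨by rw [dot_conj, h.1], fun c hc => by
    have := (h.2 c hc).conj hk
    rwa [smul_vecMul] at this⟩

theorem Pseudo.diffR {x φ φ' : κ → F} (h : Pseudo G x φ) (h' : Pseudo G x φ') {c : F} (hc : c ≠ -1) :
    One G x (c • (φ - φ')) := by
  have hc1 : 1 + c ≠ 0 := fun e => hc (eq_neg_of_add_eq_zero_right e)
  have hd : -(c / (1 + c)) ≠ -1 := fun e => by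
    field_simp at e
    exact one_ne_zero (show (1 : F) = 0 by linear_combination e)
  have h1 := (h.2 c hc).mulR (h'.2 _ hd)
  rw [smul_dotProduct, h.1, smul_eq_mul, mul_one, smul_smul, add_assoc, ← add_smul,
    show -(c / (1 + c)) + c * -(c / (1 + c)) = -c by field_simp; ring, neg_smul, ← sub_eq_add_neg, ← smul_sub] at h1
  exact h1

theorem Pseudo.diffL {x x' φ : κ → F} (h : Pseudo G x φ) (h' : Pseudo G x' φ) {c : F} (hc0 : c ≠ 0)
    (hc : c ≠ -1) : ∃ d : F, d ≠ 0 ∧ One G (d • (x' - x)) φ := by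
  have hc1 : 1 + c ≠ 0 := fun e => hc (eq_neg_of_add_eq_zero_right e)
  have hd : -(c / (1 + c)) ≠ -1 := fun e => by
    field_simp at e
    exact one_ne_zero (show (1 : F) = 0 by linear_combination e)
  refine ⟨-(c / (1 + c)), by simp [hc0, hc1], ?_⟩
  have h1 := (h.2 c hc).smul_right.mulL (h'.2 _ hd).smul_right
  rw [dotProduct_smul, h'.1, smul_eq_mul, mul_one, smul_smul, add_right_comm, ← add_smul,
    show c + -(c / (1 + c)) * c = -(-(c / (1 + c))) by field_simp; ring, neg_smul, neg_add_eq_sub, ← smul_sub] at h1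
  exact h1

section Main

variable (hmono : ∀ g : GL κ F, Mono (g : Matrix κ κ F) → g ∈ G) (hq : 5 ≤ Fintype.card F)
include hmono hq

theorem pseudo_single (p : κ) : Pseudo G (Pi.single p 1) (Pi.single p 1) :=
  ⟨by simp, fun c hc => ⟨mkGL (Pi.single p 1) (c • Pi.single p 1)
    (by simpa using fun e => hc (eq_neg_of_add_eq_zero_right e)), hmono _ (mono_diag_one p c), rfl⟩⟩

theorem pseudo_of_element {g : GL κ F} (hg : g ∈ G) (b : κ) :
    Pseudo G ((g : Matrix κ κ F) *ᵥ Pi.single b 1)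
      ((Pi.single b 1 : κ → F) ᵥ* ((g⁻¹ : GL κ F) : Matrix κ κ F)) := (pseudo_single hmono hq b).conj hg

/-- A diagonal element scaling one coordinate. -/
theorem exists_dilation (u : κ) : ∃ (c : F) (k : GL κ F), c ≠ 0 ∧ c ≠ -1 ∧ k ∈ G ∧
    (∀ x : κ → F, (k : Matrix κ κ F) *ᵥ x = x + (c * x u) • Pi.single u 1) ∧
    (∀ x : κ → F, x ᵥ* (k : Matrix κ κ F) = x + (c * x u) • Pi.single u 1) := by
  obtain ⟨c, hc0, hc1, -⟩ := exists_avoid (by omega : 4 ≤ Fintype.card F) 0 (-1) 0
  obtain ⟨k, hk, hkv⟩ := (pseudo_single hmono hq u).2 c hc1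
  refine ⟨c, k, hc0, hc1, hk, fun x => ?_, fun x => ?_⟩
  · rw [hkv, one_mulVec', smul_dotProduct, single_dotProduct, one_mul, smul_eq_mul]
  · rw [hkv, vecMul_one', dotProduct_single, mul_one, smul_smul, mul_comm]

theorem root_left {x : κ → F} {p : κ} {d : F} (h : One G x (Pi.single p d)) (hd : d ≠ 0) (hp : x p = 0)
    (hx : x ≠ 0) : Root G := by
  obtain ⟨u, hu⟩ := Function.ne_iff.mp hx
  have hup : u ≠ p := fun e => hu (by rw [e]; exact hp)
  obtain ⟨c, k, hc0, -, hk, hk1, hk2⟩ := exists_dilation hmono hq u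
  have h1 := h.conj hk
  rw [hk1, vecMul_inv_eq (φ := Pi.single p d) (by rw [hk2]; simp [hup])] at h1
  have h2 := h1.addL (h.negL (by simp [hp])) (by simp [hp])
  rw [add_neg_cancel_comm, ← Pi.single_smul, smul_eq_mul, mul_one] at h2
  refine ⟨u, p, c * x u * d, hup, mul_ne_zero (mul_ne_zero hc0 hu) hd, h2.congr ?_⟩
  ext a b
  simp only [vecMulVec_apply, Pi.single_apply]
  split_ifs <;> ring

theorem root_right {φ : κ → F} {p : κ} {d : F} (h : One G (Pi.single p d) φ) (hd : d ≠ 0) (hp : φ p = 0)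
    (hφ : φ ≠ 0) : Root G := by
  obtain ⟨u, hu⟩ := Function.ne_iff.mp hφ
  have hup : u ≠ p := fun e => hu (by rw [e]; exact hp)
  obtain ⟨c, k, hc0, -, hk, hk1, hk2⟩ := exists_dilation hmono hq u
  have h1 := h.conj (G.inv_mem hk)
  rw [inv_inv, hk2] at h1
  have e : (k : Matrix κ κ F) *ᵥ Pi.single p d = Pi.single p d := by rw [hk1]; simp [hup]
  have e' : ((k⁻¹ : GL κ F) : Matrix κ κ F) *ᵥ Pi.single p d = Pi.single p d := by
    conv_lhs => rw [← e]
    rw [mulVec_mulVec, ← Units.val_mul, inv_mul_cancel, Units.val_one, one_mulVec]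
  rw [e'] at h1
  have h2 := (h.neg (by simp [hp])).addR h1 (by simp [hp])
  rw [neg_add_cancel_left, ← Pi.single_smul, smul_eq_mul, mul_one] at h2
  refine ⟨p, u, d * (c * φ u), Ne.symm hup, mul_ne_zero hd (mul_ne_zero hc0 hu), h2.congr ?_⟩
  ext a b
  simp only [vecMulVec_apply, Pi.single_apply]
  split_ifs <;> ring

theorem root_mismatch {x φ : κ → F} (h : Pseudo G x φ) (p : κ) (hp : (x p = 0 ∧ φ p ≠ 0) ∨ (φ p = 0 ∧ x p ≠ 0)) :
    Root G := by
  have hx : x ≠ 0 := fun e => by simpa [e] using h.1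
  have hφ : φ ≠ 0 := fun e => by simpa [e] using h.1
  obtain ⟨c, k, hc0, hc1, hk, hk1, hk2⟩ := exists_dilation hmono hq p
  rcases hp with ⟨h0, h1⟩ | ⟨h0, h1⟩
  · have hkx : (k : Matrix κ κ F) *ᵥ x = x := by rw [hk1, h0, mul_zero, zero_smul, add_zero]
    have h' := h.conj (G.inv_mem hk)
    rw [inv_inv, hk2] at h'
    have e : ((k⁻¹ : GL κ F) : Matrix κ κ F) *ᵥ x = x := by
      conv_lhs => rw [← hkx]
      rw [mulVec_mulVec, ← Units.val_mul, inv_mul_cancel, Units.val_one, one_mulVec]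
    rw [e] at h'
    have h2 := h.diffR h' hc1
    rw [sub_add_cancel_left, smul_neg, smul_smul, ← neg_smul, ← Pi.single_smul, smul_eq_mul, mul_one] at h2
    exact root_left hmono hq h2 (by simp [hc0, h1]) h0 hx
  · have h' := h.conj hk
    rw [hk1, vecMul_inv_eq (φ := φ) (by rw [hk2, h0, mul_zero, zero_smul, add_zero])] at h'
    obtain ⟨d, hd, h2⟩ := h.diffL h' hc0 hc1
    rw [add_sub_cancel_left, smul_smul, ← Pi.single_smul, smul_eq_mul, mul_one] at h2
    exact root_right hmono hq h2 (by simp [hd, hc0, h1]) h0 hφ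

theorem root_unequal {x φ : κ → F} (h : Pseudo G x φ) {p r u : κ} (hur : u ≠ r) (hup : u ≠ p) (hx : x u ≠ 0)
    (hp : x p ≠ 0) (hr : x r ≠ 0) (hne : φ p * x p ≠ φ r * x r) : Root G := by
  have hpr : p ≠ r := fun e => hne (by rw [e])
  set v : κ → F := Pi.single r (x r) - Pi.single p (x p) with hv
  set ψ : κ → F := Pi.single p (x p)⁻¹ - Pi.single r (x r)⁻¹ with hψ
  have hψx : ψ ⬝ᵥ x = 0 := by simp [hψ, sub_dotProduct, hp, hr]
  have hψv : ψ ⬝ᵥ v = -2 := by
    simp [hψ, hv, sub_dotProduct, dotProduct_sub, hp, hr, hpr, Ne.symm hpr]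
    norm_num
  have hne1 : 1 + ψ ⬝ᵥ v ≠ 0 := by rw [hψv]; norm_num
  let k := mkGL v ψ hne1
  have hk : k ∈ G := hmono k ⟨Equiv.swap p r, fun i j hij => by
    rw [mkGL_val, Matrix.add_apply, vecMulVec_apply, one_apply]
    rcases eq_or_ne j p with rfl | hjp
    · rw [Equiv.swap_apply_left] at hij
      rcases eq_or_ne i j with rfl | hi
      · simp [hv, hψ, hpr, hp]
      · simp [hv, hψ, hi, hij]
    rcases eq_or_ne j r with rfl | hjr
    · rw [Equiv.swap_apply_right] at hij
      rcases eq_or_ne i j with rfl | hi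
      · simp [hv, hψ, Ne.symm hpr, hr]
      · simp [hv, hψ, hi, hij]
    · rw [Equiv.swap_apply_of_ne_of_ne hjp hjr] at hij
      simp [hψ, hij, hjp, hjr]⟩
  have h' := h.conj (G.inv_mem hk)
  have hkx : (k : Matrix κ κ F) *ᵥ x = x := by rw [mkGL_val, one_mulVec', hψx, zero_smul, add_zero]
  have e : ((k⁻¹ : GL κ F) : Matrix κ κ F) *ᵥ x = x := by
    conv_lhs => rw [← hkx]
    rw [mulVec_mulVec, ← Units.val_mul, inv_mul_cancel, Units.val_one, one_mulVec]
  rw [inv_inv, e, mkGL_val, vecMul_one'] at h'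
  obtain ⟨c, hc0, hc1, -⟩ := exists_avoid (by omega : 4 ≤ Fintype.card F) 0 (-1) 0
  have h2 := h.diffR h' hc1
  rw [sub_add_cancel_left, smul_neg, smul_smul, ← neg_smul] at h2
  set e0 := -(c * (φ ⬝ᵥ v))
  have he0 : e0 ≠ 0 := by
    simp only [e0, neg_ne_zero, hv, dotProduct_sub, dotProduct_single]
    exact mul_ne_zero hc0 (sub_ne_zero.mpr (Ne.symm hne))
  obtain ⟨d, g, hd, -, hg, hg1, hg2⟩ := exists_dilation hmono hq u
  have hu0 : ψ u = 0 := by simp [hψ, hup, hur]
  have h3 := h2.conj hg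
  rw [hg1, vecMul_inv_eq (φ := e0 • ψ) (by rw [hg2]; simp [hu0])] at h3
  have h4 := h3.addL (h2.negL (by simp [hψx])) (by simp [hψx])
  rw [add_neg_cancel_comm, ← Pi.single_smul, smul_eq_mul, mul_one] at h4
  refine root_right hmono hq h4 (mul_ne_zero hd hx) (by simp [hu0]) fun e' => ?_
  have := congrFun e' p
  simp [hψ, he0, hp, hpr] at this

theorem pseudo_new {x φ : κ → F} (h : Pseudo G x φ) {c : F} (hc : c ≠ -1) {y η : κ → F} (h' : Pseudo G y η) :
    Pseudo G (y + (c * (φ ⬝ᵥ y)) • x) (η + (-(c / (1 + c)) * (η ⬝ᵥ x)) • φ) := by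
  have hc1 : 1 + c ≠ 0 := fun e => hc (eq_neg_of_add_eq_zero_right e)
  obtain ⟨k, hk, hkv⟩ := h.2 c hc
  have hinv : ((k⁻¹ : GL κ F) : Matrix κ κ F) = 1 + vecMulVec x (-(c / (1 + c)) • φ) := by
    rw [Matrix.coe_units_inv, hkv]
    refine Matrix.inv_eq_right_inv ?_
    rw [one_mul_one, smul_dotProduct, h.1, smul_eq_mul, mul_one, vecMulVec_smul, vecMulVec_smul, smul_vecMulVec,
      vecMulVec_smul, smul_smul, add_assoc, add_assoc, ← add_smul, ← add_smul,
      show c + (-(c / (1 + c)) + c * -(c / (1 + c))) = 0 by field_simp; ring, zero_smul, add_zero]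
  have := h'.conj hk
  rwa [hkv, hinv, one_mulVec', vecMul_one', smul_dotProduct, smul_eq_mul, smul_smul, mul_comm (η ⬝ᵥ x)] at this

theorem root_equal {x φ : κ → F} (h : Pseudo G x φ) {a : F} (ha : a ≠ 0) (hsupp : ∀ u, x u ≠ 0 → φ u * x u = a)
    {p r w : κ} (hpr : p ≠ r) (hpw : p ≠ w) (hrw : r ≠ w) (hp : x p ≠ 0) (hr : x r ≠ 0) (hw : x w ≠ 0)
    (h2a : 2 * a ≠ 1) : Root G := by
  classical
  obtain ⟨c, hc0, hc1, hca, hcq⟩ : ∃ c : F, c ≠ 0 ∧ c ≠ -1 ∧ 1 + c * a ≠ 0 ∧ a * (c * c) + c + 1 ≠ 0 := by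
    by_contra hc
    push Not at hc
    exact h2a (exceptional hq ha fun c => by
      rcases eq_or_ne c 0 with h0 | h0; · exact Or.inl h0
      rcases eq_or_ne c (-1) with h1 | h1; · exact Or.inr (Or.inl h1)
      rcases eq_or_ne (1 + c * a) 0 with h2 | h2; · exact Or.inr (Or.inr (Or.inl h2))
      exact Or.inr (Or.inr (Or.inr (hc c h0 h1 h2))))
  have h1c : 1 + c ≠ 0 := fun e => hc1 (eq_neg_of_add_eq_zero_right e)
  have hd0 : -(c / (1 + c)) ≠ 0 := by simp [hc0, h1c]
  have hQ := pseudo_new hmono hq h hc1 (pseudo_single hmono hq p)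
  rw [dotProduct_single, mul_one, single_dotProduct, one_mul] at hQ
  set d := -(c / (1 + c)) with hd
  set y : κ → F := (Pi.single p 1 : κ → F) + (c * φ p) • x with hy
  set η : κ → F := (Pi.single p 1 : κ → F) + (d * x p) • φ with hη
  have hap := hsupp p hp
  have hyp : y p = 1 + c * a := by simp [hy, ← hap]; ring
  have hηp : η p = 1 + d * a := by simp [hη, ← hap]; ring
  by_cases hda : 1 + d * a = 0
  · exact root_mismatch hmono hq hQ p (Or.inr ⟨hηp.trans hda, by rw [hyp]; exact hca⟩)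
  have hother : ∀ b, b ≠ p → y b = c * φ p * x b ∧ η b = d * x p * φ b := fun b hb => by simp [hy, hη, hb]
  have hφp : φ p ≠ 0 := fun e => ha (by rw [← hap, e, zero_mul])
  have hval : ∀ b, b ≠ p → x b ≠ 0 → η b * y b = c * d * a * a := fun b hb hxb => by
    rw [(hother b hb).1, (hother b hb).2]
    linear_combination (c * d * a) * hsupp b hxb + (c * d * φ b * x b) * hap
  have hys : ∀ b, (y b ≠ 0 ↔ x b ≠ 0) := fun b => by
    rcases eq_or_ne b p with rfl | hb
    · exact iff_of_true (by rw [hyp]; exact hca) hp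
    · rw [(hother b hb).1]; simp [hc0, hφp]
  have hne : c * d * a * a ≠ a := fun e => hcq (by
    have e' : c * d * a = 1 := mul_right_cancel₀ ha (by rw [one_mul]; exact e)
    rw [hd] at e'
    field_simp at e'
    linear_combination -e')
  by_cases hpe : η p * y p = c * d * a * a
  · exfalso
    refine hne ?_
    have hall : ∀ b, η b * y b = (if x b ≠ 0 then c * d * a * a else 0) := fun b => by
      split_ifs with hb
      · rcases eq_or_ne b p with rfl | hbp
        · exact hpe
        · exact hval b hbp hb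
      · rw [show y b = 0 from by_contra fun e => hb ((hys b).mp e), mul_zero]
    have hall' : ∀ b, φ b * x b = (if x b ≠ 0 then a else 0) := fun b => by
      split_ifs with hb
      · exact hsupp b hb
      · rw [not_not.mp hb, mul_zero]
    have s1 := hQ.1
    have s2 := h.1
    simp only [dotProduct, hall, hall', Finset.sum_ite, Finset.sum_const_zero, add_zero, Finset.sum_const,
      nsmul_eq_mul] at s1 s2
    have hcard : ((Finset.univ.filter fun b => x b ≠ 0).card : F) ≠ 0 := fun e => by simp [e] at s2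
    exact mul_left_cancel₀ hcard (s1.trans s2.symm)
  · exact root_unequal hmono hq hQ (u := w) (p := p) (r := r) hrw.symm hpw.symm ((hys w).mpr hw) ((hys p).mpr hp)
      ((hys r).mpr hr) (by rw [hval r hpr.symm hr]; exact hpe)

theorem root_three {x φ : κ → F} (h : Pseudo G x φ) {p r w : κ} (hpr : p ≠ r) (hpw : p ≠ w) (hrw : r ≠ w)
    (hp : x p ≠ 0) (hr : x r ≠ 0) (hw : x w ≠ 0) : Root G := by
  classical
  by_contra hR
  have hφ : ∀ b, φ b = 0 ↔ x b = 0 := fun b =>
    ⟨fun e => by_contra fun e' => hR (root_mismatch hmono hq h b (Or.inr ⟨e, e'⟩)),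
      fun e => by_contra fun e' => hR (root_mismatch hmono hq h b (Or.inl ⟨e, e'⟩))⟩
  set a := φ p * x p
  have ha : a ≠ 0 := mul_ne_zero (fun e => hp ((hφ p).mp e)) hp
  have hsupp : ∀ u, x u ≠ 0 → φ u * x u = a := fun u hu => by
    by_contra hne
    rcases eq_or_ne u r with rfl | hur
    · exact hR (root_unequal hmono hq h (u := w) hpw.symm hrw.symm hw hu hp hne)
    · exact hR (root_unequal hmono hq h (u := r) hpr.symm (Ne.symm hur) hr hu hp hne)
  by_cases h2a : 2 * a = 1
  · have h20 : (2 : F) ≠ 0 := fun e => by simp [e] at h2a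
    have hc1 : (-2 : F) ≠ -1 := fun e => one_ne_zero (show (1 : F) = 0 by linear_combination -e)
    have hQ := pseudo_new hmono hq h hc1 (pseudo_single hmono hq p)
    rw [dotProduct_single, mul_one, single_dotProduct, one_mul,
      show -((-2 : F) / (1 + -2)) = -2 by norm_num] at hQ
    -- a fourth point of the support
    obtain ⟨s, hs, hsp, hsr, hsw⟩ : ∃ s, x s ≠ 0 ∧ s ≠ p ∧ s ≠ r ∧ s ≠ w := by
      by_contra hc
      push Not at hc
      have s2 := h.1
      have hsum : φ ⬝ᵥ x = ∑ b ∈ ({p, r, w} : Finset κ), φ b * x b := by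
        refine (Finset.sum_subset (Finset.subset_univ _) fun b _ hb => ?_).symm
        simp only [Finset.mem_insert, Finset.mem_singleton, not_or] at hb
        rw [show x b = 0 from by_contra fun e => hb.2.2 (hc b e hb.1 hb.2.1), mul_zero]
      rw [hsum, Finset.sum_insert (by simp [hpr, hpw]), Finset.sum_insert (by simp [hrw]), Finset.sum_singleton,
        hsupp p hp, hsupp r hr, hsupp w hw] at s2
      exact one_ne_zero (show (1 : F) = 0 by linear_combination (2 : F) * s2 - 3 * h2a)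
    have hφp : φ p ≠ 0 := fun e => hp ((hφ p).mp e)
    refine hR (root_equal hmono hq hQ (a := 1) one_ne_zero (fun b hb => ?_) hrw (Ne.symm hsr) (Ne.symm hsw) ?_ ?_ ?_
      (fun e => one_ne_zero (show (1 : F) = 0 by linear_combination e)))
    · rcases eq_or_ne b p with rfl | hbp
      · exfalso
        simp only [Pi.add_apply, Pi.single_eq_same, Pi.smul_apply, smul_eq_mul] at hb
        exact hb (show (1 : F) + -2 * φ b * x b = 0 by linear_combination -h2a)
      · simp only [Pi.add_apply, Pi.single_eq_of_ne hbp, Pi.smul_apply, smul_eq_mul, zero_add] at hb ⊢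
        have hxb : x b ≠ 0 := fun e => hb (by rw [e, mul_zero])
        linear_combination (4 * a) * hsupp b hxb + (2 * a + 1) * h2a
    all_goals simp [hpr.symm, hpw.symm, hsp, hφp, h20, hr, hw, hs]
  · exact hR (root_equal hmono hq h ha hsupp hpr hpw hrw hp hr hw h2a)

/-- An overgroup of the monomial group, bigger than it, contains a root element. -/
theorem exists_root (h3 : 3 ≤ Fintype.card κ) {g : GL κ F} (hg : g ∈ G) (hgm : ¬ Mono (g : Matrix κ κ F)) :
    Root G := by
  classical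
  obtain ⟨b, p, r, hpr, hp, hr⟩ := exists_big_column hgm
  have h := pseudo_of_element hmono hq hg b
  set x := (g : Matrix κ κ F) *ᵥ Pi.single b 1 with hx
  set φ := (Pi.single b 1 : κ → F) ᵥ* ((g⁻¹ : GL κ F) : Matrix κ κ F)
  have hxp : x p ≠ 0 := by simpa [hx] using hp
  have hxr : x r ≠ 0 := by simpa [hx] using hr
  by_contra hR
  have hφ : ∀ b, φ b = 0 ↔ x b = 0 := fun b =>
    ⟨fun e => by_contra fun e' => hR (root_mismatch hmono hq h b (Or.inr ⟨e, e'⟩)),
      fun e => by_contra fun e' => hR (root_mismatch hmono hq h b (Or.inl ⟨e, e'⟩))⟩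
  obtain ⟨w, hwp, hwr⟩ : ∃ w, w ≠ p ∧ w ≠ r := by
    by_contra hc
    push Not at hc
    have hsub : (Finset.univ : Finset κ) ⊆ {p, r} := fun w _ => by
      simp only [Finset.mem_insert, Finset.mem_singleton]
      exact (eq_or_ne w p).imp id (hc w)
    have := (Finset.card_le_card hsub).trans Finset.card_le_two
    rw [Finset.card_univ] at this
    omega
  by_cases hw : x w ≠ 0
  · exact hR (root_three hmono hq h hpr (Ne.symm hwp) (Ne.symm hwr) hxp hxr hw)
  rw [not_not] at hw
  -- move the second point outside the support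
  let π := Equiv.swap r w
  let P : Matrix κ κ F := fun i j => if i = π j then 1 else 0
  have hPP : P * P = 1 := by
    ext i j
    rw [mul_apply, Finset.sum_eq_single (π i)]
    · simp [P, π, one_apply]
    · intro c _ hc
      have : i ≠ π c := fun e => hc (by rw [e]; simp [π])
      simp [P, this]
    · simp
  let k : GL κ F := ⟨P, P, hPP, hPP⟩
  have hk : k ∈ G := hmono k ⟨π, fun i j hij => if_neg hij⟩
  have h' := h.conj hk
  have hkx : ∀ i, ((k : Matrix κ κ F) *ᵥ x) i = x (π i) := fun i => by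
    show (P *ᵥ x) i = _
    have hj : ∀ j, i = π j ↔ j = π i := fun j => by
      constructor <;> rintro rfl <;> simp [π]
    simp [P, mulVec, dotProduct, hj]
  set x' := (k : Matrix κ κ F) *ᵥ x
  have e1 : x' p = x p := by rw [hkx]; simp [π, Equiv.swap_apply_of_ne_of_ne hpr (Ne.symm hwp)]
  have e2 : x' r = 0 := by rw [hkx]; simp [π, hw]
  have e3 : x' w = x r := by rw [hkx]; simp [π]
  set a := φ p * x p with hadef
  have ha : a ≠ 0 := mul_ne_zero (fun e => hxp ((hφ p).mp e)) hxp
  by_cases hs : ∃ s, s ≠ p ∧ s ≠ r ∧ x s ≠ 0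
  · obtain ⟨s, hsp, hsr, hs⟩ := hs
    exact hR (root_three hmono hq h hpr hsp.symm hsr.symm hxp hxr hs)
  push Not at hs
  have hφx' : φ ⬝ᵥ x' = a := by
    rw [dotProduct, Finset.sum_eq_single p, e1]
    · intro b _ hb
      rcases eq_or_ne b r with rfl | hbr
      · rw [e2, mul_zero]
      · rw [(hφ b).mpr (hs b hb hbr), zero_mul]
    · simp
  obtain ⟨c, hc0, hc1, hca⟩ := exists_avoid (by omega : 4 ≤ Fintype.card F) 0 (-1) (-a⁻¹)
  have hQ := pseudo_new hmono hq h hc1 h'
  rw [hφx'] at hQ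
  refine hR (root_three hmono hq hQ hpr (Ne.symm hwp) (Ne.symm hwr) ?_ ?_ ?_)
  · simp only [Pi.add_apply, Pi.smul_apply, smul_eq_mul, e1]
    rw [show x p + c * a * x p = (1 + c * a) * x p by ring]
    refine mul_ne_zero (fun e => hca ?_) hxp
    field_simp
    linear_combination e
  · simp [e2, hc0, ha, hxr]
  · simp [e3, hw, hxr]

end Main

end Cfsg.Lib.Classical.MonoOver
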