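import Mathlib
import Cfsg.Agent.Classical.Linear.MonoRoots

/-! Overgroups of the monomial group inside the special linear group. -/

set_option autoImplicit false
set_option linter.unusedSimpArgs false
set_option linter.unusedSectionVars false
set_option linter.style.haveILetI false
set_option linter.flexible false

namespace Cfsg.Lib.Classical.MonoOver

open Matrix LinOne
open scoped MatrixGroups

universe u

variable {κ : Type} [Fintype κ] [DecidableEq κ] {F : Type u} [Field F]

/-- The hypotheses on an overgroup. -/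
structure Over (K : Subgroup (GL κ F)) : Prop where
  det : ∀ g ∈ K, (g : Matrix κ κ F).det = 1
  fix : ∀ g : GL κ F, (g : Matrix κ κ F).det = 1 → Mono (g : Matrix κ κ F) → g ∈ K
  big : 4 ≤ Fintype.card κ

theorem mulVec_col (g : Matrix κ κ F) {s : κ} (h : ∀ i, i ≠ s → g i s = 0) :
    g *ᵥ Pi.single s 1 = Pi.single s (g s s) := by
  funext i
  rcases eq_or_ne i s with rfl | hi
  · simp
  · simp [hi, h i hi]

theorem inv_col (g : GL κ F) {s t : κ} (h : ∀ i, i ≠ t → (g : Matrix κ κ F) i s = 0) :
    ∀ i, i ≠ s → ((g⁻¹ : GL κ F) : Matrix κ κ F) i t = 0 := by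
  intro i hi
  have hc : (g : Matrix κ κ F) *ᵥ Pi.single s 1 = Pi.single t ((g : Matrix κ κ F) t s) := by
    funext j
    rcases eq_or_ne j t with rfl | hj
    · simp
    · simp [hj, h j hj]
  have hts : (g : Matrix κ κ F) t s ≠ 0 := fun e => GL_ne_zero_mulVec g (x := Pi.single s 1) (by simp)
    (by rw [hc, e, Pi.single_zero])
  have := congrFun (congrArg (((g⁻¹ : GL κ F) : Matrix κ κ F) *ᵥ ·) hc) i
  simp only [mulVec_mulVec, ← Units.val_mul, inv_mul_cancel, Units.val_one, one_mulVec] at this
  rw [mulVec_single, Pi.single_eq_of_ne hi] at this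
  simpa [hts] using this.symm

theorem mono_inv_transpose (g : GL κ F) (h : Mono (g : Matrix κ κ F)) :
    Mono ((g⁻¹ : GL κ F) : Matrix κ κ F)ᵀ := by
  obtain ⟨σ, hσ⟩ := h
  refine ⟨σ, fun a b hab => ?_⟩
  rw [transpose_apply]
  have := inv_col g (s := σ.symm a) (t := a) (fun i hi => hσ i _ (by simpa using hi)) b
    (fun e => hab (by rw [e]; simp))
  exact this

/-- Inverse transpose. -/
noncomputable def invT : GL κ F →* GL κ F where
  toFun g := ⟨((g⁻¹ : GL κ F) : Matrix κ κ F)ᵀ, (g : Matrix κ κ F)ᵀ,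
    by rw [← transpose_mul, ← Units.val_mul, mul_inv_cancel, Units.val_one, transpose_one],
    by rw [← transpose_mul, ← Units.val_mul, inv_mul_cancel, Units.val_one, transpose_one]⟩
  map_one' := Units.ext (by simp)
  map_mul' g h := Units.ext (by
    show (((g * h)⁻¹ : GL κ F) : Matrix κ κ F)ᵀ = _ * _
    rw [_root_.mul_inv_rev, Units.val_mul, transpose_mul])

theorem invT_val (g : GL κ F) : (invT g : Matrix κ κ F) = ((g⁻¹ : GL κ F) : Matrix κ κ F)ᵀ := rfl

variable {K : Subgroup (GL κ F)}

theorem Over.dual (T : Over K) : Over (K.comap invT) where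
  big := T.big
  det g hg := by
    have h := T.det _ hg
    rw [invT_val, det_transpose] at h
    have h2 : ((g⁻¹ : GL κ F) : Matrix κ κ F).det * (g : Matrix κ κ F).det = 1 := by
      rw [← det_mul, ← Units.val_mul, inv_mul_cancel, Units.val_one, det_one]
    rwa [h, one_mul] at h2
  fix g hd hm := T.fix (invT g) (by
    have h2 : ((g⁻¹ : GL κ F) : Matrix κ κ F).det * (g : Matrix κ κ F).det = 1 := by
      rw [← det_mul, ← Units.val_mul, inv_mul_cancel, Units.val_one, det_one]
    rw [invT_val, det_transpose]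
    rwa [hd, mul_one] at h2) (by rw [invT_val]; exact mono_inv_transpose g hm)

theorem root_of_dual (h : Root (K.comap invT)) : Root K := by
  obtain ⟨i, j, c, hij, hc, g, hg, hgv⟩ := h
  refine ⟨j, i, c, Ne.symm hij, hc, (invT g)⁻¹, K.inv_mem hg, ?_⟩
  rw [← map_inv, invT_val, inv_inv, hgv, transpose_add, transpose_one]
  congr 1
  ext a b
  simp only [transpose_apply, vecMulVec_apply, Pi.single_apply]
  split_ifs <;> ring

/-- The diagonal element scaling two coordinates inversely. -/
noncomputable def pairDiag (p r : κ) (lam : F) : κ → F := fun i => if i = p then lam else if i = r then lam⁻¹ else 1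

theorem prod_pairDiag {p r : κ} (hpr : p ≠ r) {lam : F} (hl : lam ≠ 0) : ∏ i, pairDiag p r lam i = 1 := by
  rw [Finset.prod_eq_mul p r hpr (fun c _ hc => by simp [pairDiag, hc.1, hc.2]) (by simp) (by simp)]
  simp [pairDiag, hpr.symm, hl]

theorem Over.diag (T : Over K) (d : κ → F) (hd : ∏ i, d i = 1) :
    ∃ h ∈ K, (h : Matrix κ κ F) = diagonal d := by
  have hdet : (diagonal d).det = 1 := by rw [det_diagonal, hd]
  refine ⟨Matrix.GeneralLinearGroup.mkOfDetNeZero (diagonal d) (by rw [hdet]; exact one_ne_zero),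
    T.fix _ hdet ⟨1, fun i j hij => diagonal_apply_ne _ ?_⟩, rfl⟩
  simpa using hij

theorem Over.exists_perm (T : Over K) (τ : Equiv.Perm κ) :
    ∃ h ∈ K, ∀ j, ∃ e : F, e ≠ 0 ∧ (h : Matrix κ κ F) *ᵥ Pi.single j 1 = Pi.single (τ j) e ∧
      ∀ i, i ≠ τ j → (h : Matrix κ κ F) i j = 0 := by
  haveI : Nonempty κ := Fintype.card_pos_iff.mp (by have := T.big; omega)
  let a₀ : κ := Classical.arbitrary κ
  let ε : κ → F := fun j => if j = a₀ then ((Equiv.Perm.sign τ : ℤ) : F) else 1
  let A : Matrix κ κ F := fun i j => if i = τ j then ε j else 0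
  have hA : A = τ⁻¹.permMatrix F * diagonal ε := by
    ext i j
    have : (j = τ.symm i) ↔ i = τ j := by constructor <;> rintro rfl <;> simp
    simp [A, mul_diagonal, PEquiv.toMatrix_apply, Equiv.Perm.permMatrix, this, eq_comm]
  have hdet : A.det = 1 := by
    rw [hA, det_mul, det_permutation, det_diagonal, Finset.prod_ite_eq' Finset.univ a₀]
    rw [if_pos (Finset.mem_univ _), Equiv.Perm.sign_inv, ← Int.cast_mul]
    simp [← Units.val_mul, Int.units_mul_self]
  refine ⟨Matrix.GeneralLinearGroup.mkOfDetNeZero A (by rw [hdet]; exact one_ne_zero),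
    T.fix _ hdet ⟨τ, fun i j hij => if_neg hij⟩, fun j => ⟨ε j, ?_, ?_, fun i hij => if_neg hij⟩⟩
  · simp only [ε]
    split_ifs
    · rcases Int.units_eq_one_or (Equiv.Perm.sign τ) with e | e <;> simp [e]
    · exact one_ne_zero
  · funext i
    show (A *ᵥ Pi.single j 1) i = _
    rw [mulVec_single]
    simp [A, col, transpose, Pi.single_apply]

theorem mono_perm_mul {g h : GL κ F} (τ : Equiv.Perm κ) (hh : ∀ j i, i ≠ τ j → (h : Matrix κ κ F) i j = 0)
    (hm : Mono ((h : Matrix κ κ F) * (g : Matrix κ κ F))) : Mono (g : Matrix κ κ F) := by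
  obtain ⟨σ, hσ⟩ := hm
  refine ⟨τ⁻¹ * σ, fun i j hij => ?_⟩
  have h1 := hσ (τ i) j (fun e => hij (by rw [Equiv.Perm.mul_apply, ← e]; simp))
  rw [mul_apply, Finset.sum_eq_single i (fun b _ hb => by
    rw [hh b (τ i) (fun e => hb (τ.injective e.symm)), zero_mul]) (by simp)] at h1
  refine (mul_eq_zero.mp h1).resolve_left fun e => ?_
  exact GL_ne_zero_mulVec h (x := Pi.single i 1) (by simp) (funext fun a => by
    by_cases ha : a = τ i
    · subst ha; simpa using e
    · simpa using hh i a ha)

section Field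

variable [Fintype F] (hq : 5 ≤ Fintype.card F)
include hq

theorem exists_lam : ∃ lam : F, lam ≠ 0 ∧ lam ^ 2 ≠ 1 ∧ lam ^ 3 ≠ 1 := by
  classical
  obtain ⟨g, hg⟩ := IsCyclic.exists_generator (α := Fˣ)
  have ho : orderOf g = Fintype.card F - 1 := by
    rw [orderOf_eq_card_of_forall_mem_zpowers hg, Nat.card_eq_fintype_card, Fintype.card_units]
  have key : ∀ k, 0 < k → k ≤ 3 → (g : F) ^ k ≠ 1 := fun k h0 h3 e => by
    have := Nat.le_of_dvd h0 (orderOf_dvd_of_pow_eq_one (Units.ext (by simpa using e) : g ^ k = 1))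
    omega
  exact ⟨g, g.ne_zero, key 2 (by omega) (by omega), key 3 (by omega) (by omega)⟩

/-- A row element gives a root element. -/
theorem root_row (T : Over K) {s : κ} {φ : κ → F} (h : One K (Pi.single s 1) φ) (hs : φ s = 0) (hφ : φ ≠ 0) :
    Root K := by
  classical
  obtain ⟨lam, hl0, hl2, -⟩ := exists_lam hq
  have hl1 : lam ≠ 1 := fun e => hl2 (by rw [e]; simp)
  have hli : lam⁻¹ ≠ 1 := fun e => hl1 (inv_eq_one.mp e)
  obtain ⟨j, hj⟩ := Function.ne_iff.mp hφ
  have hjs : j ≠ s := fun e => hj (by rw [e]; exact hs)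
  have step : ∀ (ψ : κ → F) (v : κ), One K (Pi.single s 1) ψ → ψ s = 0 → v ≠ s → v ≠ j → ψ j ≠ 0 →
      ∃ ψ' : κ → F, One K (Pi.single s 1) ψ' ∧ ψ' s = 0 ∧ ψ' j ≠ 0 ∧ ∀ b, b ≠ j → (b ≠ v ∨ ψ b = 0) → ψ' b = 0 := by
    intro ψ v hψ hψs hvs hvj hψj
    obtain ⟨k, hk, hkv⟩ := T.diag (pairDiag j v lam) (prod_pairDiag (Ne.symm hvj) hl0)
    have hks : (k : Matrix κ κ F) *ᵥ Pi.single s 1 = Pi.single s 1 := by
      rw [hkv, mulVec_single, MulOpposite.op_one, one_smul]
      funext i
      rcases eq_or_ne i s with rfl | hi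
      · simp [pairDiag, hjs.symm, Ne.symm hvs]
      · simp [hi]
    have e : ((k⁻¹ : GL κ F) : Matrix κ κ F) *ᵥ Pi.single s 1 = Pi.single s 1 := by
      conv_lhs => rw [← hks]
      rw [mulVec_mulVec, ← Units.val_mul, inv_mul_cancel, Units.val_one, one_mulVec]
    have h1 := hψ.conj (K.inv_mem hk)
    rw [inv_inv, e, hkv] at h1
    have h2 := (hψ.neg (by simp [hψs])).addR h1 (by simp [hψs])
    refine ⟨_, h2, ?_, ?_, fun b hb hbv => ?_⟩
    · simp [vecMul_diagonal, hψs]
    · simp only [Pi.add_apply, Pi.neg_apply, vecMul_diagonal, pairDiag, if_true]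
      rw [show -ψ j + ψ j * lam = ψ j * (lam - 1) by ring]
      exact mul_ne_zero hψj (sub_ne_zero.mpr hl1)
    · simp only [Pi.add_apply, Pi.neg_apply, vecMul_diagonal, pairDiag, if_neg hb]
      rcases hbv with hbv | hbv
      · rw [if_neg hbv]; ring
      · rw [hbv]; ring
  obtain ⟨v1, h11, h12⟩ : ∃ v, v ≠ s ∧ v ≠ j := by
    by_contra hc
    push Not at hc
    have hsub : (Finset.univ : Finset κ) ⊆ {s, j} := fun v _ => by
      simp only [Finset.mem_insert, Finset.mem_singleton]
      exact (eq_or_ne v s).imp id (hc v)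
    have := (Finset.card_le_card hsub).trans Finset.card_le_two
    rw [Finset.card_univ] at this
    have := T.big
    omega
  obtain ⟨v2, h21, h22, h23⟩ : ∃ v, v ≠ s ∧ v ≠ j ∧ v ≠ v1 := by
    by_contra hc
    push Not at hc
    have hsub : (Finset.univ : Finset κ) ⊆ {s, j, v1} := fun v _ => by
      simp only [Finset.mem_insert, Finset.mem_singleton]
      exact (eq_or_ne v s).imp id fun h => (eq_or_ne v j).imp id (hc v h)
    have := (Finset.card_le_card hsub).trans Finset.card_le_three
    rw [Finset.card_univ] at this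
    have := T.big
    omega
  obtain ⟨ψ1, a1, a2, a3, a4⟩ := step φ v1 h hs h11 h12 hj
  obtain ⟨ψ2, b1, b2, b3, b4⟩ := step ψ1 v2 a1 a2 h21 h22 a3
  have he : ψ2 = Pi.single j (ψ2 j) := funext fun b => by
    rcases eq_or_ne b j with rfl | hb
    · simp
    · rw [Pi.single_eq_of_ne hb]
      refine b4 b hb ?_
      by_cases hbv : b = v2
      · exact Or.inr (a4 b hb (Or.inl (hbv ▸ h23)))
      · exact Or.inl hbv
  refine ⟨s, j, ψ2 j, Ne.symm hjs, b3, b1.congr ?_⟩
  conv_lhs => rw [he]
  ext a b
  simp only [vecMulVec_apply, Pi.single_apply]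
  split_ifs <;> ring

/-- An element outside the monomial group fixing a coordinate line gives a root element. -/
theorem root_of_line (T : Over K) {g : GL κ F} (hg : g ∈ K) (hgm : ¬ Mono (g : Matrix κ κ F)) {s : κ}
    (hs : ∀ i, i ≠ s → (g : Matrix κ κ F) i s = 0) : Root K := by
  classical
  obtain ⟨lam, hl0, hl2, -⟩ := exists_lam hq
  have hl1 : lam ≠ 1 := fun e => hl2 (by rw [e]; simp)
  -- the common case of a root element plus a row
  have lift : ∀ (k : GL κ F), k ∈ K → ∀ (i j : κ) (c : F) (r : κ → F), i ≠ j → i ≠ s → j ≠ s → r s = 0 →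
      (k : Matrix κ κ F) = 1 + vecMulVec (Pi.single i c) (Pi.single j 1) + vecMulVec (Pi.single s 1) r →
      (c ≠ 0 ∨ r ≠ 0) → Root K := by
    intro k hk i j c r hij his hjs hrs hkv hne
    by_cases hr : r = 0
    · refine ⟨i, j, c, hij, hne.resolve_right (not_not.mpr hr), k, hk, ?_⟩
      rw [hkv, hr, vecMulVec_zero, add_zero]
    obtain ⟨v, hvs, hvi, hvj⟩ : ∃ v, v ≠ s ∧ v ≠ i ∧ v ≠ j := by
      by_contra hc
      push Not at hc
      have hsub : (Finset.univ : Finset κ) ⊆ {s, i, j} := fun v _ => by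
        simp only [Finset.mem_insert, Finset.mem_singleton]
        exact (eq_or_ne v s).imp id fun h => (eq_or_ne v i).imp id (hc v h)
      have := (Finset.card_le_card hsub).trans Finset.card_le_three
      rw [Finset.card_univ] at this
      have := T.big
      omega
    set d := pairDiag s v lam with hdd
    have hd0 : ∀ b, d b ≠ 0 := fun b => by
      simp only [hdd, pairDiag]; split_ifs <;> simp [hl0]
    obtain ⟨h, hh, hhv⟩ := T.diag d (prod_pairDiag (Ne.symm hvs) hl0)
    have hmem : h * k * h⁻¹ * k⁻¹ ∈ K := K.mul_mem (K.mul_mem (K.mul_mem hh hk) (K.inv_mem hh)) (K.inv_mem hk)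
    set r' : κ → F := fun b => lam * r b / d b with hr'
    have hcomm : (h : Matrix κ κ F) * k = (1 + vecMulVec (Pi.single i c) (Pi.single j 1) +
        vecMulVec (Pi.single s 1) r') * h := by
      rw [hkv, hhv]
      ext a b
      simp only [diagonal_mul, mul_diagonal, Matrix.add_apply, vecMulVec_apply, one_apply, Pi.single_apply, hr']
      rcases eq_or_ne a s with rfl | has
      · rw [show d a = lam by simp [hdd, pairDiag]]
        by_cases hab : a = b
        · subst hab
          simp [Ne.symm his, hrs, hdd, pairDiag]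
        · simp [Ne.symm his, hab]
          field_simp [hd0 b]
      · by_cases hai : a = i
        · subst hai
          rw [show d a = 1 by simp [hdd, pairDiag, has, Ne.symm hvi]]
          by_cases hbj : b = j
          · subst hbj
            rw [show d b = 1 by simp [hdd, pairDiag, hjs, Ne.symm hvj]]
            simp [has]
          · by_cases hab : a = b
            · subst hab
              simp [has, hbj, hdd, pairDiag, Ne.symm hvi]
            · simp [has, hab, hbj]
        · by_cases hab : a = b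
          · subst hab; simp [has, hai, mul_comm]
          · simp [has, hai, hab]
    have hval : ((h * k * h⁻¹ * k⁻¹ : GL κ F) : Matrix κ κ F) =
        1 + vecMulVec (Pi.single s 1) ((r' - r) ᵥ* ((k⁻¹ : GL κ F) : Matrix κ κ F)) := by
      rw [Units.val_mul, Units.val_mul, Units.val_mul, hcomm, mul_assoc _ (h : Matrix κ κ F), ← Units.val_mul,
        mul_inv_cancel, Units.val_one, mul_one,
        show (1 + vecMulVec (Pi.single i c) (Pi.single j 1) + vecMulVec (Pi.single s 1) r' : Matrix κ κ F) =
          (k : Matrix κ κ F) + vecMulVec (Pi.single s 1) (r' - r) by rw [hkv, vecMulVec_sub]; abel,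
        add_mul, vecMulVec_mul, ← Units.val_mul, mul_inv_cancel, Units.val_one]
    set δ := (r' - r) ᵥ* ((k⁻¹ : GL κ F) : Matrix κ κ F)
    have hδs : δ s = 0 := by
      have := T.det _ hmem
      rw [hval, det_one', dotProduct_single, mul_one] at this
      linear_combination this
    refine root_row hq T ⟨_, hmem, hval⟩ hδs (GL_ne_zero_vecMul _ fun e => ?_)
    obtain ⟨b, hb⟩ := Function.ne_iff.mp hr
    have := congrFun e b
    have hbs : b ≠ s := fun e' => hb (by rw [e']; exact hrs)
    simp only [Pi.sub_apply, hr', Pi.zero_apply, hdd, pairDiag, if_neg hbs] at this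
    split_ifs at this with hbv
    · rw [div_inv_eq_mul, show lam * r b * lam - r b = r b * (lam ^ 2 - 1) by ring] at this
      exact (mul_ne_zero hb (sub_ne_zero.mpr hl2)) this
    · rw [div_one, show lam * r b - r b = r b * (lam - 1) by ring] at this
      exact (mul_ne_zero hb (sub_ne_zero.mpr hl1)) this
  -- the quotient group
  let Ks : Subgroup (GL κ F) :=
    { carrier := {x | x ∈ K ∧ ∀ i, i ≠ s → (x : Matrix κ κ F) i s = 0}
      one_mem' := ⟨K.one_mem, fun i hi => by simp [hi]⟩
      mul_mem' := fun {a b} ha hb => ⟨K.mul_mem ha.1 hb.1, fun i hi => by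
        rw [Units.val_mul, mul_apply]
        refine Finset.sum_eq_zero fun x _ => ?_
        rcases eq_or_ne x s with rfl | hx
        · rw [ha.2 i hi, zero_mul]
        · rw [hb.2 x hx, mul_zero]⟩
      inv_mem' := fun {a} ha => ⟨K.inv_mem ha.1, inv_col a ha.2⟩ }
  let κ' := {b : κ // b ≠ s}
  let blk : Ks →* Matrix κ' κ' F :=
    { toFun := fun x => Matrix.submatrix ((x : GL κ F) : Matrix κ κ F) Subtype.val Subtype.val
      map_one' := by simp [Matrix.submatrix_one _ Subtype.val_injective]
      map_mul' := fun a b => by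
        ext i j
        simp only [submatrix_apply, mul_apply, Subgroup.coe_mul, Units.val_mul]
        rw [← Finset.sum_subtype (Finset.univ.filter fun b => b ≠ s) (fun b => by simp)
          (fun x => ((a : GL κ F) : Matrix κ κ F) i.1 x * ((b : GL κ F) : Matrix κ κ F) x j.1)]
        refine (Finset.sum_subset (Finset.subset_univ _) fun x _ hx => ?_).symm
        simp only [Finset.mem_filter, Finset.mem_univ, true_and, not_not] at hx
        rw [hx, a.2.2 i.1 i.2, zero_mul] }
  let G : Subgroup (GL κ' F) := blk.toHomUnits.range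
  have hmono : ∀ A : GL κ' F, Mono (A : Matrix κ' κ' F) → A ∈ G := by
    intro A hA
    obtain ⟨σ, hσ⟩ := hA
    haveI : Unique {b : κ // ¬ b ≠ s} := ⟨⟨⟨s, by simp⟩⟩, fun b => Subtype.ext (by simpa using b.2)⟩
    let e : κ' ⊕ {b : κ // ¬ b ≠ s} ≃ κ := Equiv.sumCompl _
    have hA0 : (A : Matrix κ' κ' F).det ≠ 0 := Matrix.GeneralLinearGroup.det_ne_zero A
    let L : Matrix κ κ F := reindex e e
      (fromBlocks (A : Matrix κ' κ' F) 0 0 (diagonal fun _ => (A : Matrix κ' κ' F).det⁻¹))
    have hdet : L.det = 1 := by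
      simp only [L]
      rw [det_reindex_self, det_fromBlocks_zero₂₁, det_diagonal]
      simp [hA0]
    have hes : ∀ (i : κ) (hi : i ≠ s), e.symm i = Sum.inl ⟨i, hi⟩ := fun i hi => e.symm_apply_eq.mpr rfl
    have hes' : e.symm s = Sum.inr ⟨s, fun h => h rfl⟩ := e.symm_apply_eq.mpr rfl
    have hLs : ∀ i, i ≠ s → L i s = 0 := fun i hi => by
      show fromBlocks _ _ _ _ (e.symm i) (e.symm s) = 0
      rw [hes i hi, hes']
      rfl
    have hLm : Mono L := by
      refine ⟨e.permCongr (Equiv.sumCongr σ (Equiv.refl _)), fun i j hij => ?_⟩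
      obtain ⟨i', rfl⟩ := e.surjective i
      obtain ⟨j', rfl⟩ := e.surjective j
      simp only [L, reindex_apply, submatrix_apply, Equiv.symm_apply_apply]
      rcases i' with i' | i' <;> rcases j' with j' | j'
      · exact hσ i' j' fun h => hij (by simp [Equiv.permCongr_apply, h])
      · rfl
      · rfl
      · exact absurd (by simp [Equiv.permCongr_apply, Subsingleton.elim i' j']) hij
    let l : GL κ F := Matrix.GeneralLinearGroup.mkOfDetNeZero L (by rw [hdet]; exact one_ne_zero)
    refine ⟨⟨l, T.fix l hdet hLm, hLs⟩, Units.ext ?_⟩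
    ext i j
    show fromBlocks _ _ _ _ (e.symm i.1) (e.symm j.1) = _
    rw [hes i.1 i.2, hes j.1 j.2]
    rfl
  by_cases hG : ∃ A ∈ G, ¬ Mono (A : Matrix κ' κ' F)
  · obtain ⟨A, hA, hAm⟩ := hG
    have h3 : 3 ≤ Fintype.card κ' := by
      have : Fintype.card κ' = Fintype.card κ - 1 := by
        simp [κ', Fintype.card_subtype_compl]
      have := T.big
      omega
    obtain ⟨⟨i, hi⟩, ⟨j, hj⟩, c, hij, hc, B, ⟨⟨k, hkK, hks⟩, hkB⟩, hBv⟩ := exists_root hmono hq h3 hA hAm
    subst hkB
    replace hBv : Matrix.submatrix ((k : GL κ F) : Matrix κ κ F) (Subtype.val : κ' → κ) Subtype.val = _ := hBv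
    have hij' : i ≠ j := fun e => hij (Subtype.ext e)
    set r : κ → F := fun b => if b = s then 0 else (k : Matrix κ κ F) s b with hr
    set a := (k : Matrix κ κ F) s s - 1 with ha
    have hrow : ∀ b, b ≠ s → (k : Matrix κ κ F) s b = r b := fun b hb => by simp [hr, hb]
    have hkv : (k : Matrix κ κ F) = 1 + vecMulVec (Pi.single i c) (Pi.single j 1) +
        vecMulVec (Pi.single s 1) (r + Pi.single s a) := by
      ext x y
      rcases eq_or_ne x s with rfl | hx
      · rcases eq_or_ne y x with rfl | hy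
        · simp [vecMulVec_apply, hr, ha, Ne.symm hi]
        · simp [vecMulVec_apply, hr, hy, Ne.symm hy, Ne.symm hi]
      · rcases eq_or_ne y s with rfl | hy
        · simp [vecMulVec_apply, hx, Ne.symm hj, hks x hx]
        · have := congrFun (congrFun hBv ⟨x, hx⟩) ⟨y, hy⟩
          have hI : ∀ (a b : κ) (ha : a ≠ s) (hb : b ≠ s), ((⟨a, ha⟩ : κ') = ⟨b, hb⟩) = (a = b) :=
            fun a b ha hb => propext Subtype.mk_eq_mk
          simpa [vecMulVec_apply, hx, one_apply, Pi.single_apply, hI] using this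
    have hdet := T.det k hkK
    have hfac : (k : Matrix κ κ F) = (1 + vecMulVec (Pi.single i c) (Pi.single j 1)) *
        (1 + vecMulVec (Pi.single s 1) (r + Pi.single s a)) := by
      rw [hkv, one_mul_one, dotProduct_single, Pi.single_eq_of_ne (Ne.symm hj), zero_mul, zero_smul,
        zero_vecMulVec, add_zero]
    rw [hfac, det_mul, det_one', det_one', single_dotProduct, dotProduct_single] at hdet
    have ha0 : a = 0 := by simpa [hij', hr, Ne.symm hij'] using hdet
    rw [ha0, Pi.single_zero, add_zero] at hkv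
    exact lift k hkK i j c r hij' hi hj (by simp [hr]) hkv (Or.inl hc)
  -- the image is monomial
  push Not at hG
  obtain ⟨σ, hσ⟩ := hG (blk.toHomUnits ⟨g, hg, hs⟩) ⟨_, rfl⟩
  let e : κ' ⊕ {b : κ // ¬ b ≠ s} ≃ κ := Equiv.sumCompl _
  let τ : Equiv.Perm κ := Equiv.Perm.ofSubtype σ
  obtain ⟨p, hp, hpc⟩ := T.exists_perm τ⁻¹
  have hτs : τ⁻¹ s = s := by
    rw [Equiv.Perm.inv_eq_iff_eq]; exact (Equiv.Perm.ofSubtype_apply_of_not_mem _ (by simp)).symm
  have hpg : ∀ x y, x ≠ s → y ≠ x → ((p * g : GL κ F) : Matrix κ κ F) x y = 0 := by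
    intro x y hx hyx
    rw [Units.val_mul, mul_apply, Finset.sum_eq_single (τ x)]
    · rcases eq_or_ne y s with rfl | hy
      · rw [hs (τ x) (fun h => hx (τ.injective (h.trans (Equiv.Perm.ofSubtype_apply_of_not_mem _ (by simp)).symm))), mul_zero]
      · refine mul_eq_zero_of_right _ ?_
        have hτx : τ x = (σ ⟨x, hx⟩).1 := Equiv.Perm.ofSubtype_apply_of_mem (p := fun b => b ≠ s) σ hx
        rw [hτx]
        exact hσ (σ ⟨x, hx⟩) ⟨y, hy⟩ fun h => hyx (by simpa using (congrArg Subtype.val (σ.injective h)).symm)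
    · intro b _ hb
      obtain ⟨-, -, -, hz⟩ := hpc b
      rw [hz x (fun h => hb (by rw [h]; simp)), zero_mul]
    · simp
  set m := ((p * g : GL κ F) : Matrix κ κ F) with hm
  have hdetm : m.det = 1 := T.det _ (K.mul_mem hp hg)
  set d : κ → F := fun x => m x x with hd
  have hoff : ∀ x y, x ≠ s → x ≠ y → m x y = 0 := fun x y hx hxy => hpg x y hx (Ne.symm hxy)
  have hd0 : ∀ x, d x ≠ 0 := fun x he => by
    rcases eq_or_ne x s with rfl | hx
    · exact GL_ne_zero_mulVec (p * g) (x := Pi.single x 1) (by simp) (funext fun y => by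
        rcases eq_or_ne y x with rfl | hy
        · simpa [← hm] using he
        · simpa [← hm] using hoff y x hy hy)
    · exact GL_ne_zero_vecMul (p * g) (x := Pi.single x 1) (by simp) (funext fun y => by
        rcases eq_or_ne y x with rfl | hy
        · simpa [← hm] using he
        · simpa [← hm] using hoff x y hx (Ne.symm hy))
  set r : κ → F := fun b => if b = s then 0 else m s b / d b with hr
  have e1 : m = (1 + vecMulVec (Pi.single s 1) r) * diagonal d := by
    ext x y
    simp only [mul_diagonal, Matrix.add_apply, vecMulVec_apply, one_apply, hd, hr, Pi.single_apply]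
    rcases eq_or_ne x s with rfl | hx
    · rcases eq_or_ne y x with rfl | hy
      · simp
      · have := hd0 y
        simp only [hd] at this
        simp [hy, Ne.symm hy]
        field_simp
    · rcases eq_or_ne x y with rfl | hxy
      · simp [hx]
      · simp [hx, hxy, hoff x y hx hxy]
  have hrs : r s = 0 := by simp [hr]
  have hprod : ∏ x, d x = 1 := by
    rw [e1, det_mul, det_one', dotProduct_single, hrs, zero_mul, add_zero, one_mul, det_diagonal] at hdetm
    exact hdetm
  obtain ⟨D, hD, hDv⟩ := T.diag d hprod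
  have hval : ((p * g * D⁻¹ : GL κ F) : Matrix κ κ F) = 1 + vecMulVec (Pi.single s 1) r := by
    rw [Units.val_mul, ← hm, e1, mul_assoc, ← hDv, ← Units.val_mul, mul_inv_cancel, Units.val_one, mul_one]
  refine root_row hq T ⟨_, K.mul_mem (K.mul_mem hp hg) (K.inv_mem hD), hval⟩ hrs fun h0 => hgm ?_
  refine mono_perm_mul τ⁻¹ (fun j i hij => ?_) ⟨1, fun i j hij => ?_⟩ (h := p)
  · obtain ⟨-, -, -, hz⟩ := hpc j
    exact hz i hij
  · rw [← Units.val_mul, ← hm, e1, h0, vecMulVec_zero, add_zero, one_mul]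
    exact diagonal_apply_ne _ (by simpa using hij)

end Field

end Cfsg.Lib.Classical.MonoOver
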