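import Mathlib
import Cfsg.Agent.Classical.Linear.MonoSL

/-! Finding sparse elements in an overgroup of the monomial group. -/

set_option autoImplicit false
set_option linter.unusedSimpArgs false
set_option linter.unusedSectionVars false
set_option linter.style.haveILetI false
set_option linter.flexible false

namespace Cfsg.Lib.Classical.MonoOver

open Matrix LinOne
open scoped MatrixGroups

universe u

variable {κ : Type} [Fintype κ] [DecidableEq κ] {F : Type u} [Field F] {K : Subgroup (GL κ F)}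

theorem mono_transpose {g : Matrix κ κ F} (h : Mono g) : Mono gᵀ := by
  obtain ⟨σ, hσ⟩ := h
  exact ⟨σ.symm, fun i j hij => hσ j i fun e => hij (by rw [e]; simp)⟩

theorem six_pairs : ∀ a b : Fin 6,
    let P : Fin 6 → Fin 4 × Fin 4 := ![(0, 1), (0, 2), (0, 3), (1, 2), (1, 3), (2, 3)]
    (P a).1 ≠ (P a).2 ∧ (((P a).1 = (P b).1 ∨ (P a).1 = (P b).2) → ((P a).2 = (P b).1 ∨ (P a).2 = (P b).2) → a = b) := by
  decide

theorem mono_inv_iff {g : GL κ F} (h : Mono ((g⁻¹ : GL κ F) : Matrix κ κ F)) : Mono (g : Matrix κ κ F) := by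
  have := mono_transpose (mono_inv_transpose g⁻¹ h)
  rwa [inv_inv, transpose_transpose] at this

section Field

variable [Fintype F] (hq : 5 ≤ Fintype.card F) (T : Over K)
include hq T

theorem root_mono_col {g : GL κ F} (hg : g ∈ K) (hgm : ¬ Mono (g : Matrix κ κ F)) {a u : κ}
    (h : ∀ i, i ≠ u → (g : Matrix κ κ F) i a = 0) : Root K := by
  obtain ⟨p, hp, hpc⟩ := T.exists_perm (Equiv.swap u a)
  have hz : ∀ j i, i ≠ Equiv.swap u a j → (p : Matrix κ κ F) i j = 0 := fun j => by
    obtain ⟨-, -, -, hz⟩ := hpc j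
    exact hz
  refine root_of_line hq T (K.mul_mem hp hg) (fun hm => hgm (mono_perm_mul _ hz (by rwa [Units.val_mul] at hm)))
    (s := a) fun i hi => ?_
  rw [Units.val_mul, mul_apply]
  refine Finset.sum_eq_zero fun c _ => ?_
  rcases eq_or_ne c u with rfl | hc
  · rw [hz c i (by rwa [Equiv.swap_apply_left]), zero_mul]
  · rw [h c hc, mul_zero]

/-- Two zeros in a column lead to a column supported in those two places. -/
theorem pair_step {g : GL κ F} (hg : g ∈ K) (hgm : ¬ Mono (g : Matrix κ κ F)) {b p r : κ} (hpr : p ≠ r)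
    (hp : (g : Matrix κ κ F) p b = 0) (hr : (g : Matrix κ κ F) r b = 0) :
    Root K ∨ ∃ a, ∀ i, i ≠ p → i ≠ r → (g : Matrix κ κ F) i a = 0 := by
  classical
  obtain ⟨lam, hl0, hl2, hl3⟩ := exists_lam hq
  have hl1 : lam ≠ 1 := fun e => hl2 (by rw [e]; simp)
  have hli2 : lam⁻¹ ^ 2 ≠ 1 := fun e => hl2 (by rwa [inv_pow, inv_eq_one] at e)
  have hli3 : lam⁻¹ ^ 3 ≠ 1 := fun e => hl3 (by rwa [inv_pow, inv_eq_one] at e)
  set d := pairDiag p r lam with hdd
  have hdo : ∀ u, u ≠ p → u ≠ r → d u = 1 := fun u h1 h2 => by simp [hdd, pairDiag, h1, h2]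
  have hdp : d p = lam := by simp [hdd, pairDiag]
  have hdr : d r = lam⁻¹ := by simp [hdd, pairDiag, hpr.symm]
  obtain ⟨h, hh, hhv⟩ := T.diag d (prod_pairDiag hpr hl0)
  set y : GL κ F := g⁻¹ * h * g with hy
  have hyK : y ∈ K := K.mul_mem (K.mul_mem (K.inv_mem hg) hh) hg
  set gm := (g : Matrix κ κ F) with hgmd
  set G := ((g⁻¹ : GL κ F) : Matrix κ κ F) with hGd
  have hgG : gm * G = 1 := by rw [hgmd, hGd, ← Units.val_mul, mul_inv_cancel, Units.val_one]
  have hGg : G * gm = 1 := by rw [hgmd, hGd, ← Units.val_mul, inv_mul_cancel, Units.val_one]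
  have hgy : gm * (y : Matrix κ κ F) = diagonal d * gm := by
    rw [hy, Units.val_mul, Units.val_mul, ← mul_assoc, ← mul_assoc, ← hGd, ← hgmd, hgG, one_mul, hhv]
  have hcol : ∀ a c, ((gm * (y : Matrix κ κ F)) c a) = d c * gm c a := fun a c => by
    rw [hgy, diagonal_mul]
  by_cases hym : Mono (y : Matrix κ κ F)
  swap
  · left
    have hb : (gm * (y : Matrix κ κ F)) *ᵥ Pi.single b 1 = gm *ᵥ Pi.single b 1 := by
      funext c
      rw [mulVec_single, mulVec_single]
      simp only [MulOpposite.op_one, one_smul, col_apply]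
      rw [hcol]
      rcases eq_or_ne c p with rfl | h1
      · rw [hp]; ring
      rcases eq_or_ne c r with rfl | h2
      · rw [hr]; ring
      rw [hdo c h1 h2, one_mul]
    have hyb : (y : Matrix κ κ F) *ᵥ Pi.single b 1 = Pi.single b 1 := by
      have := congrArg (G *ᵥ ·) hb
      simp only [mulVec_mulVec, ← mul_assoc, hGg, one_mul, one_mulVec] at this
      exact this
    refine root_of_line hq T hyK hym (s := b) fun i hi => ?_
    simpa [hi] using congrFun hyb i
  obtain ⟨σ, hσ⟩ := hym
  set e : κ → F := fun a => (y : Matrix κ κ F) (σ a) a with he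
  have hkey : ∀ a c, gm c (σ a) * e a = d c * gm c a := fun a c => by
    rw [← hcol, mul_apply, Finset.sum_eq_single (σ a) (fun x _ hx => by rw [hσ x a hx, mul_zero]) (by simp)]
  have hne : ∀ a, ∃ c, gm c a ≠ 0 := fun a => by
    by_contra hc
    push Not at hc
    exact GL_ne_zero_mulVec g (x := Pi.single a 1) (by simp) (funext fun c => by simpa using hc c)
  have he0 : ∀ a, e a ≠ 0 := fun a h0 => GL_ne_zero_mulVec y (x := Pi.single a 1) (by simp) (funext fun c => by
    by_cases hc : c = σ a
    · subst hc; simpa using h0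
    · simpa using hσ c a hc)
  right
  have hid : ∀ a, σ a = a → (∀ c, gm c a = 0 ∨ d c = e a) := fun a ha c => by
    have := hkey a c
    rw [ha] at this
    by_cases h0 : gm c a = 0
    · exact Or.inl h0
    · exact Or.inr (mul_right_cancel₀ h0 (by linear_combination -this))
  have hfix : ∀ a, σ a ≠ a → gm p a = 0 → gm r a = 0 → False := by
    intro a ha h1 h2
    have hv : ∀ c, gm c (σ a) * e a = gm c a := fun c => by
      rw [hkey]
      rcases eq_or_ne c p with rfl | hc1
      · rw [h1, mul_zero]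
      rcases eq_or_ne c r with rfl | hc2
      · rw [h2, mul_zero]
      rw [hdo c hc1 hc2, one_mul]
    have hz := congrArg (G *ᵥ ·) (show gm *ᵥ (Pi.single (σ a) (e a)) = gm *ᵥ Pi.single a 1 from funext fun c => by
      simpa [mul_comm] using hv c)
    simp only [mulVec_mulVec, hGg, one_mulVec] at hz
    simpa [Ne.symm ha] using congrFun hz a
  by_cases hmove : ∃ a, σ a ≠ a
  swap
  · push Not at hmove
    obtain ⟨a, ha⟩ : ∃ a, gm p a ≠ 0 := by
      by_contra hc
      push Not at hc
      exact GL_ne_zero_vecMul g (x := Pi.single p 1) (by simp) (funext fun c => by simpa using hc c)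
    refine ⟨a, fun i hip hir => ?_⟩
    rcases hid a (hmove a) i with h0 | h0
    · exact h0
    rcases hid a (hmove a) p with h1 | h1
    · exact absurd h1 ha
    rw [hdo i hip hir, ← h1, hdp] at h0
    exact absurd h0.symm hl1
  obtain ⟨a, ha⟩ := hmove
  by_cases h2 : σ (σ a) = a
  · refine ⟨a, fun i hip hir => ?_⟩
    have hD : ∀ c, (d c ^ 2 - e a * e (σ a)) * gm c a = 0 := fun c => by
      have k1 := hkey a c
      have k2 := hkey (σ a) c
      rw [h2] at k2
      linear_combination (-d c) * k1 - e a * k2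
    by_cases hD1 : e a * e (σ a) = 1
    · refine (hfix a ha ?_ ?_).elim
      · exact (mul_eq_zero.mp (hD p)).resolve_left (by rw [hdp, hD1]; exact sub_ne_zero.mpr hl2)
      · exact (mul_eq_zero.mp (hD r)).resolve_left (by rw [hdr, hD1]; exact sub_ne_zero.mpr hli2)
    · exact (mul_eq_zero.mp (hD i)).resolve_left (by
        rw [hdo i hip hir, one_pow]; exact sub_ne_zero.mpr (Ne.symm hD1))
  exfalso
  set b1 := σ a with hb1
  set b2 := σ b1 with hb2
  have n01 : a ≠ b1 := Ne.symm ha
  have n12 : b1 ≠ b2 := fun h => ha (σ.injective h).symm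
  have n02 : a ≠ b2 := fun h => h2 h.symm
  have n13 : σ b2 ≠ b1 := fun h => n02 (σ.injective (h.trans hb1)).symm
  have n23 : σ b2 ≠ b2 := fun h => n12 (σ.injective (h.trans hb2)).symm
  let v : Fin 3 → κ := ![a, b1, b2]
  let A : Matrix (Fin 3) (Fin 3) F := fun x k => (![G (v x) p * (lam - 1), G (v x) r * (lam⁻¹ - 1), 0] : Fin 3 → F) k
  let B : Matrix (Fin 3) (Fin 3) F := fun k x => (![gm p (v x), gm r (v x), 0] : Fin 3 → F) k
  have hyv : (y : Matrix κ κ F) = 1 + G * diagonal (fun c => d c - 1) * gm := by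
    rw [← diagonal_sub, diagonal_one, mul_sub, sub_mul, mul_one, hGg, hy, Units.val_mul, Units.val_mul, hhv]
    abel
  have hN : ((y : Matrix κ κ F) - 1).submatrix v v = A * B := by
    rw [hyv, add_sub_cancel_left]
    ext x z
    rw [submatrix_apply, mul_apply, mul_apply, Fin.sum_univ_three, Finset.sum_eq_add p r hpr]
    · simp [A, B, mul_diagonal, hdp, hdr]
    · intro c _ hc
      simp [mul_diagonal, hdo c hc.1 hc.2]
    · simp
    · simp
  have hA : A.det = 0 := det_eq_zero_of_column_eq_zero 2 fun x => by simp [A]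
  have hdet := congrArg Matrix.det hN
  rw [det_mul, hA, zero_mul, det_fin_three] at hdet
  simp only [submatrix_apply, Matrix.sub_apply, v, Matrix.cons_val_zero, Matrix.cons_val_one, Matrix.cons_val,
    one_apply, n01, n02, n12, n01.symm, n02.symm, n12.symm, if_true, if_false,
    hσ a a n01, hσ b2 a (Ne.symm n12), hσ a b1 n02, hσ b1 b1 n12, hσ b1 b2 (Ne.symm n13),
    hσ b2 b2 (Ne.symm n23)] at hdet
  have he3 : (y : Matrix κ κ F) a b2 * e a * e b1 = 1 := by
    simp only [he, ← hb1, ← hb2]
    linear_combination hdet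
  have hcyc : σ b2 = a := by
    by_contra h
    rw [hσ a b2 (Ne.symm h), zero_mul, zero_mul] at he3
    exact zero_ne_one he3
  have hD : ∀ c, (d c ^ 3 - 1) * gm c a = 0 := fun c => by
    have k1 := hkey a c
    have k2 := hkey b1 c
    have k3 := hkey b2 c
    rw [← hb1] at k1
    rw [← hb2] at k2
    rw [hcyc] at k3
    have e2 : e b2 = (y : Matrix κ κ F) a b2 := by simp only [he, hcyc]
    rw [← e2] at he3
    linear_combination (-(d c ^ 2)) * k1 - (d c * e a) * k2 - (e a * e b1) * k3 + gm c a * he3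
  exact hfix a ha ((mul_eq_zero.mp (hD p)).resolve_left (by rw [hdp]; exact sub_ne_zero.mpr hl3))
    ((mul_eq_zero.mp (hD r)).resolve_left (by rw [hdr]; exact sub_ne_zero.mpr hli3))

/-- Four zeros in a column. -/
theorem root_four {g : GL κ F} (hg : g ∈ K) (hgm : ¬ Mono (g : Matrix κ κ F)) {b : κ}
    (z : Fin 4 → κ) (hz : Function.Injective z) (h0 : ∀ x, (g : Matrix κ κ F) (z x) b = 0) : Root K := by
  classical
  by_contra hR
  let P : Fin 6 → Fin 4 × Fin 4 := ![(0, 1), (0, 2), (0, 3), (1, 2), (1, 3), (2, 3)]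
  have hP : ∀ q, (P q).1 ≠ (P q).2 := fun q => (six_pairs q q).1
  have hex : ∀ q, ∃ a, (∀ i, i ≠ z (P q).1 → i ≠ z (P q).2 → (g : Matrix κ κ F) i a = 0) ∧
      (g : Matrix κ κ F) (z (P q).1) a ≠ 0 ∧ (g : Matrix κ κ F) (z (P q).2) a ≠ 0 := by
    intro q
    obtain ⟨a, ha⟩ := (pair_step hq T hg hgm (fun e => hP q (hz e)) (h0 (P q).1) (h0 (P q).2)).resolve_left hR
    refine ⟨a, ha, fun e => hR ?_, fun e => hR ?_⟩
    · exact root_mono_col hq T hg hgm (a := a) (u := z (P q).2) fun i hi => by
        rcases eq_or_ne i (z (P q).1) with rfl | h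
        · exact e
        · exact ha i h hi
    · exact root_mono_col hq T hg hgm (a := a) (u := z (P q).1) fun i hi => by
        rcases eq_or_ne i (z (P q).2) with rfl | h
        · exact e
        · exact ha i hi h
  choose a ha ha1 ha2 using hex
  have hinj : Function.Injective a := fun q q' e => by
    refine (six_pairs q q').2 ?_ ?_
    · by_contra hc
      push Not at hc
      exact ha1 q (e ▸ ha q' _ (fun h => hc.1 (hz h)) (fun h => hc.2 (hz h)))
    · by_contra hc
      push Not at hc
      exact ha2 q (e ▸ ha q' _ (fun h => hc.1 (hz h)) (fun h => hc.2 (hz h)))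
  let L : (Fin 6 → F) →ₗ[F] (Fin 4 → F) := Matrix.mulVecLin (Matrix.of fun x q => (g : Matrix κ κ F) (z x) (a q))
  have hL : Function.Injective L := (injective_iff_map_eq_zero L).mpr fun f hf => by
    set w : κ → F := ∑ q, Pi.single (a q) (f q)
    have hw : (g : Matrix κ κ F) *ᵥ w = 0 := by
      funext i
      rw [mulVec_sum, Finset.sum_apply]
      by_cases hi : ∃ x, i = z x
      · obtain ⟨x, rfl⟩ := hi
        have := congrFun hf x
        simpa [L, mulVec, dotProduct, Pi.single_apply, mul_comm] using this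
      · push Not at hi
        refine Finset.sum_eq_zero fun q _ => ?_
        simp [ha q i (hi _) (hi _)]
    have hw0 : w = 0 := by_contra fun h => GL_ne_zero_mulVec g h hw
    funext q
    have := congrFun hw0 (a q)
    simp only [w, Finset.sum_apply, Pi.zero_apply] at this
    rwa [Finset.sum_eq_single q (fun q' _ h => by simp [hinj.ne h.symm]) (by simp), Pi.single_eq_same] at this
  have := LinearMap.finrank_le_finrank_of_injective hL
  simp at this

/-- A root element and the monomial group generate the special linear group. -/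
theorem sl_of_root (hroot : Root K) : Cfsg.Geo.specialLinear κ F ≤ K := by
  classical
  obtain ⟨i, j, c, hij, hc, h⟩ := hroot
  refine specialLinear_le fun a b hab d => ?_
  rcases eq_or_ne d 0 with rfl | hd
  · simpa using (One.zero (G := K) (Pi.single a (1 : F))).congr (y := Pi.single a 0) (ψ := Pi.single b 1) (by simp)
  obtain ⟨τ, hτi, hτj⟩ : ∃ τ : Equiv.Perm κ, τ i = a ∧ τ j = b := by
    refine ⟨Equiv.swap (Equiv.swap i a j) b * Equiv.swap i a, ?_, by rw [Equiv.Perm.mul_apply, Equiv.swap_apply_left]⟩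
    rw [Equiv.Perm.mul_apply, Equiv.swap_apply_left, Equiv.swap_apply_of_ne_of_ne _ hab]
    intro e
    exact hij ((Equiv.swap i a).injective (by rw [Equiv.swap_apply_left]; exact e))
  obtain ⟨p, hp, hpc⟩ := T.exists_perm τ
  obtain ⟨e1, he1, hc1, -⟩ := hpc i
  obtain ⟨e2, he2, hc2, -⟩ := hpc j
  have hrow : (Pi.single b e2⁻¹ : κ → F) ᵥ* (p : Matrix κ κ F) = Pi.single j 1 := funext fun w => by
    obtain ⟨ew, -, -, hzw⟩ := hpc w
    rw [single_vecMul]
    rcases eq_or_ne w j with rfl | hw
    · have := congrFun hc2 b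
      simp [hτj] at this
      simp [row, this, he2]
    · simp [row, Pi.single_eq_of_ne hw, hzw b (fun e => hw (τ.injective (e.symm.trans hτj.symm)))]
  have hx : (p : Matrix κ κ F) *ᵥ (Pi.single i c : κ → F) = Pi.single a (c * e1) := by
    rw [show (Pi.single i c : κ → F) = c • Pi.single i 1 by rw [← Pi.single_smul, smul_eq_mul, mul_one],
      mulVec_smul, hc1, hτi, ← Pi.single_smul, smul_eq_mul]
  have hφ : (Pi.single j 1 : κ → F) ᵥ* ((p⁻¹ : GL κ F) : Matrix κ κ F) = Pi.single b e2⁻¹ := by
    rw [← hrow, vecMul_vecMul, ← Units.val_mul, mul_inv_cancel, Units.val_one, vecMul_one]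
  have h1 := h.conj hp
  rw [hx, hφ] at h1
  have h2 : One K (Pi.single a (c * e1 * e2⁻¹)) (Pi.single b (1 : F)) := h1.congr (by
    ext x y
    simp only [vecMulVec_apply, Pi.single_apply]
    split_ifs <;> ring)
  obtain ⟨u, hu⟩ : ∃ u, u ∉ ({a, b} : Finset κ) := by
    by_contra hall
    push Not at hall
    have := (Finset.card_le_card (fun x _ => hall x : (Finset.univ : Finset κ) ⊆ {a, b})).trans Finset.card_le_two
    rw [Finset.card_univ] at this
    have := T.big
    omega
  simp only [Finset.mem_insert, Finset.mem_singleton, not_or] at hu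
  set c' := c * e1 * e2⁻¹ with hc'
  have hc'0 : c' ≠ 0 := mul_ne_zero (mul_ne_zero hc he1) (inv_ne_zero he2)
  obtain ⟨D, hD, hDv⟩ := T.diag (pairDiag a u (d / c')) (prod_pairDiag (Ne.symm hu.1) (div_ne_zero hd hc'0))
  have h3 := h2.conj hD
  rw [vecMul_inv_eq (φ := (Pi.single b 1 : κ → F))] at h3
  · refine h3.congr ?_
    congr 1
    rw [hDv]
    funext x
    rw [mulVec_diagonal]
    rcases eq_or_ne x a with rfl | hx
    · simp [pairDiag, div_mul_cancel₀ _ hc'0]
    · simp [hx]
  · rw [hDv]
    funext x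
    rw [vecMul_diagonal]
    rcases eq_or_ne x b with rfl | hx
    · simp [pairDiag, Ne.symm hab, Ne.symm hu.2]
    · simp [hx]


section Big

variable (hbig : Fintype.card κ = 6 ∨ 10 ≤ Fintype.card κ)
include hbig

theorem root_sparse {g : GL κ F} (hg : g ∈ K) (hgm : ¬ Mono (g : Matrix κ κ F)) {a p r : κ}
    (h : ∀ i, i ≠ p → i ≠ r → (g : Matrix κ κ F) i a = 0) : Root K := by
  classical
  have hc : 4 ≤ Fintype.card {i : κ // i ≠ p ∧ i ≠ r} := by
    have h1 : ({p, r} : Finset κ).card ≤ 2 := Finset.card_le_two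
    have h2 : Fintype.card {i : κ // i ≠ p ∧ i ≠ r} = (Finset.univ \ {p, r}).card := by
      rw [Fintype.card_subtype]
      congr 1
      ext i
      simp
    rw [h2, Finset.card_sdiff_of_subset (Finset.subset_univ _), Finset.card_univ]
    have := hbig
    omega
  obtain ⟨e⟩ : Nonempty (Fin 4 ↪ {i : κ // i ≠ p ∧ i ≠ r}) :=
    Function.Embedding.nonempty_of_card_le (by rwa [Fintype.card_fin])
  exact root_four hq T hg hgm (fun x => (e x).1) (Subtype.val_injective.comp e.injective)
    fun x => h _ (e x).2.1 (e x).2.2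

theorem root_two {g : GL κ F} (hg : g ∈ K) (hgm : ¬ Mono (g : Matrix κ κ F)) {b p r : κ} (hpr : p ≠ r)
    (hp : (g : Matrix κ κ F) p b = 0) (hr : (g : Matrix κ κ F) r b = 0) : Root K := by
  rcases pair_step hq T hg hgm hpr hp hr with h | ⟨a, ha⟩
  · exact h
  · exact root_sparse hq T hbig hg hgm ha

/-- A zero, in dimension six: a four-dimensional coordinate space has too many vectors. -/
theorem root_one_six (h6 : Fintype.card κ = 6) {g : GL κ F} (hg : g ∈ K) (hgm : ¬ Mono (g : Matrix κ κ F)) {z b : κ}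
    (hz : (g : Matrix κ κ F) z b = 0) : Root K := by
  classical
  by_contra hR
  set gm := (g : Matrix κ κ F) with hgmd
  set G := ((g⁻¹ : GL κ F) : Matrix κ κ F) with hGd
  have hgG : gm * G = 1 := by rw [hgmd, hGd, ← Units.val_mul, mul_inv_cancel, Units.val_one]
  have hGg : G * gm = 1 := by rw [hgmd, hGd, ← Units.val_mul, inv_mul_cancel, Units.val_one]
  have hx : ∀ c, c ≠ z → gm c b ≠ 0 := fun c hc h => hR (root_two hq T hbig hg hgm hc h hz)
  obtain ⟨c₁, hc₁⟩ : ∃ c, gm z c ≠ 0 := by
    by_contra hall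
    push Not at hall
    exact GL_ne_zero_vecMul g (x := Pi.single z 1) (by simp) (funext fun c => by simpa using hall c)
  have hbc : b ≠ c₁ := fun e => hc₁ (e ▸ hz)
  obtain ⟨p, hp, r, hr, hpr⟩ := Finset.one_lt_card.mp (show 1 < ((Finset.univ : Finset κ) \ {b, c₁}).card by
    rw [Finset.card_sdiff_of_subset (Finset.subset_univ _), Finset.card_univ, Finset.card_pair hbc]; omega)
  simp only [Finset.mem_sdiff, Finset.mem_univ, true_and, Finset.mem_insert, Finset.mem_singleton, not_or] at hp hr
  let L : (κ → F) →ₗ[F] (Fin 3 → F) := LinearMap.pi ![LinearMap.proj p, LinearMap.proj r,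
    LinearMap.proj z ∘ₗ gm.mulVecLin]
  let W := LinearMap.ker L
  have hW : ∀ w, w ∈ W ↔ w p = 0 ∧ w r = 0 ∧ (gm *ᵥ w) z = 0 := fun w => by
    simp [W, L, LinearMap.mem_ker, funext_iff, Fin.forall_fin_succ]
  have hWd : 3 ≤ Module.finrank F W := by
    have h1 := LinearMap.finrank_range_add_finrank_ker L
    have h2 := Submodule.finrank_le (LinearMap.range L)
    simp only [Module.finrank_pi, Fintype.card_fin] at h1 h2
    simp only [W]
    omega
  let eb : W := ⟨Pi.single b 1, (hW _).mpr ⟨by simp [hp.1], by simp [hr.1], by simp [hz]⟩⟩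
  let H : κ → Submodule F W := fun c => LinearMap.ker ((LinearMap.proj c ∘ₗ gm.mulVecLin) ∘ₗ W.subtype)
  have hH : ∀ c (w : W), w ∈ H c ↔ (gm *ᵥ (w : κ → F)) c = 0 := fun c w => by simp [H, LinearMap.mem_ker]
  let Hf : κ → Finset W := fun c => Finset.univ.filter fun w => w ∈ H c
  have hHf : ∀ c, (Hf c).card = Fintype.card F ^ Module.finrank F (H c) := fun c => by
    rw [← Module.card_eq_pow_finrank (K := F) (V := H c), Fintype.card_subtype]
  -- every vector is in a coordinate hyperplane or is a multiple of a unit vector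
  have hcov : ∀ w : W, (∃ c, c ≠ z ∧ w ∈ H c) ∨
      ∃ c, c ≠ p ∧ c ≠ r ∧ c ≠ c₁ ∧ ∃ e : F, e ≠ 0 ∧ (w : κ → F) = Pi.single c e := by
    intro w
    refine or_iff_not_imp_left.mpr fun hc => ?_
    push Not at hc
    obtain ⟨hwp, hwr, hwz⟩ := (hW _).mp w.2
    set y := gm *ᵥ (w : κ → F) with hy
    have hy0 : ∀ c, c ≠ z → y c ≠ 0 := fun c h e => hc c h ((hH c w).mpr e)
    set t : κ → F := fun c => if c = z then (∏ c ∈ Finset.univ.erase z, y c / gm c b)⁻¹ else y c / gm c b with ht
    have hprod : ∏ c, t c = 1 := by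
      rw [← Finset.mul_prod_erase _ _ (Finset.mem_univ z),
        Finset.prod_congr rfl (fun c hc => show t c = y c / gm c b by simp [ht, Finset.ne_of_mem_erase hc])]
      simp only [ht, if_true]
      refine inv_mul_cancel₀ (Finset.prod_ne_zero_iff.mpr fun c hc => ?_)
      exact div_ne_zero (hy0 c (Finset.ne_of_mem_erase hc)) (hx c (Finset.ne_of_mem_erase hc))
    obtain ⟨h, hh, hhv⟩ := T.diag t hprod
    have hk : g⁻¹ * h * g ∈ K := K.mul_mem (K.mul_mem (K.inv_mem hg) hh) hg
    have hcol : ∀ c, ((g⁻¹ * h * g : GL κ F) : Matrix κ κ F) c b = (w : κ → F) c := fun c => by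
      rw [show (w : κ → F) c = (G *ᵥ y) c by rw [hy, mulVec_mulVec, hGg, one_mulVec],
        Units.val_mul, Units.val_mul, hhv, mul_assoc, mul_apply, mulVec, dotProduct]
      refine Finset.sum_congr rfl fun a _ => ?_
      rw [diagonal_mul, ← hGd, ← hgmd]
      rcases eq_or_ne a z with rfl | ha
      · rw [hz, hwz, mul_zero]
      · simp [ht, ha, div_mul_cancel₀ _ (hx a ha)]
    by_cases hkm : Mono ((g⁻¹ * h * g : GL κ F) : Matrix κ κ F)
    swap
    · exact absurd (root_two hq T hbig hk hkm hpr ((hcol p).trans hwp) ((hcol r).trans hwr)) hR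
    obtain ⟨σ, hσ⟩ := hkm
    have hsing : (w : κ → F) = Pi.single (σ b) ((w : κ → F) (σ b)) := funext fun c => by
      rcases eq_or_ne c (σ b) with rfl | hc
      · simp
      · rw [Pi.single_eq_of_ne hc, ← hcol, hσ c b hc]
    have he : (w : κ → F) (σ b) ≠ 0 := fun e => by
      obtain ⟨d, hd⟩ : ∃ d, d ≠ z := by
        haveI : Nontrivial κ := Fintype.one_lt_card_iff_nontrivial.mp (by omega)
        exact exists_ne z
      refine hy0 d hd ?_
      rw [hy, hsing, e, Pi.single_zero, mulVec_zero, Pi.zero_apply]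
    refine ⟨σ b, fun e' => he (e' ▸ hwp), fun e' => he (e' ▸ hwr), fun e' => ?_, _, he, hsing⟩
    rw [hy, hsing, e', mulVec_single] at hwz
    simp only [Pi.smul_apply, col_apply, MulOpposite.smul_eq_mul_unop, MulOpposite.unop_op, mul_eq_zero] at hwz
    exact (e' ▸ he) (hwz.resolve_left hc₁)
  -- count
  let O : Finset κ := (Finset.univ.erase z)
  obtain ⟨c₀, hc₀⟩ := Finset.card_pos.mp (show 0 < O.card by
    simp only [O]; rw [Finset.card_erase_of_mem (Finset.mem_univ _), Finset.card_univ]; omega)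
  let T4 : Finset κ := Finset.univ \ {p, r, c₁}
  let U : Finset W := Finset.univ.filter fun w : W =>
    ∃ c, c ≠ p ∧ c ≠ r ∧ c ≠ c₁ ∧ ∃ e : F, e ≠ 0 ∧ (w : κ → F) = Pi.single c e
  have hU : U.card ≤ T4.card * (Fintype.card F - 1) := by
    have hsub : U.image (fun w : W => (w : κ → F)) ⊆
        (T4 ×ˢ (Finset.univ.erase (0 : F))).image fun ce => Pi.single ce.1 ce.2 := by
      intro v hv
      simp only [U, Finset.mem_image, Finset.mem_filter, Finset.mem_univ, true_and] at hv
      obtain ⟨w, ⟨c, h1, h2, h3, e, he, hw⟩, rfl⟩ := hv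
      exact Finset.mem_image.mpr ⟨(c, e), by simp [T4, h1, h2, h3, he], hw.symm⟩
    have h1 := (Finset.card_le_card hsub).trans Finset.card_image_le
    rw [Finset.card_image_of_injective _ Subtype.val_injective, Finset.card_product,
      Finset.card_erase_of_mem (Finset.mem_univ _), Finset.card_univ] at h1
    exact h1
  have hT4 : T4.card = 3 := by
    simp only [T4]
    rw [Finset.card_sdiff_of_subset (Finset.subset_univ _), Finset.card_univ, h6,
      Finset.card_insert_of_notMem (by simp [hpr, hp.2]), Finset.card_pair hr.2]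
  have hO : (O.erase c₀).card = 4 := by
    rw [Finset.card_erase_of_mem hc₀]; simp only [O]
    rw [Finset.card_erase_of_mem (Finset.mem_univ _), Finset.card_univ, h6]
  set q := Fintype.card F
  set d := Module.finrank F W with hd
  have hHd : ∀ c, c ≠ z → Module.finrank F (H c) + 1 = d := fun c hc => by
    have hne : ((LinearMap.proj c ∘ₗ gm.mulVecLin) ∘ₗ W.subtype : W →ₗ[F] F) ≠ 0 := fun e => hx c hc (by
      have := LinearMap.congr_fun e eb
      simpa [eb] using this)
    have := Module.Dual.finrank_ker_add_one_of_ne_zero hne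
    exact this
  have hc₀z : c₀ ≠ z := Finset.ne_of_mem_erase hc₀
  have hstep : ∀ c ∈ O.erase c₀, (Hf c \ Hf c₀).card ≤ q ^ (d - 1) - q ^ (d - 2) := by
    intro c hc
    have hcz : c ≠ z := Finset.ne_of_mem_erase (Finset.mem_of_mem_erase hc)
    rw [Finset.card_sdiff, hHf, show Module.finrank F (H c) = d - 1 by have := hHd c hcz; omega]
    refine Nat.sub_le_sub_left ?_ _
    have h1 : (Hf c₀ ∩ Hf c).card = q ^ Module.finrank F (H c₀ ⊓ H c : Submodule F W) := by
      rw [← Module.card_eq_pow_finrank (K := F) (V := (H c₀ ⊓ H c : Submodule F W)), Fintype.card_subtype]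
      congr 1
      ext w
      simp [Hf]
    rw [h1]
    refine Nat.pow_le_pow_right Fintype.card_pos ?_
    have := Submodule.finrank_sup_add_finrank_inf_eq (H c₀) (H c)
    have := Submodule.finrank_le (H c₀ ⊔ H c)
    have := hHd c hcz
    have := hHd c₀ hc₀z
    omega
  have htot : (Finset.univ : Finset W) ⊆ U ∪ (Hf c₀ ∪ (O.erase c₀).biUnion fun c => Hf c \ Hf c₀) := by
    intro w _
    rcases hcov w with ⟨c, hc, hw⟩ | h
    · refine Finset.mem_union_right _ ?_
      by_cases h0 : w ∈ H c₀
      · exact Finset.mem_union_left _ (by simp [Hf, h0])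
      · refine Finset.mem_union_right _ (Finset.mem_biUnion.mpr ⟨c, ?_, by simp [Hf, hw, h0]⟩)
        simp only [O, Finset.mem_erase, Finset.mem_univ, and_true]
        exact ⟨fun e => h0 (e ▸ hw), hc⟩
    · exact Finset.mem_union_left _ (by simpa [U] using h)
  have hfin := (Finset.card_le_card htot).trans ((Finset.card_union_le _ _).trans (Nat.add_le_add hU
    ((Finset.card_union_le _ _).trans (Nat.add_le_add_left (Finset.card_biUnion_le.trans
      (Finset.sum_le_card_nsmul _ _ _ hstep)) _))))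
  rw [Finset.card_univ, Module.card_eq_pow_finrank (K := F), ← hd, hHf, hT4, hO, smul_eq_mul,
    show Module.finrank F (H c₀) = d - 1 by have := hHd c₀ hc₀z; omega] at hfin
  obtain ⟨a, ha⟩ : ∃ a, d = a + 3 := ⟨d - 3, by omega⟩
  rw [ha, show a + 3 - 1 = a + 2 by omega, show a + 3 - 2 = a + 1 by omega, pow_succ, pow_succ, pow_succ] at hfin
  have h1 : 1 ≤ q ^ a := Nat.one_le_pow _ _ Fintype.card_pos
  obtain ⟨k, hk⟩ : ∃ k, Fintype.card F = k + 5 := ⟨Fintype.card F - 5, by omega⟩
  simp only [q] at hfin h1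
  rw [hk] at hfin h1
  simp only [show k + 5 - 1 = k + 4 by omega] at hfin
  have h2 : (k + 5) ^ a * (k + 5) ≤ (k + 5) ^ a * (k + 5) * (k + 5) := Nat.le_mul_of_pos_right _ (by omega)
  obtain ⟨P, hP⟩ : ∃ P, (k + 5) ^ a = P + 1 := ⟨(k + 5) ^ a - 1, by omega⟩
  rw [hP] at hfin h2
  zify [h2] at hfin
  nlinarith [mul_nonneg (Int.natCast_nonneg P) (Int.natCast_nonneg k),
    mul_nonneg (mul_nonneg (Int.natCast_nonneg P) (Int.natCast_nonneg k)) (Int.natCast_nonneg k),
    mul_nonneg (mul_nonneg (mul_nonneg (Int.natCast_nonneg P) (Int.natCast_nonneg k)) (Int.natCast_nonneg k))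
      (Int.natCast_nonneg k), Int.natCast_nonneg P, Int.natCast_nonneg k,
    mul_nonneg (mul_nonneg (Int.natCast_nonneg k) (Int.natCast_nonneg k)) (Int.natCast_nonneg k),
    mul_nonneg (Int.natCast_nonneg k) (Int.natCast_nonneg k)]

/-- A zero anywhere. -/
theorem root_one {g : GL κ F} (hg : g ∈ K) (hgm : ¬ Mono (g : Matrix κ κ F)) {z b : κ}
    (hz : (g : Matrix κ κ F) z b = 0) : Root K := by
  classical
  rcases id hbig with h6 | h10
  · exact root_one_six hq T hbig h6 hg hgm hz
  by_contra hR
  set gm := (g : Matrix κ κ F) with hgmd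
  set G := ((g⁻¹ : GL κ F) : Matrix κ κ F) with hGd
  have hx : ∀ c, c ≠ z → gm c b ≠ 0 := fun c hc h => hR (root_two hq T hbig hg hgm hc h hz)
  obtain ⟨lam, hl0, hl2, -⟩ := exists_lam hq
  have hl1 : lam ≠ 1 := fun e => hl2 (by rw [e]; simp)
  obtain ⟨i, j, hib, hjb, hij⟩ : ∃ i j, i ≠ b ∧ j ≠ b ∧ i ≠ j := by
    have hc : 1 < (Finset.univ.erase b).card := by
      rw [Finset.card_erase_of_mem (Finset.mem_univ b), Finset.card_univ]; have := hbig; omega
    obtain ⟨i, hi, j, hj, hij⟩ := Finset.one_lt_card.mp hc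
    exact ⟨i, j, Finset.ne_of_mem_erase hi, Finset.ne_of_mem_erase hj, hij⟩
  -- no combination of the two rows is supported in one place off `z`
  have hnd : ∀ (α β : F) (c : κ), c ≠ z → (∀ w, w ≠ z → w ≠ c → α * G i w + β * G j w = 0) → α = 0 ∧ β = 0 := by
    intro α β c hcz hsupp
    set v : κ → F := Pi.single i α + Pi.single j β with hv
    set u : κ → F := v ᵥ* G with hu
    have huw : ∀ w, u w = α * G i w + β * G j w := fun w => by
      rw [hu, hv, add_vecMul, Pi.add_apply, single_vecMul, single_vecMul]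
      simp [row]
    have hug : u ᵥ* gm = v := by
      rw [hu, vecMul_vecMul, hGd, hgmd, ← Units.val_mul, inv_mul_cancel, Units.val_one, vecMul_one]
    have hsum : ∀ w, (u ᵥ* gm) w = u z * gm z w + u c * gm c w := fun w => by
      rw [vecMul, dotProduct, Finset.sum_eq_add z c (Ne.symm hcz)]
      · intro x _ hx
        rw [huw, hsupp x hx.1 hx.2, zero_mul]
      · simp
      · simp
    have hc0 : u c = 0 := by
      have := hsum b
      rw [hug, hz, mul_zero, zero_add, hv, Pi.add_apply, Pi.single_eq_of_ne (Ne.symm hib),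
        Pi.single_eq_of_ne (Ne.symm hjb), add_zero] at this
      exact (mul_eq_zero.mp this.symm).resolve_right (hx c hcz)
    by_contra hne
    have hv0 : v ≠ 0 := fun e => hne ⟨by simpa [hv, hij, Ne.symm hij] using congrFun e i,
      by simpa [hv, hij, Ne.symm hij] using congrFun e j⟩
    have huz : u z ≠ 0 := fun e => hv0 (by
      rw [← hug]; funext w; rw [hsum, e, hc0]; simp)
    refine hR (root_of_dual (root_sparse hq T.dual hbig (g := invT g⁻¹) ?_ ?_ (a := z) (p := i) (r := j) fun w h1 h2 => ?_))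
    · show invT (invT g⁻¹) ∈ K
      have : invT (invT g⁻¹) = g⁻¹ := Units.ext (by
        rw [invT_val, ← map_inv, inv_inv, invT_val, transpose_transpose])
      rw [this]
      exact K.inv_mem hg
    · rw [invT_val, inv_inv]
      exact fun hm => hgm (by simpa using mono_transpose hm)
    · rw [invT_val, inv_inv, transpose_apply]
      have := hsum w
      rw [hug, hc0, zero_mul, add_zero, hv, Pi.add_apply, Pi.single_eq_of_ne h1, Pi.single_eq_of_ne h2,
        add_zero] at this
      exact (mul_eq_zero.mp this.symm).resolve_left huz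
  haveI : Nontrivial κ := Fintype.one_lt_card_iff_nontrivial.mp (by have := hbig; omega)
  obtain ⟨p1, hp1z, hp1⟩ : ∃ p, p ≠ z ∧ G i p ≠ 0 := by
    by_contra hc
    push Not at hc
    obtain ⟨c0, hc0⟩ := exists_ne z
    exact one_ne_zero (hnd 1 0 c0 hc0 fun w hw _ => by simp [hc w hw]).1
  obtain ⟨p2, hp2z, hΔ⟩ : ∃ p, p ≠ z ∧ G i p1 * G j p - G j p1 * G i p ≠ 0 := by
    by_contra hc
    push Not at hc
    exact hp1 (hnd (-G j p1) (G i p1) p1 hp1z fun w hw _ => by linear_combination hc w hw).2
  set Δ := G i p1 * G j p2 - G j p1 * G i p2 with hΔd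
  have hp12 : p1 ≠ p2 := fun e => hΔ (by rw [hΔd, e]; ring)
  set α : κ → F := fun c => G i c * G j p2 - G j c * G i p2 with hα
  set β : κ → F := fun c => G i p1 * G j c - G j p1 * G i c with hβ
  obtain ⟨u0, hu0⟩ : ∃ u, u ≠ z ∧ u ≠ p1 ∧ u ≠ p2 ∧ α u ≠ 0 := by
    by_contra hc
    push Not at hc
    obtain ⟨e1, e2⟩ := hnd (G j p2) (-G i p2) p1 hp1z fun w hw hw1 => by
      rcases eq_or_ne w p2 with rfl | hw2
      · ring
      · have := hc w hw hw1 hw2
        simp only [hα] at this
        linear_combination this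
    exact hΔ (by rw [hΔd, e1, neg_eq_zero.mp e2]; ring)
  obtain ⟨v0, hv0⟩ : ∃ u, u ≠ z ∧ u ≠ p1 ∧ u ≠ p2 ∧ β u ≠ 0 := by
    by_contra hc
    push Not at hc
    obtain ⟨e1, e2⟩ := hnd (-G j p1) (G i p1) p2 hp2z fun w hw hw2 => by
      rcases eq_or_ne w p1 with rfl | hw1
      · ring
      · have := hc w hw hw1 hw2
        simp only [hβ] at this
        linear_combination this
    exact hp1 e2
  obtain ⟨u, v, hu, hv, hindep⟩ : ∃ u v, (u ≠ z ∧ u ≠ p1 ∧ u ≠ p2 ∧ α u ≠ 0) ∧ (v ≠ z ∧ v ≠ p1 ∧ v ≠ p2 ∧ β v ≠ 0) ∧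
      (u = v ∨ (β u = 0 ∧ α v = 0)) := by
    by_cases h1 : β u0 ≠ 0
    · exact ⟨u0, u0, hu0, ⟨hu0.1, hu0.2.1, hu0.2.2.1, h1⟩, Or.inl rfl⟩
    by_cases h2 : α v0 ≠ 0
    · exact ⟨v0, v0, ⟨hv0.1, hv0.2.1, hv0.2.2.1, h2⟩, hv0, Or.inl rfl⟩
    exact ⟨u0, v0, hu0, hv0, Or.inr ⟨not_not.mp h1, not_not.mp h2⟩⟩
  let O : Finset κ := Finset.univ \ {z, p1, p2}
  let R : Finset κ := O \ {u, v}
  have hR8 : Fintype.card κ ≤ R.card + 5 := by
    have h1 := Finset.le_card_sdiff ({u, v} : Finset κ) O
    have h2 := Finset.le_card_sdiff ({z, p1, p2} : Finset κ) Finset.univ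
    have h3 : ({z, p1, p2} : Finset κ).card ≤ 3 := Finset.card_le_three
    have h4 : ({u, v} : Finset κ).card ≤ 2 := Finset.card_le_two
    simp only [R, O] at h1 h2 ⊢
    rw [Finset.card_univ] at h2
    omega
  have hsol : ∀ S ∈ R.powersetCard 2, ∃ y : κ → F, y z = 0 ∧ (∀ c, c ≠ z → y c ≠ 0) ∧ (G *ᵥ y) i = 0 ∧
      (G *ᵥ y) j = 0 ∧ ∀ c ∈ R, y c = if c ∈ S then lam else 1 := by
    intro S _
    let f : κ → F := fun c => if c ∈ S then lam else 1
    set A := ∑ c ∈ (O.erase u).erase v, f c * α c
    set B := ∑ c ∈ (O.erase u).erase v, f c * β c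
    obtain ⟨fu, fv, hfu, hfv, hA, hB⟩ : ∃ fu fv : F, fu ≠ 0 ∧ fv ≠ 0 ∧
        (if u = v then A + fu * α u else A + fu * α u) ≠ 0 ∧ (if u = v then B + fu * β v else B + fv * β v) ≠ 0 := by
      obtain ⟨x, x0, x1, x2⟩ := exists_avoid (by omega : 4 ≤ Fintype.card F) 0 (-A / α u) (-B / β v)
      have e1 : A + x * α u ≠ 0 := fun e => x1 (by
        rw [eq_div_iff hu.2.2.2]; linear_combination e)
      have e2 : B + x * β v ≠ 0 := fun e => x2 (by
        rw [eq_div_iff hv.2.2.2]; linear_combination e)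
      exact ⟨x, x, x0, x0, by rwa [ite_self], by rwa [ite_self]⟩
    let f' : κ → F := fun c => if c = u then fu else if c = v then fv else f c
    have hf' : ∀ c, f' c ≠ 0 := fun c => by simp only [f', f]; split_ifs <;> first | assumption | exact one_ne_zero
    have huO : u ∈ O := by simp [O, hu.1, hu.2.1, hu.2.2.1]
    have hvO : v ∈ O := by simp [O, hv.1, hv.2.1, hv.2.2.1]
    have hval : ∀ γ : κ → F, ∑ c ∈ O, f' c * γ c =
        (if u = v then fu * γ u else fu * γ u + fv * γ v) + ∑ c ∈ (O.erase u).erase v, f c * γ c := by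
      intro γ
      have hcong : ∑ c ∈ (O.erase u).erase v, f' c * γ c = ∑ c ∈ (O.erase u).erase v, f c * γ c :=
        Finset.sum_congr rfl fun c hc => by
          simp only [Finset.mem_erase] at hc
          simp [f', hc.1, hc.2.1]
      split_ifs with huv
      · subst huv
        rw [← hcong, Finset.erase_eq_of_notMem (Finset.notMem_erase u O), ← Finset.add_sum_erase O _ huO]
        simp [f']
      · rw [← Finset.add_sum_erase O _ huO,
          ← Finset.add_sum_erase _ _ (Finset.mem_erase.mpr ⟨Ne.symm huv, hvO⟩), hcong]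
        simp [f', Ne.symm huv]
        ring
    have hSA : ∑ c ∈ O, f' c * α c ≠ 0 := by
      rw [hval]
      rcases hindep with rfl | ⟨-, hαv⟩
      · simpa [A, add_comm] using hA
      · by_cases huv : u = v
        · simpa [A, huv, add_comm] using hA
        · simpa [A, huv, hαv, add_comm] using hA
    have hSB : ∑ c ∈ O, f' c * β c ≠ 0 := by
      rw [hval]
      rcases hindep with rfl | ⟨hβu, -⟩
      · simpa [B, add_comm] using hB
      · by_cases huv : u = v
        · simpa [B, huv, add_comm] using hB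
        · simpa [B, huv, hβu, add_comm] using hB
    let y : κ → F := fun c => if c = z then 0 else if c = p1 then -(∑ c ∈ O, f' c * α c) / Δ else
      if c = p2 then -(∑ c ∈ O, f' c * β c) / Δ else f' c
    have hrow : ∀ k, (G *ᵥ y) k = -(∑ c ∈ O, f' c * α c) / Δ * G k p1 + -(∑ c ∈ O, f' c * β c) / Δ * G k p2 +
        ∑ c ∈ O, f' c * G k c := fun k => by
      have hsp : (Finset.univ : Finset κ) = insert z (insert p1 (insert p2 O)) := by
        ext c; simp [O]; tauto
      rw [mulVec, dotProduct, hsp, Finset.sum_insert (by simp [O, Ne.symm hp1z, Ne.symm hp2z]),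
        Finset.sum_insert (by simp [O, hp12]), Finset.sum_insert (by simp [O])]
      have : ∑ c ∈ O, G k c * y c = ∑ c ∈ O, f' c * G k c := Finset.sum_congr rfl fun c hc => by
        simp only [O, Finset.mem_sdiff, Finset.mem_univ, true_and, Finset.mem_insert, Finset.mem_singleton,
          not_or] at hc
        simp [y, hc.1, hc.2.1, hc.2.2, mul_comm]
      rw [this]
      simp [y, hp1z, hp2z, hp12.symm]
      ring
    refine ⟨y, if_pos rfl, fun c hc => ?_, ?_, ?_, fun c hc => ?_⟩
    · simp only [y, if_neg hc]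
      split_ifs
      · exact div_ne_zero (neg_ne_zero.mpr hSA) hΔ
      · exact div_ne_zero (neg_ne_zero.mpr hSB) hΔ
      · exact hf' c
    · rw [hrow]
      field_simp
      simp only [hα, hβ, Finset.mul_sum, Finset.sum_mul, ← Finset.sum_neg_distrib, ← Finset.sum_add_distrib]
      rw [mul_zero]
      exact Finset.sum_eq_zero fun c _ => by rw [hΔd]; ring
    · rw [hrow]
      field_simp
      simp only [hα, hβ, Finset.mul_sum, Finset.sum_mul, ← Finset.sum_neg_distrib, ← Finset.sum_add_distrib]
      rw [mul_zero]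
      exact Finset.sum_eq_zero fun c _ => by rw [hΔd]; ring
    · simp only [R, O, Finset.mem_sdiff, Finset.mem_univ, true_and, Finset.mem_insert, Finset.mem_singleton,
        not_or] at hc
      simp [y, f', f, hc.1.1, hc.1.2.1, hc.1.2.2, hc.2.1, hc.2.2]
  choose! Y hYz hYne hYi hYj hYR using hsol
  have hmap : ∀ S ∈ R.powersetCard 2, ∃ (c : κ) (e : F), Y S = fun w => e * gm w c := by
    intro S hS
    set t : κ → F := fun w => if w = z then (∏ w ∈ Finset.univ.erase z, Y S w / gm w b)⁻¹ else Y S w / gm w b with ht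
    have hprod : ∏ w, t w = 1 := by
      rw [← Finset.mul_prod_erase _ _ (Finset.mem_univ z),
        Finset.prod_congr rfl (fun w hw => show t w = Y S w / gm w b by simp [ht, Finset.ne_of_mem_erase hw])]
      simp only [ht, if_true]
      refine inv_mul_cancel₀ (Finset.prod_ne_zero_iff.mpr fun w hw => ?_)
      have := Finset.ne_of_mem_erase hw
      exact div_ne_zero (hYne S hS w this) (hx w this)
    obtain ⟨h, hh, hhv⟩ := T.diag t hprod
    have hk : g⁻¹ * h * g ∈ K := K.mul_mem (K.mul_mem (K.inv_mem hg) hh) hg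
    have hcol : ∀ w, ((g⁻¹ * h * g : GL κ F) : Matrix κ κ F) w b = (G *ᵥ Y S) w := fun w => by
      rw [Units.val_mul, Units.val_mul, hhv, mul_assoc, mul_apply, mulVec, dotProduct]
      refine Finset.sum_congr rfl fun c _ => ?_
      rw [diagonal_mul, ← hGd, ← hgmd]
      rcases eq_or_ne c z with rfl | hc
      · rw [hz, hYz S hS, mul_zero]
      · simp [ht, hc, div_mul_cancel₀ _ (hx c hc)]
    by_cases hkm : Mono ((g⁻¹ * h * g : GL κ F) : Matrix κ κ F)
    · obtain ⟨σ, hσ⟩ := hkm
      refine ⟨σ b, (G *ᵥ Y S) (σ b), ?_⟩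
      have : G *ᵥ Y S = Pi.single (σ b) ((G *ᵥ Y S) (σ b)) := funext fun w => by
        rcases eq_or_ne w (σ b) with rfl | hw
        · simp
        · rw [Pi.single_eq_of_ne hw, ← hcol, hσ w b hw]
      have h2 := congrArg (gm *ᵥ ·) this
      simp only [mulVec_mulVec] at h2
      rw [hgmd, hGd, ← Units.val_mul, mul_inv_cancel, Units.val_one, one_mulVec] at h2
      exact h2.trans (funext fun w => by simp [hgmd, hGd, mul_comm])
    · exact absurd (root_two hq T hbig hk hkm hij ((hcol i).trans (hYi S hS)) ((hcol j).trans (hYj S hS))) hR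
  choose! C E hCE using hmap
  obtain ⟨c₁, hc₁⟩ : ∃ c, gm z c ≠ 0 := by
    by_contra hall
    push Not at hall
    exact GL_ne_zero_vecMul g (x := Pi.single z 1) (by simp) (funext fun c => by simpa using hall c)
  have hwS : ∀ S ∈ R.powersetCard 2, ∃ w ∈ R, w ∉ S := fun S hS => by
    have hs := (Finset.mem_powersetCard.mp hS).2
    exact Finset.exists_mem_notMem_of_card_lt_card (by have := hbig; omega)
  have hC1 : ∀ S ∈ R.powersetCard 2, C S ∈ (Finset.univ : Finset κ).erase c₁ := by
    intro S hS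
    refine Finset.mem_erase.mpr ⟨fun e => hc₁ ?_, Finset.mem_univ _⟩
    obtain ⟨w, hwR, hwS'⟩ := hwS S hS
    have h1 := congrFun (hCE S hS) z
    rw [hYz S hS, e] at h1
    refine (mul_eq_zero.mp h1.symm).resolve_left fun hE0 => ?_
    have h2 := congrFun (hCE S hS) w
    rw [hYR S hS w hwR, if_neg hwS', hE0, zero_mul] at h2
    exact one_ne_zero h2
  have hle := Finset.card_le_card_of_injOn (s := R.powersetCard 2) (t := (Finset.univ : Finset κ).erase c₁) C
    hC1 (fun S hS S' hS' hCC => by
      rw [Finset.mem_coe] at hS hS'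
      have hs := Finset.mem_powersetCard.mp hS
      have hs' := Finset.mem_powersetCard.mp hS'
      have hw : ∀ w ∈ R, (if w ∈ S then lam else 1) * E S' = (if w ∈ S' then lam else 1) * E S := fun w hw => by
        rw [← hYR S hS w hw, ← hYR S' hS' w hw, congrFun (hCE S hS) w, congrFun (hCE S' hS') w, hCC]
        ring
      obtain ⟨w0, hw0⟩ : ∃ w, w ∈ R ∧ w ∉ S ∧ w ∉ S' := by
        have h1 := Finset.le_card_sdiff (S ∪ S') R
        have h2 := Finset.card_union_le S S'
        rw [hs.2, hs'.2] at h2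
        have := hbig
        obtain ⟨w, hw⟩ := Finset.card_pos.mp (show 0 < (R \ (S ∪ S')).card by omega)
        simp only [Finset.mem_sdiff, Finset.mem_union, not_or] at hw
        exact ⟨w, hw⟩
      have hE := hw w0 hw0.1
      rw [if_neg hw0.2.1, if_neg hw0.2.2, one_mul, one_mul] at hE
      have hE0 : E S ≠ 0 := fun e => by
        have := hYR S hS w0 hw0.1
        rw [congrFun (hCE S hS) w0, e, zero_mul, if_neg hw0.2.1] at this
        exact zero_ne_one this
      ext w
      by_cases hwR : w ∈ R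
      · have h1 := hw w hwR
        rw [hE] at h1
        have h2 := mul_right_cancel₀ hE0 h1
        by_cases a1 : w ∈ S <;> by_cases a2 : w ∈ S' <;> simp [a1, a2, hl1, Ne.symm hl1] at h2 ⊢
      · exact iff_of_false (fun h => hwR (hs.1 h)) fun h => hwR (hs'.1 h))
  rw [Finset.card_powersetCard, Finset.card_erase_of_mem (Finset.mem_univ _), Finset.card_univ,
    Nat.choose_two_right] at hle
  have hk5 : 5 ≤ R.card := by omega
  have : 4 * R.card ≤ R.card * (R.card - 1) := by
    rw [mul_comm 4]; exact Nat.mul_le_mul_left _ (by omega)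
  omega

theorem exists_root_sl {g : GL κ F} (hg : g ∈ K) (hgm : ¬ Mono (g : Matrix κ κ F)) : Root K := by
  classical
  by_contra hR
  set gm := (g : Matrix κ κ F) with hgmd
  set G := ((g⁻¹ : GL κ F) : Matrix κ κ F) with hGd
  have hgfull : ∀ a c, gm a c ≠ 0 := fun a c h => hR (root_one hq T hbig hg hgm h)
  have hGfull : ∀ a c, G a c ≠ 0 := fun a c h =>
    hR (root_one hq T hbig (K.inv_mem hg) (fun hm => hgm (mono_inv_iff hm)) h)
  haveI : Nonempty κ := Fintype.card_pos_iff.mp (by have := hbig; omega)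
  let b : κ := Classical.arbitrary κ
  have hGg : G * gm = 1 := by rw [hgmd, hGd, ← Units.val_mul, inv_mul_cancel, Units.val_one]
  have hgG : gm * G = 1 := by rw [hgmd, hGd, ← Units.val_mul, mul_inv_cancel, Units.val_one]
  have hmap : ∀ S ∈ (Finset.univ : Finset κ).powersetCard 2, ∃ (c : κ) (e : F) (t : κ → F),
      (fun w => t w * gm w b) = (fun w => e * gm w c) ∧ ∀ w, (t w ≠ 1 ↔ w ∈ S) := by
    intro S hS
    obtain ⟨p, r, hpr, rfl⟩ := Finset.card_eq_two.mp (Finset.mem_powersetCard.mp hS).2
    obtain ⟨i, hib, hne⟩ : ∃ i, i ≠ b ∧ G i p * gm p b ≠ G i r * gm r b := by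
      by_contra hc
      push Not at hc
      set w : κ → F := Pi.single p (gm p b) - Pi.single r (gm r b) with hw
      have h1 : G *ᵥ w = Pi.single b ((G *ᵥ w) b) := funext fun x => by
        rcases eq_or_ne x b with rfl | hx
        · simp
        · rw [Pi.single_eq_of_ne hx, hw, mulVec_sub]
          simp [mul_comm (gm p b), mul_comm (gm r b), hc x hx]
      have h2 := congrArg (gm *ᵥ ·) h1
      simp only [mulVec_mulVec, hgG, one_mulVec] at h2
      obtain ⟨x, hx⟩ : ∃ x, x ∉ ({p, r} : Finset κ) := by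
        by_contra hall
        push Not at hall
        have := (Finset.card_le_card (fun x _ => hall x : (Finset.univ : Finset κ) ⊆ {p, r})).trans Finset.card_le_two
        rw [Finset.card_univ] at this
        have := hbig
        omega
      simp only [Finset.mem_insert, Finset.mem_singleton, not_or] at hx
      have h3 := congrFun h2 x
      simp [hw, hx.1, hx.2, hgfull] at h3
      have h4 := congrFun h2 p
      simp [hw, h3, hpr, hgfull] at h4
    set lam := G i r * gm r b / (G i p * gm p b) with hlam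
    have hp0 : G i p * gm p b ≠ 0 := mul_ne_zero (hGfull _ _) (hgfull _ _)
    have hr0 : G i r * gm r b ≠ 0 := mul_ne_zero (hGfull _ _) (hgfull _ _)
    have hl0 : lam ≠ 0 := div_ne_zero hr0 hp0
    have hl1 : lam ≠ 1 := fun e => hne (by rw [hlam, div_eq_one_iff_eq hp0] at e; exact e.symm)
    set t := pairDiag p r lam with ht
    obtain ⟨h, hh, hhv⟩ := T.diag t (prod_pairDiag hpr hl0)
    have hk : g⁻¹ * h * g ∈ K := K.mul_mem (K.mul_mem (K.inv_mem hg) hh) hg
    have hcol : ∀ x, ((g⁻¹ * h * g : GL κ F) : Matrix κ κ F) x b = (G *ᵥ fun w => t w * gm w b) x := fun x => by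
      rw [Units.val_mul, Units.val_mul, hhv, mul_assoc, mul_apply, mulVec, dotProduct]
      exact Finset.sum_congr rfl fun c _ => by rw [diagonal_mul, ← hGd, ← hgmd]
    have hzero : (G *ᵥ fun w => t w * gm w b) i = 0 := by
      have h0 : ∑ w, G i w * gm w b = 0 := by
        have := congrFun (congrFun hGg i) b
        rwa [mul_apply, one_apply_ne hib] at this
      rw [mulVec, dotProduct, show (∑ w, G i w * (t w * gm w b)) = ∑ w, (G i w * gm w b + (t w - 1) * (G i w * gm w b))
        from Finset.sum_congr rfl fun w _ => by ring, Finset.sum_add_distrib, h0, zero_add,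
        Finset.sum_eq_add p r hpr]
      · simp only [ht, pairDiag, if_true, hpr.symm, if_false]
        rw [show G i r * gm r b = lam * (G i p * gm p b) by rw [hlam, div_mul_cancel₀ _ hp0]]
        field_simp
        ring
      · intro c _ hc
        simp [ht, pairDiag, hc.1, hc.2]
      · simp
      · simp
    by_cases hkm : Mono ((g⁻¹ * h * g : GL κ F) : Matrix κ κ F)
    · obtain ⟨σ, hσ⟩ := hkm
      refine ⟨σ b, (G *ᵥ fun w => t w * gm w b) (σ b), t, ?_, fun w => ?_⟩
      · have : (G *ᵥ fun w => t w * gm w b) = Pi.single (σ b) ((G *ᵥ fun w => t w * gm w b) (σ b)) :=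
          funext fun w => by
            rcases eq_or_ne w (σ b) with rfl | hw
            · simp
            · rw [Pi.single_eq_of_ne hw, ← hcol, hσ w b hw]
        have h2 := congrArg (gm *ᵥ ·) this
        simp only [mulVec_mulVec] at h2
        rw [hgG, one_mulVec] at h2
        exact h2.trans (funext fun w => by simp [mul_comm])
      · simp only [ht, pairDiag, Finset.mem_insert, Finset.mem_singleton]
        split_ifs with h1 h2
        · simp [h1, hl1]
        · simp [h2, inv_eq_one, hl1]
        · simp [h1, h2]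
    · exact absurd (root_one hq T hbig hk hkm ((hcol i).trans hzero)) hR
  choose! C E T' hCE hT using hmap
  have hle := Finset.card_le_card_of_injOn (s := (Finset.univ : Finset κ).powersetCard 2)
    (t := (Finset.univ : Finset κ)) C (fun _ _ => Finset.mem_univ _) (fun S hS S' hS' hCC => by
      rw [Finset.mem_coe] at hS hS'
      have h1 := hCE S hS
      have h2 := hCE S' hS'
      have hw : ∀ w, T' S w * E S' = T' S' w * E S := fun w => by
        refine mul_right_cancel₀ (hgfull w b) ?_
        have e1 := congrFun h1 w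
        have e2 := congrFun h2 w
        rw [hCC] at e1
        linear_combination (E S') * e1 - (E S) * e2
      obtain ⟨w0, hw0⟩ : ∃ w, w ∉ S ∧ w ∉ S' := by
        have h1 := Finset.le_card_sdiff (S ∪ S') (Finset.univ : Finset κ)
        have h2 := Finset.card_union_le S S'
        rw [(Finset.mem_powersetCard.mp hS).2, (Finset.mem_powersetCard.mp hS').2] at h2
        rw [Finset.card_univ] at h1
        have := hbig
        obtain ⟨w, hw⟩ := Finset.card_pos.mp (show 0 < (Finset.univ \ (S ∪ S')).card by omega)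
        simp only [Finset.mem_sdiff, Finset.mem_union, not_or] at hw
        exact ⟨w, hw.2⟩
      have t1 : T' S w0 = 1 := by_contra fun e => hw0.1 ((hT S hS w0).mp e)
      have t2 : T' S' w0 = 1 := by_contra fun e => hw0.2 ((hT S' hS' w0).mp e)
      have hE := hw w0
      rw [t1, t2, one_mul, one_mul] at hE
      have hE0 : E S ≠ 0 := fun e => by
        have := congrFun h1 w0
        rw [e, t1, one_mul, zero_mul] at this
        exact hgfull w0 b this
      ext w
      rw [← hT S hS w, ← hT S' hS' w]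
      have h := hw w
      rw [hE] at h
      rw [mul_right_cancel₀ hE0 h])
  rw [Finset.card_powersetCard, Finset.card_univ, Nat.choose_two_right] at hle
  have hb := hbig
  have : 5 * Fintype.card κ ≤ Fintype.card κ * (Fintype.card κ - 1) := by
    rw [mul_comm 5]; exact Nat.mul_le_mul_left _ (by omega)
  omega

/-- An overgroup of the monomial group is monomial or contains the special linear group. -/
theorem dichotomy {g : GL κ F} (hg : g ∈ K) (hgm : ¬ Mono (g : Matrix κ κ F)) :
    Cfsg.Geo.specialLinear κ F ≤ K := sl_of_root hq T (exists_root_sl hq T hbig hg hgm)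

end Big

end Field

end Cfsg.Lib.Classical.MonoOver
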