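import Mathlib
import Cfsg.Agent.Classical.Linear.MonoSearch

/-! Overgroups of the monomial group in dimension four, over fields with at least seven elements.

An element with two zeros in a column gives a root element. A single zero lets every combination of three columns
occur as a column, so the two-by-two minors of the inverse vanish in pairs, which forces two zeros or the element
`J - 1` in characteristic two. With no zero a pair of torus elements gives a column with two zeros. -/

set_option autoImplicit false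
set_option linter.unusedSimpArgs false
set_option linter.unusedSectionVars false
set_option linter.style.haveILetI false
set_option linter.flexible false

namespace Cfsg.Lib.Classical.MonoOver

open Matrix LinOne
open scoped MatrixGroups

universe u

variable {κ : Type} [Fintype κ] [DecidableEq κ] {F : Type u} [Field F] {K : Subgroup (GL κ F)}

theorem four_perm : ∀ (σ : Equiv.Perm (Fin 4)) (a : Fin 4), σ a = a →
    (∀ j, σ (σ j) = j) ∨ ∀ x, x ≠ a → σ x ≠ x := by
  decide +kernel

theorem four_rest : ∀ i j : Fin 4, i ≠ j →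
    ∃ l m, l ≠ i ∧ l ≠ j ∧ m ≠ i ∧ m ≠ j ∧ l ≠ m ∧ ∀ x, x = i ∨ x = j ∨ x = l ∨ x = m := by
  decide +kernel

theorem exists_rest (h4 : Fintype.card κ = 4) {i j : κ} (hij : i ≠ j) :
    ∃ l m, l ≠ i ∧ l ≠ j ∧ m ≠ i ∧ m ≠ j ∧ l ≠ m ∧ ∀ x, x = i ∨ x = j ∨ x = l ∨ x = m := by
  obtain ⟨e⟩ : Nonempty (κ ≃ Fin 4) := ⟨Fintype.equivFinOfCardEq h4⟩
  obtain ⟨l, m, h1, h2, h3, h4, h5, h6⟩ := four_rest (e i) (e j) (e.injective.ne hij)
  refine ⟨e.symm l, e.symm m, ?_, ?_, ?_, ?_, e.symm.injective.ne h5, fun x => ?_⟩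
  · exact fun h => h1 (by rw [← h, e.apply_symm_apply])
  · exact fun h => h2 (by rw [← h, e.apply_symm_apply])
  · exact fun h => h3 (by rw [← h, e.apply_symm_apply])
  · exact fun h => h4 (by rw [← h, e.apply_symm_apply])
  · rcases h6 (e x) with h | h | h | h
    · exact Or.inl (e.injective h)
    · exact Or.inr (Or.inl (e.injective h))
    · exact Or.inr (Or.inr (Or.inl (by rw [← h, e.symm_apply_apply])))
    · exact Or.inr (Or.inr (Or.inr (by rw [← h, e.symm_apply_apply])))

theorem univ_four {i j l m : κ} (h : ∀ x, x = i ∨ x = j ∨ x = l ∨ x = m) :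
    (Finset.univ : Finset κ) = {i, j, l, m} := by
  ext x
  simpa using h x

theorem sum_four {M : Type*} [AddCommMonoid M] {i j l m : κ} (hij : i ≠ j) (hli : l ≠ i) (hlj : l ≠ j) (hmi : m ≠ i)
    (hmj : m ≠ j) (hlm : l ≠ m) (h : ∀ x, x = i ∨ x = j ∨ x = l ∨ x = m) (f : κ → M) :
    ∑ x, f x = f i + f j + f l + f m := by
  rw [univ_four h, Finset.sum_insert (by simp [hij, hli.symm, hmi.symm]),
    Finset.sum_insert (by simp [hlj.symm, hmj.symm]), Finset.sum_insert (by simp [hlm]), Finset.sum_singleton]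
  abel

theorem prod_four {M : Type*} [CommMonoid M] {i j l m : κ} (hij : i ≠ j) (hli : l ≠ i) (hlj : l ≠ j) (hmi : m ≠ i)
    (hmj : m ≠ j) (hlm : l ≠ m) (h : ∀ x, x = i ∨ x = j ∨ x = l ∨ x = m) (f : κ → M) :
    ∏ x, f x = f i * f j * f l * f m := by
  rw [univ_four h, Finset.prod_insert (by simp [hij, hli.symm, hmi.symm]),
    Finset.prod_insert (by simp [hlj.symm, hmj.symm]), Finset.prod_insert (by simp [hlm]), Finset.prod_singleton,
    mul_assoc, mul_assoc]

variable [Fintype F] (hq : 7 ≤ Fintype.card F) (h4 : Fintype.card κ = 4) (T : Over K)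

include hq in
theorem exists_lam_four : ∃ lam : F, lam ≠ 0 ∧ lam ≠ 1 ∧ lam ^ 2 ≠ 1 ∧ lam ^ 3 ≠ 1 ∧ lam ^ 4 ≠ 1 := by
  classical
  obtain ⟨g, hg⟩ := IsCyclic.exists_generator (α := Fˣ)
  have ho : orderOf g = Fintype.card F - 1 := by
    rw [orderOf_eq_card_of_forall_mem_zpowers hg, Nat.card_eq_fintype_card, Fintype.card_units]
  have key : ∀ k, 0 < k → k ≤ 4 → (g : F) ^ k ≠ 1 := fun k h0 h4 e => by
    have := Nat.le_of_dvd h0 (orderOf_dvd_of_pow_eq_one (Units.ext (by simpa using e) : g ^ k = 1))
    omega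
  exact ⟨g, g.ne_zero, fun e => key 1 one_pos (by omega) (by rw [pow_one, e]), key 2 (by omega) (by omega),
    key 3 (by omega) (by omega), key 4 (by omega) (by omega)⟩

include hq h4 T

/-- A column supported in two places. -/
theorem root_pair {g : GL κ F} (hg : g ∈ K) (hgm : ¬ Mono (g : Matrix κ κ F)) {a p r : κ} (hpr : p ≠ r)
    (h : ∀ i, i ≠ p → i ≠ r → (g : Matrix κ κ F) i a = 0) : Root K := by
  classical
  obtain ⟨lam, hl0, hl1, hl2, hl3, hl4⟩ := exists_lam_four hq
  obtain ⟨s, w, hsp, hsr, hwp, hwr, hsw, hall⟩ := exists_rest h4 hpr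
  set t := pairDiag s w lam with ht
  obtain ⟨D, hD, hDv⟩ := T.diag t (prod_pairDiag hsw hl0)
  set gm := (g : Matrix κ κ F) with hgmd
  set G := ((g⁻¹ : GL κ F) : Matrix κ κ F) with hGd
  have hGg : G * gm = 1 := by rw [hgmd, hGd, ← Units.val_mul, inv_mul_cancel, Units.val_one]
  have hgG : gm * G = 1 := by rw [hgmd, hGd, ← Units.val_mul, mul_inv_cancel, Units.val_one]
  have hkK : g⁻¹ * D * g ∈ K := K.mul_mem (K.mul_mem (K.inv_mem hg) hD) hg
  set k := ((g⁻¹ * D * g : GL κ F) : Matrix κ κ F) with hk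
  have hkv : k = G * diagonal t * gm := by rw [hk, Units.val_mul, Units.val_mul, hDv]
  have hts : t s = lam := by simp [ht, pairDiag]
  have htw : t w = lam⁻¹ := by simp [ht, pairDiag, hsw.symm]
  have htp : t p = 1 := by simp [ht, pairDiag, hsp.symm, hwp.symm]
  have htr : t r = 1 := by simp [ht, pairDiag, hsr.symm, hwr.symm]
  have hcola : ∀ i, k i a = (1 : Matrix κ κ F) i a := fun i => by
    rw [hkv, mul_assoc, ← hGg, mul_apply, mul_apply]
    refine Finset.sum_congr rfl fun c _ => ?_
    rw [diagonal_mul]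
    rcases hall c with rfl | rfl | rfl | rfl
    · rw [htp, one_mul]
    · rw [htr, one_mul]
    · rw [h c hsp hsr, mul_zero]
    · rw [h c hwp hwr, mul_zero]
  by_cases hkm : Mono k
  swap
  · exact root_of_line (by omega) T hkK hkm (s := a) fun i hi => by rw [← hk, hcola, one_apply_ne hi]
  obtain ⟨σ, hσ⟩ := hkm
  have hkaa : k a a = 1 := by rw [hcola, one_apply_eq]
  have hσa : σ a = a := by
    by_contra hne
    rw [hσ a a (Ne.symm hne)] at hkaa
    exact zero_ne_one hkaa
  have hrel : ∀ c j, t c * gm c j = gm c (σ j) * k (σ j) j := fun c j => by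
    have e : gm * k = diagonal t * gm := by rw [hkv, mul_assoc, ← mul_assoc gm G, hgG, one_mul]
    have := congrFun (congrFun e c) j
    rw [mul_apply, Finset.sum_eq_single (σ j) (fun b _ hb => by rw [hσ b j hb, mul_zero]) (by simp),
      diagonal_mul] at this
    exact this.symm
  obtain ⟨e⟩ : Nonempty (κ ≃ Fin 4) := ⟨Fintype.equivFinOfCardEq h4⟩
  rcases four_perm (e.permCongr σ) (e a) (by simp [Equiv.permCongr_apply, hσa]) with hinv | hfree
  · have hσσ : ∀ j, σ (σ j) = j := fun j => by
      have := hinv (e j)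
      simpa [Equiv.permCongr_apply] using this
    -- the rows meet each column inside an eigenspace of the square
    have hsq : ∀ c j, t c ^ 2 * gm c j = gm c j * (k j (σ j) * k (σ j) j) := fun c j => by
      have h1 := hrel c j
      have h2 := hrel c (σ j)
      rw [hσσ] at h2
      linear_combination t c * h1 + k (σ j) j * h2
    obtain ⟨j, hj⟩ : ∃ j, gm s j ≠ 0 := by
      by_contra hc
      push Not at hc
      exact GL_ne_zero_vecMul g (x := Pi.single s 1) (by simp) (funext fun c => by simpa [← hgmd] using hc c)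
    refine root_mono_col (by omega) T hg hgm (a := j) (u := s) fun i hi => ?_
    by_contra hne
    have e1 := hsq s j
    have e2 := hsq i j
    have e3 : t i ^ 2 = t s ^ 2 := mul_right_cancel₀ (mul_ne_zero hne hj)
      (by linear_combination gm s j * e2 - gm i j * e1)
    rcases hall i with rfl | rfl | rfl | rfl
    · rw [htp, hts, one_pow] at e3; exact hl2 e3.symm
    · rw [htr, hts, one_pow] at e3; exact hl2 e3.symm
    · exact hi rfl
    · rw [htw, hts, inv_pow] at e3
      exact hl4 (by
        have := congrArg (· * lam ^ 2) e3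
        simp only [inv_mul_cancel₀ (pow_ne_zero 2 hl0)] at this
        linear_combination -this)
  · -- a three-cycle is excluded by the trace
    have hzero : ∀ x, x ≠ a → k x x = 0 := fun x hx => hσ x x fun hfix => by
      refine hfree (e x) (e.injective.ne hx) ?_
      simp [Equiv.permCongr_apply, ← hfix]
    have htr1 : k.trace = 1 := by
      simp only [Matrix.trace, Matrix.diag]
      rw [Finset.sum_eq_single a (fun x _ hx => hzero x hx) (by simp)]
      exact hkaa
    rw [hkv, Matrix.trace_mul_comm, ← mul_assoc, hgG, one_mul, trace_diagonal,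
      sum_four hpr hsp hsr hwp hwr hsw hall, htp, htr, hts, htw] at htr1
    exfalso
    refine hl3 ?_
    have := congrArg (· * lam) htr1
    simp only [add_mul, inv_mul_cancel₀ hl0] at this
    linear_combination (lam - 1) * this

/-- A row supported in two places. -/
theorem root_pair_row {g : GL κ F} (hg : g ∈ K) (hgm : ¬ Mono (g : Matrix κ κ F)) {z p r : κ} (hpr : p ≠ r)
    (h : ∀ i, i ≠ p → i ≠ r → (g : Matrix κ κ F) z i = 0) : Root K := by
  have e : ((invT g⁻¹ : GL κ F) : Matrix κ κ F) = (g : Matrix κ κ F)ᵀ := by rw [invT_val, inv_inv]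
  refine root_of_dual (root_pair hq h4 T.dual (g := invT g⁻¹) ?_ ?_ (a := z) hpr fun i h1 h2 => ?_)
  · rw [Subgroup.mem_comap]
    have : invT (invT g⁻¹) = g⁻¹ := Units.ext (by
      rw [invT_val, Matrix.coe_units_inv, e, ← transpose_nonsing_inv, transpose_transpose, ← Matrix.coe_units_inv])
    rw [this]
    exact K.inv_mem hg
  · rw [e]
    exact fun hm => hgm (by simpa using mono_transpose hm)
  · rw [e, transpose_apply]
    exact h i h1 h2

theorem col_two {g : GL κ F} (hg : g ∈ K) (hgm : ¬ Mono (g : Matrix κ κ F)) {b p r : κ} (hpr : p ≠ r)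
    (hp : (g : Matrix κ κ F) p b = 0) (hr : (g : Matrix κ κ F) r b = 0) : Root K := by
  obtain ⟨l, m, -, -, -, -, hlm, hall⟩ := exists_rest h4 hpr
  refine root_pair hq h4 T hg hgm (a := b) hlm fun i hl hm => ?_
  rcases hall i with rfl | rfl | rfl | rfl
  · exact hp
  · exact hr
  · exact absurd rfl hl
  · exact absurd rfl hm

theorem row_two {g : GL κ F} (hg : g ∈ K) (hgm : ¬ Mono (g : Matrix κ κ F)) {z p r : κ} (hpr : p ≠ r)
    (hp : (g : Matrix κ κ F) z p = 0) (hr : (g : Matrix κ κ F) z r = 0) : Root K := by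
  obtain ⟨l, m, -, -, -, -, hlm, hall⟩ := exists_rest h4 hpr
  refine root_pair_row hq h4 T hg hgm (z := z) hlm fun i hl hm => ?_
  rcases hall i with rfl | rfl | rfl | rfl
  · exact hp
  · exact hr
  · exact absurd rfl hl
  · exact absurd rfl hm

/-- With one zero in a column every combination of three columns is a column. -/
theorem exists_comb {g : GL κ F} (hg : g ∈ K) {z b o : κ} (hz : (g : Matrix κ κ F) z b = 0)
    (hx : ∀ c, c ≠ z → (g : Matrix κ κ F) c b ≠ 0) {w : κ → F} (ho : w o = 0) (hw : ∀ c, c ≠ o → w c ≠ 0) :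
    ∃ h ∈ K, ∀ i, (h : Matrix κ κ F) i b = ((g : Matrix κ κ F) *ᵥ w) i := by
  classical
  set π := Equiv.swap z o with hπ
  obtain ⟨p, hp, hpc⟩ := T.exists_perm π
  choose ε hε0 hεc hεz using hpc
  have hpi : ∀ j, (p : Matrix κ κ F) (π j) j = ε j := fun j => by
    have := congrFun (hεc j) (π j)
    simpa using this
  set gm := (g : Matrix κ κ F) with hgmd
  set f : κ → F := fun c => w (π c) / (ε c * gm c b) with hf
  set d : κ → F := fun c => if c = z then (∏ c ∈ Finset.univ.erase z, f c)⁻¹ else f c with hd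
  have hf0 : ∀ c, c ≠ z → f c ≠ 0 := fun c hc => div_ne_zero
    (hw _ fun e => hc (π.injective (e.trans (by simp [hπ])))) (mul_ne_zero (hε0 c) (hx c hc))
  have hprod : ∏ c, d c = 1 := by
    rw [← Finset.mul_prod_erase _ _ (Finset.mem_univ z),
      Finset.prod_congr rfl (fun c hc => show d c = f c by simp [hd, Finset.ne_of_mem_erase hc])]
    simp only [hd, if_true]
    exact inv_mul_cancel₀ (Finset.prod_ne_zero_iff.mpr fun c hc => hf0 c (Finset.ne_of_mem_erase hc))
  obtain ⟨D, hD, hDv⟩ := T.diag d hprod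
  refine ⟨g * (p * D * g), K.mul_mem hg (K.mul_mem (K.mul_mem hp hD) hg), fun i => ?_⟩
  rw [Units.val_mul, mul_apply, mulVec, dotProduct]
  refine Finset.sum_congr rfl fun i' _ => ?_
  congr 1
  rw [Units.val_mul, Units.val_mul, hDv, mul_apply, Finset.sum_eq_single (π i')]
  · have e : π (π i') = i' := Equiv.swap_apply_self z o i'
    rw [mul_diagonal, show (p : Matrix κ κ F) i' (π i') = ε (π i') by have h := hpi (π i'); rwa [e] at h]
    by_cases hc : π i' = z
    · rw [hc, ← hgmd, hz, mul_zero]
      rw [← e, hc, show π z = o by simp [hπ], ho]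
    · simp only [hd, if_neg hc, hf, e, ← hgmd]
      have := hε0 (π i')
      have := hx _ hc
      field_simp
  · intro c _ hc
    rw [mul_diagonal, hεz c i' (fun h => hc (by rw [h, Equiv.swap_apply_self])), zero_mul, zero_mul]
  · simp

/-- The pairing of the rows of the inverse. -/
theorem pair_minor (hR : ¬ Root K) {g : GL κ F} (hg : g ∈ K) (hgm : ¬ Mono (g : Matrix κ κ F)) {z b : κ}
    (hz : (g : Matrix κ κ F) z b = 0) {c d i : κ} (hcd : c ≠ d)
    (hic : ((g⁻¹ : GL κ F) : Matrix κ κ F) i c ≠ 0) (hid : ((g⁻¹ : GL κ F) : Matrix κ κ F) i d ≠ 0) :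
    ∃ i', i' ≠ i ∧ ((g⁻¹ : GL κ F) : Matrix κ κ F) i' c * ((g⁻¹ : GL κ F) : Matrix κ κ F) i d =
      ((g⁻¹ : GL κ F) : Matrix κ κ F) i c * ((g⁻¹ : GL κ F) : Matrix κ κ F) i' d := by
  by_contra hno
  push Not at hno
  set G := ((g⁻¹ : GL κ F) : Matrix κ κ F) with hGd
  set gm := (g : Matrix κ κ F) with hgmd
  have hgG : gm * G = 1 := by rw [hgmd, hGd, ← Units.val_mul, mul_inv_cancel, Units.val_one]
  set y : κ → F := Pi.single c (G i d) - Pi.single d (G i c) with hy
  have hGy : ∀ x, (G *ᵥ y) x = G x c * G i d - G i c * G x d := fun x => by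
    rw [hy, mulVec_sub, Pi.sub_apply, mulVec_single, mulVec_single]
    simp [mul_comm]
  obtain ⟨h, hh, hhc⟩ := exists_comb hq h4 T hg hz (o := i)
    (fun c hc e => hR (col_two hq h4 T hg hgm hc e hz))
    (w := G *ᵥ y) (by rw [hGy]; ring) (fun x hx => by rw [hGy, sub_ne_zero]; exact hno x hx)
  have hhc' : ∀ x, (h : Matrix κ κ F) x b = y x := fun x => by rw [hhc, mulVec_mulVec, hgG, one_mulVec]
  refine hR (root_pair hq h4 T hh (fun hm => ?_) (a := b) hcd fun x h1 h2 => ?_)
  · obtain ⟨σ, hσ⟩ := hm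
    have h1 : c = σ b := by
      by_contra hne
      have := hσ c b hne
      rw [hhc', hy] at this
      simp [hcd, hid] at this
    have h2 : d = σ b := by
      by_contra hne
      have := hσ d b hne
      rw [hhc', hy] at this
      simp [hcd.symm, hic] at this
    exact hcd (h1.trans h2.symm)
  · rw [hhc', hy]
    simp [h1, h2]

/-- A combination of two columns of the inverse vanishing in three rows gives a column with two zeros. -/
theorem root_three_rows {g : GL κ F} (hg : g ∈ K) (hgm : ¬ Mono (g : Matrix κ κ F)) {c d o : κ} {α β : F}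
    (hcd : c ≠ d) (hne : α ≠ 0)
    (h : ∀ x, x ≠ o → ((g⁻¹ : GL κ F) : Matrix κ κ F) x c * α + ((g⁻¹ : GL κ F) : Matrix κ κ F) x d * β = 0) :
    Root K := by
  set G := ((g⁻¹ : GL κ F) : Matrix κ κ F) with hGd
  set y : κ → F := Pi.single c α + Pi.single d β with hy
  have hGy : ∀ x, (G *ᵥ y) x = G x c * α + G x d * β := fun x => by
    rw [hy, mulVec_add, Pi.add_apply, mulVec_single, mulVec_single]
    simp [mul_comm]
  have hw : G *ᵥ y = Pi.single o ((G *ᵥ y) o) := funext fun x => by
    rcases eq_or_ne x o with rfl | hx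
    · simp
    · rw [Pi.single_eq_of_ne hx, hGy, h x hx]
  have hy0 : y ≠ 0 := fun e => hne (by simpa [hy, hcd] using congrFun e c)
  have hs : (G *ᵥ y) o ≠ 0 := fun e => GL_ne_zero_mulVec g⁻¹ hy0 (by rw [← hGd, hw, e, Pi.single_zero])
  have hcol : (g : Matrix κ κ F) *ᵥ (G *ᵥ y) = y := by
    rw [mulVec_mulVec, hGd, ← Units.val_mul, mul_inv_cancel, Units.val_one, one_mulVec]
  rw [hw] at hcol
  refine root_pair hq h4 T hg hgm (a := o) hcd fun x h1 h2 => ?_
  have := congrFun hcol x
  rw [mulVec_single] at this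
  simp [hy, h1, h2] at this
  exact this.resolve_right hs

/-- Zeros on the diagonal of the inverse only. -/
theorem root_pattern (hR : ¬ Root K) {N : GL κ F} (hN : N ∈ K) (hdiag : ∀ c, (N : Matrix κ κ F) c c = 0)
    (hoff : ∀ a c, a ≠ c → (N : Matrix κ κ F) a c ≠ 0)
    (hz : ∃ z b, ((N⁻¹ : GL κ F) : Matrix κ κ F) z b = 0)
    (hminor : ∀ a a' c d, a ≠ a' → c ≠ d → a ≠ c → a ≠ d → a' ≠ c → a' ≠ d →
      (N : Matrix κ κ F) a' c * (N : Matrix κ κ F) a d = (N : Matrix κ κ F) a c * (N : Matrix κ κ F) a' d) :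
    False := by
  classical
  obtain ⟨e⟩ : Nonempty (Fin 4 ≃ κ) := ⟨(Fintype.equivFinOfCardEq h4).symm⟩
  set n : Fin 4 → Fin 4 → F := fun i j => (N : Matrix κ κ F) (e i) (e j) with hn
  have n0 : ∀ i j, i ≠ j → n i j ≠ 0 := fun i j hij => hoff _ _ (e.injective.ne hij)
  have nm : ∀ a a' c d, a ≠ a' → c ≠ d → a ≠ c → a ≠ d → a' ≠ c → a' ≠ d → n a' c * n a d = n a c * n a' d :=
    fun a a' c d h1 h2 h3 h4 h5 h6 => hminor _ _ _ _ (e.injective.ne h1) (e.injective.ne h2) (e.injective.ne h3)
      (e.injective.ne h4) (e.injective.ne h5) (e.injective.ne h6)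
  have a01 := n0 0 1 (by decide)
  have a02 := n0 0 2 (by decide)
  have a03 := n0 0 3 (by decide)
  have a10 := n0 1 0 (by decide)
  have a12 := n0 1 2 (by decide)
  have a13 := n0 1 3 (by decide)
  have a21 := n0 2 1 (by decide)
  have a31 := n0 3 1 (by decide)
  set U : Fin 4 → F := ![1, n 1 2 / n 0 2, n 2 1 / n 0 1, n 3 1 / n 0 1] with hU
  set W : Fin 4 → F := ![n 1 0 * n 0 2 / n 1 2, n 0 1, n 0 2, n 0 3] with hW
  have U0 : ∀ i, U i ≠ 0 := fun i => by
    fin_cases i <;> simp [hU, a01, a02, a12, a21, a31]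
  have W0 : ∀ i, W i ≠ 0 := fun i => by
    fin_cases i <;> simp [hW, a01, a02, a03, a10, a12]
  have q1 := nm 0 1 2 3 (by decide) (by decide) (by decide) (by decide) (by decide) (by decide)
  have q2 := nm 0 2 1 3 (by decide) (by decide) (by decide) (by decide) (by decide) (by decide)
  have q3 := nm 0 3 1 2 (by decide) (by decide) (by decide) (by decide) (by decide) (by decide)
  have q4 := nm 1 2 0 3 (by decide) (by decide) (by decide) (by decide) (by decide) (by decide)
  have q5 := nm 1 3 0 2 (by decide) (by decide) (by decide) (by decide) (by decide) (by decide)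
  have v23 : n 2 3 = n 2 1 * n 0 3 / n 0 1 := by
    rw [eq_div_iff a01]; linear_combination -q2
  have v32 : n 3 2 = n 3 1 * n 0 2 / n 0 1 := by
    rw [eq_div_iff a01]; linear_combination -q3
  have v13 : n 1 3 = n 1 2 * n 0 3 / n 0 2 := by
    rw [eq_div_iff a02]; linear_combination -q1
  have v20 : n 2 0 = n 1 0 * n 2 3 / n 1 3 := by
    rw [eq_div_iff a13]; linear_combination q4
  have v30 : n 3 0 = n 1 0 * n 3 2 / n 1 2 := by
    rw [eq_div_iff a12]; linear_combination q5
  have hn' : ∀ i j, n i j = if i = j then 0 else U i * W j := by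
    intro i j
    fin_cases i <;> fin_cases j <;> simp [hU, hW] <;>
      first
        | exact hdiag _
        | rw [v20, v23, v13]; field_simp
        | rw [v30, v32]; field_simp
        | rw [v23]; field_simp
        | rw [v32]; field_simp
        | rw [v13]; field_simp
        | field_simp
  set u : κ → F := fun x => U (e.symm x) with hu
  set v : κ → F := fun x => W (e.symm x) with hv
  have u0 : ∀ x, u x ≠ 0 := fun x => U0 _
  have v0 : ∀ x, v x ≠ 0 := fun x => W0 _
  have hNv : ∀ a c, (N : Matrix κ κ F) a c = if a = c then 0 else u a * v c := fun a c => by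
    have := hn' (e.symm a) (e.symm c)
    simp only [hn, e.apply_symm_apply] at this
    rw [this]
    simp [hu, hv]
  set J : Matrix κ κ F := Matrix.of fun a c => if a = c then 0 else 1 with hJ
  have hNJ : (N : Matrix κ κ F) = diagonal u * J * diagonal v := by
    ext a c
    rw [mul_diagonal, diagonal_mul, hNv]
    simp only [hJ, Matrix.of_apply]
    split_ifs <;> ring
  have hJJ : J * J = (3 : F) • 1 + (2 : F) • J := by
    ext a c
    rw [mul_apply]
    by_cases hac : a = c
    · subst hac
      obtain ⟨j, hj⟩ : ∃ j, j ≠ a := by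
        haveI : Nontrivial κ := Fintype.one_lt_card_iff_nontrivial.mp (by omega)
        exact exists_ne a
      obtain ⟨l, m, h1, h2, h3, h4', h5, hall⟩ := exists_rest h4 hj.symm
      rw [sum_four hj.symm h1 h2 h3 h4' h5 hall]
      simp [hJ, hj, hj.symm, h1, h1.symm, h3, h3.symm]
      norm_num
    · obtain ⟨l, m, h1, h2, h3, h4', h5, hall⟩ := exists_rest h4 hac
      rw [sum_four hac h1 h2 h3 h4' h5 hall]
      simp [hJ, hac, h1.symm, h2, h3.symm, h4']
      norm_num
  by_cases h2 : (2 : F) = 0
  swap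
  · -- the inverse has no zero
    obtain ⟨z, b, hzb⟩ := hz
    set A := diagonal v * ((N⁻¹ : GL κ F) : Matrix κ κ F) * diagonal u with hA
    have hAJ : A * J = 1 := by
      have hvu : diagonal v * diagonal (fun x => (v x)⁻¹) = 1 := by
        rw [diagonal_mul_diagonal, ← diagonal_one]
        exact congrArg _ (funext fun x => mul_inv_cancel₀ (v0 x))
      have e1 : ((N⁻¹ : GL κ F) : Matrix κ κ F) * (diagonal u * J * diagonal v) = 1 := by
        rw [← hNJ, ← Units.val_mul, inv_mul_cancel, Units.val_one]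
      calc A * J = A * J * (diagonal v * diagonal (fun x => (v x)⁻¹)) := by rw [hvu, mul_one]
        _ = diagonal v * (((N⁻¹ : GL κ F) : Matrix κ κ F) * (diagonal u * J * diagonal v)) *
            diagonal (fun x => (v x)⁻¹) := by simp only [hA, mul_assoc]
        _ = 1 := by rw [e1, mul_one, hvu]
    have hAz : A z b = 0 := by rw [hA, mul_diagonal, diagonal_mul, hzb, mul_zero, zero_mul]
    have e2 := congrArg (A * ·) hJJ
    simp only [← mul_assoc, hAJ, one_mul, mul_add, mul_smul_comm, mul_one] at e2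
    have e3 := congrFun (congrFun e2 z) b
    simp only [Matrix.add_apply, Matrix.smul_apply, hAz, smul_eq_mul, mul_zero, zero_add] at e3
    by_cases hzb' : z = b
    · subst hzb'
      simp [hJ, h2, Ne.symm h2] at e3
    · simp [hJ, hzb', one_apply_ne hzb'] at e3
  -- characteristic two
  have hneg : (-1 : F) = 1 := by linear_combination -h2
  haveI : CharP F 2 := CharTwo.of_one_ne_zero_of_two_eq_zero one_ne_zero h2
  have hJv : J = 1 + vecMulVec (fun _ => (1 : F)) (fun _ => (1 : F)) := by
    ext a c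
    simp only [hJ, Matrix.of_apply, Matrix.add_apply, one_apply, vecMulVec_apply, mul_one]
    split_ifs
    · linear_combination -h2
    · ring
  have h40 : ∀ c : F, (fun _ : κ => c) ⬝ᵥ (fun _ => (1 : F)) = 0 := fun c => by
    simp only [dotProduct, mul_one, Finset.sum_const, Finset.card_univ, h4, nsmul_eq_mul, Nat.cast_ofNat]
    linear_combination 2 * c * h2
  have hJdet : J.det = 1 := by rw [hJv, det_one', h40, add_zero]
  have hfourth : ∀ a : F, ∃ s : F, s ^ 4 = a := fun a => by
    obtain ⟨s, hs⟩ := FiniteField.isSquare_of_char_two (ringChar.eq F 2) a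
    obtain ⟨r, hr⟩ := FiniteField.isSquare_of_char_two (ringChar.eq F 2) s
    exact ⟨r, by rw [hs, hr]; ring⟩
  obtain ⟨s, hs⟩ := hfourth (∏ x, u x)
  have hs0 : s ≠ 0 := fun e => by
    rw [e, zero_pow four_ne_zero, eq_comm, Finset.prod_eq_zero_iff] at hs
    obtain ⟨x, -, hx⟩ := hs
    exact u0 x hx
  have huv : (∏ x, u x) * ∏ x, v x = 1 := by
    have := T.det N hN
    rw [hNJ, det_mul, det_mul, det_diagonal, det_diagonal, hJdet, mul_one] at this
    exact this
  have hprodc : ∀ c : F, ∏ _x : κ, c = c ^ 4 := fun c => by rw [Finset.prod_const, Finset.card_univ, h4]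
  obtain ⟨D₁, hD₁, hD₁v⟩ := T.diag (fun x => u x * s⁻¹) (by
    rw [Finset.prod_mul_distrib, hprodc, inv_pow, ← hs, mul_inv_cancel₀ (pow_ne_zero 4 hs0)])
  obtain ⟨D₂, hD₂, hD₂v⟩ := T.diag (fun x => v x * s) (by
    rw [Finset.prod_mul_distrib, hprodc, hs, mul_comm, huv])
  have hOne : One K (fun _ => (1 : F)) (fun _ => (1 : F)) := by
    refine ⟨D₁⁻¹ * N * D₂⁻¹, K.mul_mem (K.mul_mem (K.inv_mem hD₁) hN) (K.inv_mem hD₂), ?_⟩
    have e : (N : Matrix κ κ F) = (D₁ : Matrix κ κ F) * J * (D₂ : Matrix κ κ F) := by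
      rw [hNJ, hD₁v, hD₂v]
      ext a c
      rw [mul_diagonal, diagonal_mul, mul_diagonal, diagonal_mul]
      field_simp
    rw [Units.val_mul, Units.val_mul, e, ← mul_assoc, ← mul_assoc, ← Units.val_mul, inv_mul_cancel, Units.val_one,
      one_mul, mul_assoc, ← Units.val_mul, mul_inv_cancel, Units.val_one, mul_one, hJv]
  -- a transvection with a new centre
  obtain ⟨lam, hl0, hl1, hl2, hl3, -⟩ := exists_lam_four hq
  set m := 1 + lam + lam ^ 2 with hm
  have hm0 : m ≠ 0 := fun e => hl3 (by linear_combination (lam - 1) * e)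
  set t₀ : Fin 4 → F := ![1, lam, lam ^ 2, m] with ht₀
  have t00 : ∀ i, t₀ i ≠ 0 := fun i => by fin_cases i <;> simp [ht₀, hl0, hm0]
  obtain ⟨r, hr⟩ := hfourth (∏ i, t₀ i)
  have hr0 : r ≠ 0 := fun e => by
    rw [e, zero_pow four_ne_zero, eq_comm, Finset.prod_eq_zero_iff] at hr
    obtain ⟨x, -, hx⟩ := hr
    exact t00 x hx
  set t : κ → F := fun x => t₀ (e.symm x) * r⁻¹ with htdef
  have ht0 : ∀ x, t x ≠ 0 := fun x => mul_ne_zero (t00 _) (inv_ne_zero hr0)
  obtain ⟨D, hD, hDv⟩ := T.diag t (by
    simp only [htdef]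
    rw [Finset.prod_mul_distrib, hprodc, inv_pow, hr,
      show (∏ x, t₀ (e.symm x)) = ∏ i, t₀ i from Equiv.prod_comp e.symm t₀]
    exact mul_inv_cancel₀ (Finset.prod_ne_zero_iff.mpr fun i _ => t00 i))
  have hsum : ∀ f : κ → F, ∑ x, f x = f (e 0) + f (e 1) + f (e 2) + f (e 3) := fun f => by
    rw [← Equiv.sum_comp e f, Fin.sum_univ_four]
  have hti : (fun _ => (1 : F)) ᵥ* ((D⁻¹ : GL κ F) : Matrix κ κ F) = fun x => (t x)⁻¹ := by
    have h1 : (fun x => (t x)⁻¹) ᵥ* (D : Matrix κ κ F) = fun _ => (1 : F) := by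
      rw [hDv]; funext x; rw [vecMul_diagonal, inv_mul_cancel₀ (ht0 x)]
    conv_lhs => rw [← h1]
    rw [vecMul_vecMul, ← Units.val_mul, mul_inv_cancel, Units.val_one, vecMul_one]
  have hOne' : One K t (fun x => (t x)⁻¹) := by
    have := hOne.conj hD
    rw [hti] at this
    refine this.congr ?_
    congr 1
    funext x
    rw [hDv, mulVec_diagonal, mul_one]
  have hd1 : (fun x => (t x)⁻¹) ⬝ᵥ t = 0 := by
    simp only [dotProduct, inv_mul_cancel₀ (ht0 _), Finset.sum_const, Finset.card_univ, h4, nsmul_eq_mul,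
      Nat.cast_ofNat, mul_one]
    linear_combination 2 * h2
  have hd2 : (fun _ => (1 : F)) ⬝ᵥ t = 0 := by
    simp only [dotProduct, one_mul, hsum, htdef, e.symm_apply_apply]
    simp [ht₀, hm]
    linear_combination (1 + lam + lam ^ 2) * r⁻¹ * h2
  have hd3 : (fun x => (t x)⁻¹) ⬝ᵥ (fun _ => (1 : F)) ≠ 0 := by
    simp only [dotProduct, mul_one, hsum, htdef, e.symm_apply_apply]
    simp [ht₀]
    intro h
    have h' : (lam + 1) ^ 4 = 0 := by
      field_simp at h
      rw [mul_zero] at h
      have h0 := (mul_eq_zero.mp h).resolve_left hr0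
      rw [hm] at h0
      linear_combination h0 + (lam + lam ^ 2 + lam ^ 3) * h2
    have := pow_eq_zero_iff (n := 4) four_ne_zero |>.mp h'
    exact hl1 (by linear_combination this - h2)
  set C := -((fun x => (t x)⁻¹) ⬝ᵥ (fun _ => (1 : F))) with hC
  have hT1 : One K t (C • fun _ => (1 : F)) := hOne.comm_right hOne' (h40 1) hd1 hd2
  have hC0 : C ≠ 0 := neg_ne_zero.mpr hd3
  -- exchanging two coordinates
  have hx01 : e 0 ≠ e 1 := e.injective.ne (by decide)
  set π := Equiv.swap (e 0) (e 1) with hπ
  set P : Matrix κ κ F := fun a c => if a = π c then 1 else 0 with hPdef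
  have hPP : P * P = 1 := by
    ext a c
    rw [mul_apply, Finset.sum_eq_single (π a)]
    · simp [hPdef, hπ, one_apply]
    · intro d _ hd
      have : a ≠ π d := fun h => hd (by rw [h]; simp [hπ])
      simp [hPdef, this]
    · simp
  have hPdet : P.det = 1 := by
    have : P = π.permMatrix F := by
      ext a c
      have : (c = π a) ↔ a = π c := by constructor <;> rintro rfl <;> simp [hπ]
      simp [hPdef, Equiv.Perm.permMatrix, PEquiv.toMatrix_apply, this, eq_comm]
    rw [this, det_permutation, hπ, Equiv.Perm.sign_swap hx01]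
    simp [hneg]
  let kP : GL κ F := ⟨P, P, hPP, hPP⟩
  have hkP : kP ∈ K := T.fix kP hPdet ⟨π, fun a c h => if_neg h⟩
  have hPv : ∀ (f : κ → F) a, (P *ᵥ f) a = f (π a) := fun f a => by
    have hj : ∀ j, a = π j ↔ j = π a := fun j => by constructor <;> rintro rfl <;> simp [hπ]
    simp [hPdef, mulVec, dotProduct, hj]
  have hT2 := hT1.conj hkP
  rw [vecMul_inv_eq (φ := C • fun _ => (1 : F)) (by
    funext c
    simp [vecMul, dotProduct, kP, hPdef])] at hT2
  have hperp : ∀ f : κ → F, (fun _ => (1 : F)) ⬝ᵥ f = 0 → (C • fun _ => (1 : F)) ⬝ᵥ f = 0 := fun f hf => by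
    rw [smul_dotProduct, hf, smul_zero]
  have hT3 := hT1.addL hT2 (hperp _ (by
    simp only [dotProduct, one_mul]
    rw [Finset.sum_congr rfl fun a _ => show (((kP : GL κ F) : Matrix κ κ F) *ᵥ t) a = t (π a) from hPv t a,
      Equiv.sum_comp π t]
    simpa [dotProduct] using hd2))
  set x := t + ((kP : Matrix κ κ F) *ᵥ t) with hx
  have hxa : ∀ a, x a = t a + t (π a) := fun a => by rw [hx, Pi.add_apply]; congr 1; exact hPv t a
  have htt : ∀ a, t a + t a = 0 := fun a => by linear_combination t a * h2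
  have hsum01 : t (e 0) + t (e 1) ≠ 0 := by
    simp only [htdef, e.symm_apply_apply]
    simp [ht₀]
    intro h
    have : (1 + lam) * r⁻¹ = 0 := by linear_combination h
    exact hl1 (by linear_combination (mul_eq_zero.mp this).resolve_right (inv_ne_zero hr0) - h2)
  obtain ⟨E, hE, hEv⟩ := hT3
  have hπ2 : π (e 2) = e 2 := Equiv.swap_apply_of_ne_of_ne (e.injective.ne (by decide)) (e.injective.ne (by decide))
  have hπ3 : π (e 3) = e 3 := Equiv.swap_apply_of_ne_of_ne (e.injective.ne (by decide)) (e.injective.ne (by decide))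
  refine hR (col_two hq h4 T hE (fun hm => ?_) (b := e 0) (p := e 2) (r := e 3) (e.injective.ne (by decide)) ?_ ?_)
  · obtain ⟨σ, hσ⟩ := hm
    have h1 : e 0 = σ (e 2) := by
      by_contra hne
      have h := hσ (e 0) (e 2) hne
      rw [hEv] at h
      simp only [Matrix.add_apply, one_apply, if_neg (e.injective.ne (show (0 : Fin 4) ≠ 2 by decide)),
        vecMulVec_apply, hxa, Pi.smul_apply, smul_eq_mul, mul_one, zero_add] at h
      rw [show π (e 0) = e 1 by simp [hπ]] at h
      exact mul_ne_zero hsum01 hC0 h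
    have h2' : e 2 = σ (e 2) := by
      by_contra hne
      have h := hσ (e 2) (e 2) hne
      rw [hEv] at h
      simp only [Matrix.add_apply, one_apply_eq, vecMulVec_apply, hxa, hπ2, htt, zero_mul, add_zero] at h
      exact one_ne_zero h
    exact absurd (e.injective (h1.trans h2'.symm)) (by decide)
  · rw [hEv]
    simp [vecMulVec_apply, hxa, hπ2, htt]
  · rw [hEv]
    simp [vecMulVec_apply, hxa, hπ3, htt]

/-- A zero anywhere. -/
theorem root_one_four {g : GL κ F} (hg : g ∈ K) (hgm : ¬ Mono (g : Matrix κ κ F)) {z b : κ}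
    (hz : (g : Matrix κ κ F) z b = 0) : Root K := by
  classical
  by_contra hR
  set gm := (g : Matrix κ κ F) with hgmd
  set G := ((g⁻¹ : GL κ F) : Matrix κ κ F) with hGd
  have hGm : ¬ Mono G := fun hm => hgm (mono_inv_iff hm)
  have hgG : gm * G = 1 := by rw [hgmd, hGd, ← Units.val_mul, mul_inv_cancel, Units.val_one]
  have minor := fun {c d i : κ} => pair_minor hq h4 T hR hg hgm hz (c := c) (d := d) (i := i)
  -- all columns of the inverse or none have a zero
  have hall0 : ∀ {c o : κ}, G o c = 0 → ∀ d, ∃ o', G o' d = 0 := by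
    intro c o ho d
    rcases eq_or_ne c d with rfl | hcd
    · exact ⟨o, ho⟩
    by_contra hd
    push Not at hd
    have hc : ∀ x, x ≠ o → G x c ≠ 0 := fun x hx e => hR (col_two hq h4 T (K.inv_mem hg) hGm hx e ho)
    have key : ∀ i, i ≠ o → ∃ i', i' ≠ i ∧ i' ≠ o ∧ G i' c * G i d = G i c * G i' d := fun i hi => by
      obtain ⟨i', h1, h2⟩ := minor hcd (hc i hi) (hd i)
      refine ⟨i', h1, fun e => ?_, h2⟩
      rw [e, ← hGd, ho, zero_mul] at h2
      exact mul_ne_zero (hc i hi) (hd o) h2.symm
    obtain ⟨i, hio⟩ : ∃ i, i ≠ o := by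
      haveI : Nontrivial κ := Fintype.one_lt_card_iff_nontrivial.mp (by omega)
      exact exists_ne o
    obtain ⟨i', h1, h1o, e1⟩ := key i hio
    obtain ⟨l, m, hlo, hli, hmo, hmi, hlm, hall⟩ := exists_rest h4 hio.symm
    have trip : ∀ x, x ≠ o → G x c * G i d = G i c * G x d := by
      intro x hx
      by_cases hxi : x = i
      · subst hxi; ring
      by_cases hxi' : x = i'
      · subst hxi'; exact e1
      obtain ⟨x', h2, h2o, e2⟩ := key x hx
      have hx' : x' = i ∨ x' = i' := by
        rcases hall x with rfl | rfl | rfl | rfl <;> rcases hall x' with rfl | rfl | rfl | rfl <;>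
          rcases hall i' with rfl | rfl | rfl | rfl <;>
          first | exact Or.inl rfl | exact Or.inr rfl | contradiction
      rcases hx' with rfl | rfl
      · linear_combination -e2
      · refine mul_right_cancel₀ (hc x' h1o) ?_
        linear_combination G x c * e1 - G i c * e2
    refine hR (root_three_rows hq h4 T hg hgm (c := c) (d := d) (o := o) (α := G i d) (β := -G i c) hcd (hd i)
      fun x hx => ?_)
    rw [← hGd]
    linear_combination trip x hx
  by_cases hfull : ∀ a c, G a c ≠ 0
  · -- no zero in the inverse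
    obtain ⟨o, hoz⟩ : ∃ o, o ≠ z := by
      haveI : Nontrivial κ := Fintype.one_lt_card_iff_nontrivial.mp (by omega)
      exact exists_ne z
    obtain ⟨c, d, hco, hcz, hdo, hdz, hcd, hallc⟩ := exists_rest h4 hoz
    obtain ⟨i', hi'b, e1⟩ := minor hcd (hfull b c) (hfull b d)
    rw [← hGd] at e1
    obtain ⟨i0, m, hi0b, hi0i, hmb, hmi, hi0m, hall⟩ := exists_rest h4 hi'b.symm
    obtain ⟨j, hj, e2⟩ := minor hcd (hfull i0 c) (hfull i0 d)
    rw [← hGd] at e2
    by_cases hjm : j = m
    · subst hjm
      set y : κ → F := Pi.single c (G i0 d) - Pi.single d (G i0 c) with hy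
      have hGy : ∀ x, (G *ᵥ y) x = G x c * G i0 d - G i0 c * G x d := fun x => by
        rw [hy, mulVec_sub, Pi.sub_apply, mulVec_single, mulVec_single]
        simp [mul_comm]
      have hy0 : ∀ x, x ≠ c → x ≠ d → y x = 0 := fun x h1 h2 => by simp [hy, h1, h2]
      set w := G *ᵥ y with hw
      have hwy : gm *ᵥ w = y := by rw [hw, mulVec_mulVec, hgG, one_mulVec]
      have hw1 : w i0 = 0 := by rw [hGy]; ring
      have hw2 : w j = 0 := by rw [hGy]; linear_combination e2
      have hexp : ∀ x, y x = gm x b * w b + gm x i' * w i' := fun x => by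
        rw [← hwy, mulVec, dotProduct, sum_four hi'b.symm hi0b hi0i hmb hmi hi0m hall, hw1, hw2, mul_zero,
          mul_zero, add_zero, add_zero]
      rcases eq_or_ne (w i') 0 with h0 | h0
      · have hyo := hexp o
        rw [hy0 o hco.symm hdo.symm, h0, mul_zero, add_zero] at hyo
        rcases mul_eq_zero.mp hyo.symm with h | h
        · exact hR (col_two hq h4 T hg hgm hoz h hz)
        · have hyc := hexp c
          rw [h, h0, mul_zero, mul_zero, add_zero] at hyc
          simp [hy, hcd, hfull] at hyc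
      · have hyz := hexp z
        rw [hy0 z hcz.symm hdz.symm, hgmd, ← hgmd, hz, zero_mul, zero_add] at hyz
        exact hR (row_two hq h4 T hg hgm hi'b.symm hz ((mul_eq_zero.mp hyz.symm).resolve_right h0))
    · -- three proportional rows
      have htr : ∀ x, x ≠ m → G x c * G i0 d = G i0 c * G x d := by
        have eb : G b c * G i0 d = G i0 c * G b d := by
          rcases hall j with rfl | rfl | rfl | rfl
          · exact e2
          · refine mul_right_cancel₀ (hfull j c) ?_
            linear_combination G b c * e2 - G i0 c * e1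
          · exact absurd rfl hj
          · exact absurd rfl hjm
        intro x hx
        rcases hall x with rfl | rfl | rfl | rfl
        · exact eb
        · refine mul_right_cancel₀ (hfull b c) ?_
          linear_combination G x c * eb + G i0 c * e1
        · ring
        · exact absurd rfl hx
      refine hR (root_three_rows hq h4 T hg hgm (c := c) (d := d) (o := m) (α := G i0 d) (β := -G i0 c) hcd
        (hfull i0 d) fun x hx => ?_)
      rw [← hGd]
      linear_combination htr x hx
  · push Not at hfull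
    obtain ⟨o₀, c₀, h00⟩ := hfull
    choose σ hσ using hall0 h00
    have hinj : Function.Injective σ := fun c d hcd => by_contra fun hne =>
      hR (row_two hq h4 T (K.inv_mem hg) hGm hne (hσ c) (hcd ▸ hσ d))
    let s : Equiv.Perm κ := Equiv.ofBijective σ (Finite.injective_iff_bijective.mp hinj)
    have hzero : ∀ a c, a ≠ s c → G a c ≠ 0 := fun a c hac e =>
      hR (col_two hq h4 T (K.inv_mem hg) hGm hac e (hσ c))
    -- move the zeros to the diagonal
    obtain ⟨P, hP, hPc⟩ := T.exists_perm s.symm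
    choose ε hε0 hεc hεz using hPc
    have hNv : ∀ a c, ((P * g⁻¹ : GL κ F) : Matrix κ κ F) a c = ε (s a) * G (s a) c := fun a c => by
      rw [Units.val_mul, mul_apply, Finset.sum_eq_single (s a) (fun x _ hx => by
        rw [hεz x a (fun e => hx (by rw [e, s.apply_symm_apply])), zero_mul]) (by simp), ← hGd]
      congr 1
      have := congrFun (hεc (s a)) a
      simpa using this
    have hdiag : ∀ c, ((P * g⁻¹ : GL κ F) : Matrix κ κ F) c c = 0 := fun c => by
      rw [hNv, show G (s c) c = 0 from hσ c, mul_zero]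
    have hoff : ∀ a c, a ≠ c → ((P * g⁻¹ : GL κ F) : Matrix κ κ F) a c ≠ 0 := fun a c hac => by
      rw [hNv]; exact mul_ne_zero (hε0 _) (hzero _ _ (s.injective.ne hac))
    refine root_pattern hq h4 T hR (K.mul_mem hP (K.inv_mem hg)) hdiag hoff ?_ fun a a' c d haa hcd hac had ha'c ha'd => ?_
    · refine ⟨z, s.symm b, ?_⟩
      have hPi : ∀ i, i ≠ b → ((P⁻¹ : GL κ F) : Matrix κ κ F) i (s.symm b) = 0 :=
        fun i hi => inv_col P (s := b) (t := s.symm b) (fun i hi => hεz b i hi) i hi
      rw [_root_.mul_inv_rev, inv_inv, Units.val_mul, mul_apply]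
      refine Finset.sum_eq_zero fun x _ => ?_
      rcases eq_or_ne x b with rfl | hx
      · rw [← hgmd, hz, zero_mul]
      · rw [hPi x hx, mul_zero]
    · have hsac := hzero _ _ (s.injective.ne hac)
      have hsad := hzero _ _ (s.injective.ne had)
      obtain ⟨i', h1, e⟩ := minor hcd hsac hsad
      rw [← hGd] at e
      obtain ⟨x, rfl⟩ := s.surjective i'
      have hxc : x ≠ c := fun h => by
        rw [h, show G (s c) c = 0 from hσ c, zero_mul] at e
        exact mul_ne_zero hsac (hzero _ _ (s.injective.ne hcd)) e.symm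
      have hxd : x ≠ d := fun h => by
        rw [h, show G (s d) d = 0 from hσ d, mul_zero] at e
        exact mul_ne_zero (hzero _ _ (s.injective.ne hcd.symm)) hsad e
      have hxa : x ≠ a := fun h => h1 (by rw [h])
      obtain ⟨l, m, hla, hlx, hma, hmx, hlm, hall⟩ := exists_rest h4 hxa.symm
      have hxeq : x = a' := by
        rcases hall a' with rfl | rfl | rfl | rfl <;> rcases hall c with rfl | rfl | rfl | rfl <;>
          rcases hall d with rfl | rfl | rfl | rfl <;> first | rfl | contradiction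
      subst hxeq
      rw [hNv, hNv, hNv, hNv]
      linear_combination ε (s x) * ε (s a) * e

/-- An element outside the monomial group gives a root element. -/
theorem exists_root_four {g : GL κ F} (hg : g ∈ K) (hgm : ¬ Mono (g : Matrix κ κ F)) : Root K := by
  classical
  by_contra hR
  set gm := (g : Matrix κ κ F) with hgmd
  set G := ((g⁻¹ : GL κ F) : Matrix κ κ F) with hGd
  have hgfull : ∀ a c, gm a c ≠ 0 := fun a c h => hR (root_one_four hq h4 T hg hgm h)
  have hGfull : ∀ a c, G a c ≠ 0 := fun a c h =>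
    hR (root_one_four hq h4 T (K.inv_mem hg) (fun hm => hgm (mono_inv_iff hm)) h)
  haveI : Nonempty κ := Fintype.card_pos_iff.mp (by omega)
  let b : κ := Classical.arbitrary κ
  have hGg : G * gm = 1 := by rw [hgmd, hGd, ← Units.val_mul, inv_mul_cancel, Units.val_one]
  have hgG : gm * G = 1 := by rw [hgmd, hGd, ← Units.val_mul, mul_inv_cancel, Units.val_one]
  have hmap : ∀ S ∈ (Finset.univ : Finset κ).powersetCard 2, ∃ (c : κ) (e : F) (p r : κ) (lam : F),
      S = {p, r} ∧ p ≠ r ∧ lam ≠ 0 ∧ lam ≠ 1 ∧ c ≠ b ∧ e ≠ 0 ∧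
      ∀ w, pairDiag p r lam w * gm w b = e * gm w c := by
    intro S hS
    obtain ⟨p, r, hpr, rfl⟩ := Finset.card_eq_two.mp (Finset.mem_powersetCard.mp hS).2
    obtain ⟨x, -, hxp, hxr, -, -, -, -⟩ := exists_rest h4 hpr
    obtain ⟨i, hib, hne⟩ : ∃ i, i ≠ b ∧ G i p * gm p b ≠ G i r * gm r b := by
      by_contra hc
      push Not at hc
      set w : κ → F := Pi.single p (gm p b) - Pi.single r (gm r b) with hw
      have h1 : G *ᵥ w = Pi.single b ((G *ᵥ w) b) := funext fun x => by
        rcases eq_or_ne x b with rfl | hx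
        · simp
        · rw [Pi.single_eq_of_ne hx, hw, mulVec_sub]
          simp [mul_comm (gm p b), mul_comm (gm r b), hc x hx]
      have h2 := congrArg (gm *ᵥ ·) h1
      simp only [mulVec_mulVec, hgG, one_mulVec] at h2
      have h3 := congrFun h2 x
      simp [hw, hxp, hxr, hgfull] at h3
      have h4 := congrFun h2 p
      simp [hw, h3, hpr, hgfull] at h4
    set lam := G i r * gm r b / (G i p * gm p b) with hlam
    have hp0 : G i p * gm p b ≠ 0 := mul_ne_zero (hGfull _ _) (hgfull _ _)
    have hr0 : G i r * gm r b ≠ 0 := mul_ne_zero (hGfull _ _) (hgfull _ _)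
    have hl0 : lam ≠ 0 := div_ne_zero hr0 hp0
    have hl1 : lam ≠ 1 := fun e => hne (by rw [hlam, div_eq_one_iff_eq hp0] at e; exact e.symm)
    set t := pairDiag p r lam with ht
    obtain ⟨h, hh, hhv⟩ := T.diag t (prod_pairDiag hpr hl0)
    have hk : g⁻¹ * h * g ∈ K := K.mul_mem (K.mul_mem (K.inv_mem hg) hh) hg
    have hcol : ∀ x, ((g⁻¹ * h * g : GL κ F) : Matrix κ κ F) x b = (G *ᵥ fun w => t w * gm w b) x := fun x => by
      rw [Units.val_mul, Units.val_mul, hhv, mul_assoc, mul_apply, mulVec, dotProduct]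
      exact Finset.sum_congr rfl fun c _ => by rw [diagonal_mul, ← hGd, ← hgmd]
    have hzero : (G *ᵥ fun w => t w * gm w b) i = 0 := by
      have h0 : ∑ w, G i w * gm w b = 0 := by
        have := congrFun (congrFun hGg i) b
        rwa [mul_apply, one_apply_ne hib] at this
      rw [mulVec, dotProduct, show (∑ w, G i w * (t w * gm w b)) = ∑ w, (G i w * gm w b + (t w - 1) * (G i w * gm w b))
        from Finset.sum_congr rfl fun w _ => by ring, Finset.sum_add_distrib, h0, zero_add,
        Finset.sum_eq_add p r hpr]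
      · simp only [ht, pairDiag, if_true, hpr.symm, if_false]
        rw [show G i r * gm r b = lam * (G i p * gm p b) by rw [hlam, div_mul_cancel₀ _ hp0]]
        field_simp
        ring
      · intro c _ hc
        simp [ht, pairDiag, hc.1, hc.2]
      · simp
      · simp
    have hkm : Mono ((g⁻¹ * h * g : GL κ F) : Matrix κ κ F) := by
      by_contra hkm
      exact hR (root_one_four hq h4 T hk hkm ((hcol i).trans hzero))
    obtain ⟨σ, hσ⟩ := hkm
    set e := (G *ᵥ fun w => t w * gm w b) (σ b) with hedef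
    have heq : (fun w => t w * gm w b) = fun w => e * gm w (σ b) := by
      have : (G *ᵥ fun w => t w * gm w b) = Pi.single (σ b) e := funext fun w => by
        rcases eq_or_ne w (σ b) with rfl | hw
        · rw [Pi.single_eq_same, hedef]
        · rw [Pi.single_eq_of_ne hw, ← hcol, hσ w b hw]
      have h2 := congrArg (gm *ᵥ ·) this
      simp only [mulVec_mulVec] at h2
      rw [hgG, one_mulVec] at h2
      exact h2.trans (funext fun w => by simp [mul_comm])
    have htx : t x = 1 := by simp [ht, pairDiag, hxp, hxr]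
    have hex := congrFun heq x
    simp only [htx, one_mul] at hex
    have he0 : e ≠ 0 := fun h => hgfull x b (by rw [hex, h, zero_mul])
    refine ⟨σ b, e, p, r, lam, rfl, hpr, hl0, hl1, fun hc => ?_, he0, congrFun heq⟩
    rw [hc] at hex
    have he1 : e = 1 := mul_right_cancel₀ (hgfull x b) (by rw [← hex, one_mul])
    have hp := congrFun heq p
    simp only [hc, he1, one_mul, ht, pairDiag, if_true] at hp
    exact hl1 (mul_eq_right₀ (hgfull p b) |>.mp hp)
  choose! C E P R L hSP hPR hL0 hL1 hCb hE0 hCE using hmap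
  obtain ⟨S, hS, S', hS', hne, hCC⟩ := Finset.exists_ne_map_eq_of_card_lt_of_maps_to
    (s := (Finset.univ : Finset κ).powersetCard 2) (t := Finset.univ.erase b) (f := C) (by
      rw [Finset.card_powersetCard, Finset.card_univ, h4, Finset.card_erase_of_mem (Finset.mem_univ b),
        Finset.card_univ, h4]
      decide) (fun S hS => Finset.mem_erase.mpr ⟨hCb S hS, Finset.mem_univ _⟩)
  set p := P S
  set r := R S
  set lam := L S
  have hpr : p ≠ r := hPR S hS
  obtain ⟨l, m, hlp, hlr, hmp, hmr, hlm, hall⟩ := exists_rest h4 hpr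
  have hw : ∀ w, pairDiag p r lam w * E S' = pairDiag (P S') (R S') (L S') w * E S := fun w => by
    refine mul_right_cancel₀ (hgfull w b) ?_
    have e1 := hCE S hS w
    have e2 := hCE S' hS' w
    rw [hCC] at e1
    linear_combination (E S') * e1 - (E S) * e2
  -- the two pairs are complementary
  have hout : ∀ w, w = l ∨ w = m → w = P S' ∨ w = R S' := by
    intro w₀ hw₀
    by_contra hnot
    push Not at hnot
    have t1 : pairDiag p r lam w₀ = 1 := by
      rcases hw₀ with rfl | rfl <;> simp [pairDiag, hlp, hlr, hmp, hmr]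
    have t2 : pairDiag (P S') (R S') (L S') w₀ = 1 := by simp [pairDiag, hnot.1, hnot.2]
    have hE := hw w₀
    rw [t1, t2, one_mul, one_mul] at hE
    have hsame : ∀ w, pairDiag p r lam w = pairDiag (P S') (R S') (L S') w := fun w =>
      mul_right_cancel₀ (hE0 S hS) (by have := hw w; rwa [hE] at this)
    refine hne ?_
    have hl : lam⁻¹ ≠ 1 := fun h => hL1 S hS (inv_eq_one.mp h)
    have hl' : (L S')⁻¹ ≠ 1 := fun h => hL1 S' hS' (inv_eq_one.mp h)
    rw [hSP S hS, hSP S' hS']
    ext w
    have h := hsame w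
    simp only [pairDiag] at h
    simp only [Finset.mem_insert, Finset.mem_singleton]
    constructor
    · rintro (rfl | rfl) <;> by_contra hno <;> push Not at hno <;>
        simp [p, r, lam, hno.1, hno.2, hPR S hS, (hPR S hS).symm, hL1 S hS, inv_eq_one, hl] at h
    · intro hw'
      by_contra hno
      push Not at hno
      rw [if_neg hno.1, if_neg hno.2] at h
      rcases hw' with rfl | rfl
      · rw [if_pos rfl] at h; exact hL1 S' hS' h.symm
      · rw [if_neg (hPR S' hS').symm, if_pos rfl] at h; exact hl' h.symm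
  have hp' : p ≠ P S' ∧ p ≠ R S' ∧ r ≠ P S' ∧ r ≠ R S' := by
    rcases hout l (Or.inl rfl) with h1 | h1 <;> rcases hout m (Or.inr rfl) with h2 | h2
    · exact absurd (h1.trans h2.symm) hlm
    · exact ⟨h1 ▸ hlp.symm, h2 ▸ hmp.symm, h1 ▸ hlr.symm, h2 ▸ hmr.symm⟩
    · exact ⟨h2 ▸ hmp.symm, h1 ▸ hlp.symm, h2 ▸ hmr.symm, h1 ▸ hlr.symm⟩
    · exact absurd (h1.trans h2.symm) hlm
  have e1 := hw p
  have e2 := hw r
  simp only [pairDiag, if_true, if_neg hpr.symm, if_neg hp'.1, if_neg hp'.2.1, if_neg hp'.2.2.1, if_neg hp'.2.2.2,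
    one_mul] at e1 e2
  have hlam2 : lam * lam = 1 := by
    have h0 : E S' ≠ 0 := hE0 S' hS'
    refine mul_right_cancel₀ h0 ?_
    linear_combination lam * e1 - lam * e2 + E S' * mul_inv_cancel₀ (hL0 S hS)
  have hlam : lam = -1 := (mul_self_eq_one_iff.mp hlam2).resolve_left (hL1 S hS)
  have h2 : (2 : F) ≠ 0 := fun h => hL1 S hS (show lam = 1 by rw [hlam]; linear_combination -h)
  -- a column with two zeros
  obtain ⟨a, ha0, ha1, ha2, -, ha4⟩ := exists_lam_four hq
  set c := C S
  set e := E S
  set t : κ → F := fun w => if w = p ∨ w = r then a⁻¹ else a with htdef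
  obtain ⟨D, hD, hDv⟩ := T.diag t (by
    rw [prod_four hpr hlp hlr hmp hmr hlm hall]
    simp [htdef, hlp, hlr, hmp, hmr]
    field_simp)
  set α := (a + a⁻¹) / 2 with hα
  set β := (a - a⁻¹) / 2 with hβ
  have hcomb : (fun w => t w * gm w b) = gm *ᵥ (Pi.single b α + Pi.single c (β * e)) := by
    funext w
    rw [mulVec_add, Pi.add_apply, mulVec_single, mulVec_single]
    have hce := hCE S hS w
    simp only [Pi.smul_apply, col_apply, MulOpposite.smul_eq_mul_unop, MulOpposite.unop_op]
    rw [show gm w c * (β * e) = β * (pairDiag p r lam w * gm w b) by rw [hce]; ring]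
    simp only [htdef, pairDiag, hlam, inv_neg, inv_one, hα, hβ]
    by_cases h1 : w = p
    · simp [h1]; field_simp; ring
    · by_cases h2' : w = r
      · simp [h2', hpr.symm]; field_simp; ring
      · simp [h1, h2']; field_simp; ring
  have hk : g⁻¹ * D * g ∈ K := K.mul_mem (K.mul_mem (K.inv_mem hg) hD) hg
  have hcol : ∀ x, ((g⁻¹ * D * g : GL κ F) : Matrix κ κ F) x b =
      (Pi.single b α + Pi.single c (β * e) : κ → F) x := fun x => by
    have h : (G *ᵥ fun w => t w * gm w b) = Pi.single b α + Pi.single c (β * e) := by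
      rw [hcomb, mulVec_mulVec, hGg, one_mulVec]
    rw [← congrFun h x, Units.val_mul, Units.val_mul, hDv, mul_assoc, mul_apply, mulVec, dotProduct]
    exact Finset.sum_congr rfl fun c _ => by rw [diagonal_mul, ← hGd, ← hgmd]
  have hcb : c ≠ b := hCb S hS
  have hα0 : α ≠ 0 := by
    rw [hα]
    refine div_ne_zero (fun h => ha4 ?_) h2
    have : a * a = -1 := by
      have := congrArg (· * a) h
      simp only [add_mul, inv_mul_cancel₀ ha0, zero_mul] at this
      linear_combination this
    linear_combination (a * a - 1) * this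
  have hβ0 : β ≠ 0 := by
    rw [hβ]
    refine div_ne_zero (fun h => ha2 ?_) h2
    have := congrArg (· * a) h
    simp only [sub_mul, inv_mul_cancel₀ ha0, zero_mul] at this
    linear_combination this
  refine hR (root_pair hq h4 T hk (fun hm => ?_) (a := b) hcb.symm fun i h1 h2 => ?_)
  · obtain ⟨σ, hσ⟩ := hm
    have h1 : b = σ b := by
      by_contra hne
      have := hσ b b hne
      rw [hcol] at this
      simp [hcb.symm, hα0] at this
    have h2 : c = σ b := by
      by_contra hne
      have := hσ c b hne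
      rw [hcol] at this
      simp [hcb, hβ0, e, hE0 S hS] at this
    exact hcb (h2.trans h1.symm)
  · rw [hcol]
    simp [h1, h2]

/-- In dimension four an overgroup of the monomial group is monomial or contains the special linear group. -/
theorem dichotomy_four {g : GL κ F} (hg : g ∈ K) (hgm : ¬ Mono (g : Matrix κ κ F)) :
    Cfsg.Geo.specialLinear κ F ≤ K :=
  sl_of_root (by omega) T (exists_root_four hq h4 T hg hgm)

end Cfsg.Lib.Classical.MonoOver
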