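import Mathlib
import Cfsg.Prelude.Def_GeometricClasses
import Cfsg.Agent.Classical.Misc.MonomialOver
import Cfsg.Agent.Classical.Linear.BlockOvergroups
import Cfsg.Agent.Classical.Linear.MonoFour

/-! The stabiliser of a decomposition into equal blocks is maximal in the special linear group. -/

set_option autoImplicit false
set_option linter.unusedSimpArgs false
set_option linter.unusedSectionVars false
set_option linter.style.haveILetI false
set_option linter.flexible false

namespace Cfsg.Lib.Classical.LinDecomp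

open Matrix LinOne
open scoped MatrixGroups

universe u

variable {F : Type u} [Field F]

theorem exists_signed {κ : Type} [Fintype κ] [DecidableEq κ] (τ : Equiv.Perm κ) :
    ∃ h : GL κ F, (h : Matrix κ κ F).det = 1 ∧ ∀ i j, i ≠ τ j → (h : Matrix κ κ F) i j = 0 := by
  rcases isEmpty_or_nonempty κ with he | hne
  · exact ⟨1, by simp, fun i => isEmptyElim i⟩
  let a₀ : κ := Classical.arbitrary κ
  let ε : κ → F := fun j => if j = a₀ then ((Equiv.Perm.sign τ : ℤ) : F) else 1
  let A : Matrix κ κ F := fun i j => if i = τ j then ε j else 0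
  have hA : A = τ⁻¹.permMatrix F * diagonal ε := by
    ext i j
    have : (j = τ.symm i) ↔ i = τ j := by constructor <;> rintro rfl <;> simp
    simp [A, mul_diagonal, PEquiv.toMatrix_apply, Equiv.Perm.permMatrix, this, eq_comm]
  have hdet : A.det = 1 := by
    rw [hA, det_mul, det_permutation, det_diagonal, Finset.prod_ite_eq' Finset.univ a₀]
    rw [if_pos (Finset.mem_univ _), Equiv.Perm.sign_inv, ← Int.cast_mul]
    simp [← Units.val_mul, Int.units_mul_self]
  exact ⟨Matrix.GeneralLinearGroup.mkOfDetNeZero A (by rw [hdet]; exact one_ne_zero), hdet, fun i j hij => if_neg hij⟩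

variable {n t m : ℕ} {D : Fin t → Submodule F (Fin n → F)}

theorem maximal_of [Fintype F]
    (hn : ((n = 6 ∨ 10 ≤ n) ∧ ¬ (m = 1 ∧ Fintype.card F ≤ 4) ∧ ¬ (m = 2 ∧ Fintype.card F = 2)) ∨
      (n = 4 ∧ (m = 1 → 7 ≤ Fintype.card F) ∧ (m = 2 → 4 ≤ Fintype.card F)))
    (hD : Cfsg.Geo.IsMDecomposition m D) :
    Cfsg.Geo.IsMaximalIn (Cfsg.Geo.specialLinear (Fin n) F)
      (Cfsg.Geo.decompositionStabilizer D ⊓ Cfsg.Geo.specialLinear (Fin n) F) := by
  classical
  obtain ⟨b, hb⟩ := exists_adapted_basis hD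
  have hnt : n = t * m := by simpa using Module.finrank_eq_card_basis b
  have hmem : ∀ i x, x ∈ D i ↔ ∀ a : Fin t × Fin m, a.1 ≠ i → b.repr x a = 0 := by
    intro i
    let S : Submodule F (Fin n → F) := Submodule.span F (Set.range fun k : Fin m => b (i, k))
    have hS : ∀ x, (∀ a : Fin t × Fin m, a.1 ≠ i → b.repr x a = 0) → x ∈ S := fun x hx => by
      rw [← b.sum_repr x]
      refine Submodule.sum_mem _ fun a _ => ?_
      by_cases ha : a.1 = i
      · exact Submodule.smul_mem _ _ (Submodule.subset_span ⟨a.2, by rw [← ha]⟩)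
      · rw [hx a ha, zero_smul]; exact zero_mem _
    have hle : D i ≤ S := fun x hx => hS x fun a ha => hb i x hx a.1 a.2 ha
    have heq : D i = S := Submodule.eq_of_le_of_finrank_le hle (by
      rw [hD.finrank_eq]
      exact (finrank_range_le_card (R := F) fun k : Fin m => b (i, k)).trans (Fintype.card_fin m).le)
    exact fun x => ⟨fun hx a ha => hb i x hx a.1 a.2 ha, fun hx => heq ▸ hS x hx⟩
  have hbmem : ∀ c : Fin t × Fin m, b c ∈ D c.1 := fun c => (hmem _ _).mpr fun a ha => by
    rw [b.repr_self]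
    exact Finsupp.single_eq_of_ne (fun e => ha (by rw [e]))
  let e : GL (Fin n) F ≃* GL (Fin t × Fin m) F :=
    Units.mapEquiv ((Matrix.toLinAlgEquiv').trans (LinearMap.toMatrixAlgEquiv b)).toMulEquiv
  have hentry : ∀ (g : GL (Fin n) F) a c,
      (e g : Matrix (Fin t × Fin m) (Fin t × Fin m) F) a c = b.repr ((g : Matrix (Fin n) (Fin n) F) *ᵥ b c) a := fun g a c => by
    show LinearMap.toMatrixAlgEquiv b (Matrix.toLinAlgEquiv' (g : Matrix (Fin n) (Fin n) F)) a c = _
    rw [LinearMap.toMatrixAlgEquiv_apply]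
    rfl
  have hdet : ∀ g : GL (Fin n) F, (e g : Matrix (Fin t × Fin m) (Fin t × Fin m) F).det = (g : Matrix (Fin n) (Fin n) F).det := fun g => by
    show (LinearMap.toMatrix b b (Matrix.toLin' (g : Matrix (Fin n) (Fin n) F))).det = _
    rw [LinearMap.det_toMatrix, LinearMap.det_toLin']
  have hSL : ∀ g : GL (Fin n) F, g ∈ Cfsg.Geo.specialLinear (Fin n) F ↔ (g : Matrix (Fin n) (Fin n) F).det = 1 := by
    intro g
    rw [← Matrix.GeneralLinearGroup.val_det_apply, Units.val_eq_one]
    rfl
  have hstab : ∀ g, g ∈ Cfsg.Geo.decompositionStabilizer D ↔ BlockOver.Blocky (e g : Matrix (Fin t × Fin m) (Fin t × Fin m) F) := by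
    intro g
    constructor
    · rintro ⟨σ, hσ⟩
      refine ⟨σ, fun a c hac => ?_⟩
      rw [hentry]
      exact (hmem _ _).mp (mulVec_mem_of_decomposition hσ (hbmem c)) a hac
    · rintro ⟨σ, hσ⟩
      refine ⟨σ, fun i => ?_⟩
      refine Submodule.eq_of_le_of_finrank_le ?_ ?_
      · rintro _ ⟨x, hx, rfl⟩
        rw [Matrix.toLin'_apply]
        refine (hmem _ _).mpr fun a ha => ?_
        rw [← b.sum_repr x, Matrix.mulVec_sum]
        simp only [Matrix.mulVec_smul, map_sum, map_smul, Finsupp.coe_finset_sum, Finset.sum_apply, Finsupp.coe_smul,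
          Pi.smul_apply]
        refine Finset.sum_eq_zero fun c _ => ?_
        by_cases hc : c.1 = i
        · rw [← hentry, hσ a c (by rw [hc]; exact ha), smul_zero]
        · rw [(hmem _ _).mp hx c hc, zero_smul]
      · rw [hD.finrank_eq]
        have hinj : Function.Injective (Matrix.toLin' (g : Matrix (Fin n) (Fin n) F)) := fun x y h => by
          by_contra hne
          refine LinOne.GL_ne_zero_mulVec g (sub_ne_zero.mpr hne) ?_
          rw [Matrix.mulVec_sub, sub_eq_zero]
          simpa using h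
        rw [← LinearEquiv.finrank_eq (Submodule.equivMapOfInjective _ hinj (D i)), hD.finrank_eq]
  -- proper
  refine ⟨lt_of_le_of_ne inf_le_right fun he => ?_, fun K hK1 hK2 => ?_⟩
  · let i0 : Fin t := ⟨0, by have := hD.two_le; omega⟩
    let i1 : Fin t := ⟨1, by have := hD.two_le; omega⟩
    have h01 : i0 ≠ i1 := by simp [i0, i1, Fin.ext_iff]
    let k0 : Fin m := ⟨0, hD.pos⟩
    have hd : 1 + (Pi.single (i1, k0) 1 : Fin t × Fin m → F) ⬝ᵥ Pi.single (i0, k0) 1 = 1 := by
      simp [Pi.single_apply, h01, Ne.symm h01]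
    let T := LinOne.mkGL (Pi.single (i0, k0) 1 : Fin t × Fin m → F) (Pi.single (i1, k0) 1) (by rw [hd]; exact one_ne_zero)
    have hT : e.symm T ∈ Cfsg.Geo.specialLinear (Fin n) F := by
      rw [hSL, ← hdet, MulEquiv.apply_symm_apply, LinOne.mkGL_val, LinOne.det_one', hd]
    obtain ⟨σ, hσ⟩ := (hstab _).mp (he.symm ▸ hT : e.symm T ∈ Cfsg.Geo.decompositionStabilizer D ⊓ _).1
    rw [MulEquiv.apply_symm_apply, LinOne.mkGL_val] at hσ
    have e1 : σ i1 = i1 := by
      by_contra hne
      have := hσ (i1, k0) (i1, k0) (Ne.symm hne)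
      simp [vecMulVec_apply, h01, Ne.symm h01] at this
    have := hσ (i0, k0) (i1, k0) (by rw [e1]; exact h01)
    simp [vecMulVec_apply, h01] at this
  let K' : Subgroup (GL (Fin t × Fin m) F) := K.map e.toMonoidHom
  have hin : ∀ A : GL (Fin t × Fin m) F, (A : Matrix (Fin t × Fin m) (Fin t × Fin m) F).det = 1 → BlockOver.Blocky (A : Matrix (Fin t × Fin m) (Fin t × Fin m) F) → A ∈ K' := by
    intro A hA hB
    refine ⟨e.symm A, hK1 ⟨(hstab _).mpr (by rwa [MulEquiv.apply_symm_apply]), (hSL _).mpr ?_⟩, e.apply_symm_apply A⟩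
    rw [← hdet, MulEquiv.apply_symm_apply, hA]
  by_cases hall : ∀ g ∈ K, BlockOver.Blocky (e g : Matrix (Fin t × Fin m) (Fin t × Fin m) F)
  · exact Or.inl (le_antisymm (fun g hg => ⟨(hstab g).mpr (hall g hg), hK2 hg⟩) hK1)
  push Not at hall
  obtain ⟨g, hg, hgb⟩ := hall
  refine Or.inr (le_antisymm hK2 fun x hx => ?_)
  suffices hle : Cfsg.Geo.specialLinear (Fin t × Fin m) F ≤ K' by
    obtain ⟨y, hy, hye⟩ := hle (show e x ∈ Cfsg.Geo.specialLinear (Fin t × Fin m) F from MonoidHom.mem_ker.mpr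
      (Units.ext (by rw [Matrix.GeneralLinearGroup.val_det_apply, hdet, (hSL x).mp hx, Units.val_one])))
    have : y = x := e.injective hye
    rwa [← this]
  have hg' : e g ∈ K' := ⟨g, hg, rfl⟩
  rcases Nat.lt_or_ge m 2 with hm | hm
  · have hm1 : m = 1 := by have := hD.pos; omega
    subst hm1
    have hbm : ∀ A : Matrix (Fin t × Fin 1) (Fin t × Fin 1) F, MonoOver.Mono A → BlockOver.Blocky A := by
      rintro A ⟨σ, hσ⟩
      refine ⟨(Equiv.prodUnique (Fin t) (Fin 1)).permCongr σ, fun a c hac => hσ a c fun e => hac ?_⟩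
      rw [e, show c = (c.1, default) from Prod.ext rfl (Subsingleton.elim _ _)]
      simp [Equiv.permCongr_apply]
    have hmb : ∀ A : Matrix (Fin t × Fin 1) (Fin t × Fin 1) F, BlockOver.Blocky A → MonoOver.Mono A := by
      rintro A ⟨σ, hσ⟩
      refine ⟨σ.prodCongr (Equiv.refl _), fun a c hac => hσ a c fun e => hac ?_⟩
      exact Prod.ext e (Subsingleton.elim _ _)
    have T : MonoOver.Over K' :=
      { det := by
          rintro _ ⟨y, hy, rfl⟩
          show (e y : Matrix (Fin t × Fin 1) (Fin t × Fin 1) F).det = 1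
          rw [hdet, ← hSL]
          exact hK2 hy
        fix := fun A hA hAm => hin A hA (hbm _ hAm)
        big := by simp; omega }
    have hκ : Fintype.card (Fin t × Fin 1) = n := by simp; omega
    rcases hn with ⟨hbig, h1, -⟩ | ⟨h4, h7, -⟩
    · exact MonoOver.dichotomy (by by_contra hq; exact h1 ⟨rfl, by omega⟩) T (hκ.symm ▸ hbig) hg' fun hm => hgb (hbm _ hm)
    · exact MonoOver.dichotomy_four (h7 rfl) (hκ.trans h4) T hg' fun hm => hgb (hbm _ hm)
  · refine BlockOver.dichotomy (fun A hA hF => hin A hA ⟨1, fun a c h => hF a c (by simpa using h)⟩) hm ?_ (fun π => ?_)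
      hg' hgb
    · rcases Nat.lt_or_ge m 3 with hm3 | hm3
      · have hm2 : m = 2 := by omega
        subst hm2
        rcases hn with ⟨hbig, -, h2⟩ | ⟨h4, -, h4q⟩
        · refine Or.inr (Or.inl ⟨by omega, ?_⟩)
          by_contra hc
          push Not at hc
          have hsub : (Finset.univ : Finset F) ⊆ {0, 1} := fun x _ => by
            simp only [Finset.mem_insert, Finset.mem_singleton]
            exact (eq_or_ne x 0).imp id (hc x)
          have h3 := (Finset.card_le_card hsub).trans Finset.card_le_two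
          rw [Finset.card_univ] at h3
          have := Fintype.one_lt_card (α := F)
          exact h2 ⟨rfl, by omega⟩
        · refine Or.inr (Or.inr ?_)
          obtain ⟨d, hd0, hd1, hd2⟩ := MonoOver.exists_avoid (h4q rfl) (0 : F) 1 (-1)
          exact ⟨d, hd0, fun e => (mul_self_eq_one_iff.mp e).elim hd1 hd2⟩
      · exact Or.inl hm3
    · obtain ⟨h, hh, hhz⟩ := exists_signed (F := F) (π.prodCongr (Equiv.refl (Fin m)))
      have hz : ∀ a c : Fin t × Fin m, a.1 ≠ π c.1 → (h : Matrix (Fin t × Fin m) (Fin t × Fin m) F) a c = 0 := fun a c hac =>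
        hhz a c fun e => hac (by rw [e]; rfl)
      exact ⟨h, hin h hh ⟨π, hz⟩, hz⟩

theorem maximal [Fintype F] (hn : n = 6 ∨ 10 ≤ n) (hD : Cfsg.Geo.IsMDecomposition m D)
    (h1 : ¬ (m = 1 ∧ Fintype.card F ≤ 4)) (h2 : ¬ (m = 2 ∧ Fintype.card F = 2)) :
    Cfsg.Geo.IsMaximalIn (Cfsg.Geo.specialLinear (Fin n) F)
      (Cfsg.Geo.decompositionStabilizer D ⊓ Cfsg.Geo.specialLinear (Fin n) F) :=
  maximal_of (Or.inl ⟨hn, h1, h2⟩) hD

end Cfsg.Lib.Classical.LinDecomp
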