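import Mathlib
import Cfsg.Prelude.Def_GeometricClasses
import Cfsg.Agent.Classical.MaxBridge
import Cfsg.Agent.Classical.Transv.SympInSL
import Cfsg.Agent.Classical.Unitary.InSL
import Cfsg.Agent.Classical.Orth.InSLMax
import Cfsg.Agent.Classical.Orth.InSLSmall

/-! Subspace stabilisers and form similitudes are maximal in the special linear group, in small dimension. -/

set_option autoImplicit false
set_option linter.unusedVariables false

namespace Cfsg.Lib.Classical.LinGeom

theorem subspace_maximal {F : Type*} [Field F] [Fintype F] (n : ℕ) (W : Submodule F (Fin n → F)) (hW0 : W ≠ ⊥) (hW1 : W ≠ ⊤) :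
    Cfsg.Geo.IsMaximalIn (Cfsg.Geo.specialLinear (Fin n) F) (Cfsg.Geo.subspaceStabilizer W ⊓ Cfsg.Geo.specialLinear (Fin n) F) := by
  refine Cfsg.Lib.Classical.isMaximalIn_of_isCoatom_comap (Cfsg.Lib.Classical.slToGL (Fin n) F)
    (Cfsg.Lib.Classical.range_slToGL (Fin n)) ?_
  have e : (Cfsg.Geo.subspaceStabilizer W).comap (Cfsg.Lib.Classical.slToGL (Fin n) F) =
      Cfsg.Lib.Classical.slSubStabilizer W := by
    ext g
    refine forall_congr' fun x => ?_
    change (x ∈ W ↔ (Cfsg.Lib.Classical.slToGL (Fin n) F g).val.mulVec x ∈ W) ↔ _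
    rw [Cfsg.Lib.Classical.slToGL_mulVec]
  rw [e]
  exact Cfsg.Lib.Classical.isCoatom_slSubStabilizer hW0 hW1

theorem symplectic_maximal {F : Type*} [Field F] [Fintype F] (n : ℕ) (hn : 4 ≤ n) (f : (Fin n → F) → (Fin n → F) → F) (hf : Cfsg.Geo.IsSymplecticForm f) :
    Cfsg.Geo.IsMaximalIn (Cfsg.Geo.specialLinear (Fin n) F) (Cfsg.Geo.similarityGroup f ⊓ Cfsg.Geo.specialLinear (Fin n) F) := by
  let B : LinearMap.BilinForm F (Fin n → F) := LinearMap.mk₂ F f hf.bilinear.add_left
    (fun c x v => hf.bilinear.smul_left c x v) hf.bilinear.add_right (fun c v x => hf.bilinear.smul_right c v x)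
  have hA : B.IsAlt := hf.alternating
  have hB : B.Nondegenerate := by
    constructor
    · intro v hv
      by_contra hne
      obtain ⟨-, ⟨x, hx⟩⟩ := hf.nondegenerate v hne
      exact hx (hv x)
    · intro v hv
      by_contra hne
      obtain ⟨⟨x, hx⟩, -⟩ := hf.nondegenerate v hne
      exact hx (hv x)
  refine Cfsg.Lib.Classical.isMaximalIn_of_isCoatom_comap (Cfsg.Lib.Classical.slToGL (Fin n) F)
    (Cfsg.Lib.Classical.range_slToGL (Fin n)) ?_
  have e : (Cfsg.Geo.similarityGroup f).comap (Cfsg.Lib.Classical.slToGL (Fin n) F) =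
      Cfsg.Lib.Classical.slSimilitudes B := by
    ext g
    refine exists_congr fun c => forall_congr' fun x => forall_congr' fun y => ?_
    rw [Cfsg.Lib.Classical.slToGL_mulVec, Cfsg.Lib.Classical.slToGL_mulVec]
    rfl
  rw [e]
  exact Cfsg.Lib.Classical.isCoatom_slSimilitudes hA hB (by rw [Module.finrank_fin_fun]; omega)

theorem unitary_maximal {F : Type*} [Field F] [Fintype F] (n : ℕ) (hn : 4 ≤ n) (σ : F ≃+* F) (f : (Fin n → F) → (Fin n → F) → F) (hf : Cfsg.Geo.IsUnitaryForm σ f) :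
    Cfsg.Geo.IsMaximalIn (Cfsg.Geo.specialLinear (Fin n) F) (Cfsg.Geo.similarityGroup f ⊓ Cfsg.Geo.specialLinear (Fin n) F) := by
  let H : Cfsg.Lib.Classical.HermSpace F (Fin n → F) :=
    { σ := σ.toRingHom
      h := f
      conj := ⟨hf.involutive, by
        by_contra hc
        push Not at hc
        exact hf.ne_refl (RingEquiv.ext hc)⟩
      add_left := hf.add_left
      smul_left := hf.smul_left
      symm := hf.herm
      nondeg := fun v hv => by
        by_contra hne
        obtain ⟨⟨x, hx⟩, -⟩ := hf.nondegenerate v hne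
        exact hx (hv x) }
  refine Cfsg.Lib.Classical.isMaximalIn_of_isCoatom_comap (Cfsg.Lib.Classical.slToGL (Fin n) F)
    (Cfsg.Lib.Classical.range_slToGL (Fin n)) ?_
  have e : (Cfsg.Geo.similarityGroup f).comap (Cfsg.Lib.Classical.slToGL (Fin n) F) = H.slSimilitudes := by
    ext g
    refine exists_congr fun c => forall_congr' fun x => forall_congr' fun y => ?_
    change f ((Cfsg.Lib.Classical.slToGL (Fin n) F g).val.mulVec x) ((Cfsg.Lib.Classical.slToGL (Fin n) F g).val.mulVec y) = _ ↔ _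
    rw [Cfsg.Lib.Classical.slToGL_mulVec, Cfsg.Lib.Classical.slToGL_mulVec]
  rw [e]
  exact H.isCoatom_slSimilitudes (by rw [Module.finrank_fin_fun]; omega)

theorem orthogonal_maximal {F : Type*} [Field F] [Fintype F] (n : ℕ) (hn : 4 ≤ n) (hodd : Odd (Fintype.card F)) (Q : (Fin n → F) → F) (hQ : Cfsg.Geo.IsNondegenerateQuadraticForm Q) :
    Cfsg.Geo.IsMaximalIn (Cfsg.Geo.specialLinear (Fin n) F) (Cfsg.Geo.quadSimilarityGroup Q ⊓ Cfsg.Geo.specialLinear (Fin n) F) := by
  classical
  obtain ⟨hsm, hb, hn'⟩ := hQ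
  let B : LinearMap.BilinForm F (Fin n → F) := LinearMap.mk₂ F (QuadraticMap.polar Q) hb.add_left
    (fun c x v => hb.smul_left c x v) hb.add_right (fun c v x => hb.smul_right c v x)
  have hB : ∀ u v, B u v = Q (u + v) - Q u - Q v := fun u v => rfl
  have h2 : (2 : F) ≠ 0 := fun h => by
    haveI : CharP F 2 := CharTwo.of_one_ne_zero_of_two_eq_zero one_ne_zero h
    obtain ⟨m, -, hm⟩ := FiniteField.card F 2
    rw [hm] at hodd
    exact absurd hodd (by simp [Nat.even_pow, m.ne_zero])
  have hdiag : ∀ v, B v v = 2 * Q v := fun v => by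
    rw [hB, ← two_smul F v, hsm]; ring
  have S : Cfsg.Lib.Classical.SymSpace B :=
    { symm := fun u v => QuadraticMap.polar_comm Q u v
      nondeg := fun u hu => by
        by_contra hne
        obtain ⟨-, x, hx⟩ := hn' u hne
        exact hx (hu x)
      two := h2 }
  refine Cfsg.Lib.Classical.isMaximalIn_of_isCoatom_comap (Cfsg.Lib.Classical.slToGL (Fin n) F)
    (Cfsg.Lib.Classical.range_slToGL (Fin n)) ?_
  refine S.isCoatom_similitudes_five (by rw [Module.finrank_fin_fun]; omega) fun g => ?_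
  change (∃ c : Fˣ, ∀ v, Q ((Cfsg.Lib.Classical.slToGL (Fin n) F g).val.mulVec v) = c * Q v) ↔ _
  simp only [Cfsg.Lib.Classical.slToGL_mulVec]
  constructor
  · rintro ⟨c, hc⟩
    refine ⟨c, c.ne_zero, fun a b => ?_⟩
    rw [hB, hB, ← map_add, hc, hc, hc]
    ring
  · rintro ⟨c, hc0, hc⟩
    refine ⟨Units.mk0 c hc0, fun v => mul_left_cancel₀ h2 ?_⟩
    rw [← hdiag, hc, hdiag, Units.val_mk0]
    ring

end Cfsg.Lib.Classical.LinGeom
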